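import Cfsg.Agent.H533.T5.SporDefs_m3
import Cfsg.Prelude.Def_CaseTheorems
import Cfsg.Agent.FastGrp
import Cfsg.Agent.Prune
set_option linter.all false

section
prune_inst 0x7f00000000000000000000000000000000000000000000000000000000000000000000000000000000000000000000000000000000000000000000000000000000000000000000000000000000000000003fffffffffffffffffffffffffffbeffbdffffffff

-- part: H106/MBase
section
set_option linter.all false
open scoped Cfsg.Agent.FastGrp

/-!
# Basic lemmas on the middle row `MRow`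

Invariance under isomorphism, restriction to inner automorphisms, and a convenient negative form.
-/

set_option autoImplicit false

namespace Cfsg.Agent.H106.MB

open Cfsg.Agent.H533.T5 Cfsg.Agent.H957.T5M

variable {G : Type*} [Group G] {p : ℕ}

/-- All products `c ^ i * (g d g⁻¹) ^ j` (integer exponents), `g ∈ S`, are `p`-elements. -/
theorem not_mpair_iff {S : Subgroup G} {c d : G} (hc : IsOfFinOrder c) (hd : IsOfFinOrder d) :
    ¬ MPair p S c d ↔
      ∀ g ∈ S, ∀ i j : ℤ, ∃ k : ℕ, (c ^ i * (g * d * g⁻¹) ^ j) ^ p ^ k = 1 := by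
  constructor
  · intro h g hg i j
    by_contra hcon
    push Not at hcon
    apply h
    have hd' : IsOfFinOrder (g * d * g⁻¹) := by
      have := (MulAut.conj g).toMonoidHom.isOfFinOrder hd
      simpa [MulAut.conj_apply] using this
    obtain ⟨a, ha⟩ := (hc.mem_powers_iff_mem_zpowers).2 (⟨i, rfl⟩ : c ^ i ∈ Subgroup.zpowers c)
    obtain ⟨b, hb⟩ := (hd'.mem_powers_iff_mem_zpowers).2
      (⟨j, rfl⟩ : (g * d * g⁻¹) ^ j ∈ Subgroup.zpowers (g * d * g⁻¹))
    refine ⟨g, hg, a, b, fun k => ?_⟩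
    have ha' : c ^ a = c ^ i := ha
    have hb' : (g * d * g⁻¹) ^ b = (g * d * g⁻¹) ^ j := hb
    rw [ha', hb']
    exact hcon k
  · rintro h ⟨g, hg, i, j, hcon⟩
    obtain ⟨k, hk⟩ := h g hg i j
    exact hcon k (by simpa using hk)

/-- The middle row from pairs of elements of `S`, if all automorphisms of order `p` are inner. -/
theorem _root_.Cfsg.Agent.H957.T5M.MRow.of_inner {S : Type*} [Group S] [IsSimpleGroup S]
    (hna : ¬ IsMulCommutative S) {p : ℕ}
    (hout : ∀ a : MulAut S, orderOf a = p → a ∈ (MulAut.conj : S →* MulAut S).range)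
    (h : ∀ x y : S, orderOf x = p → orderOf y = p → MPair p (⊤ : Subgroup S) x y) :
    MRow p S := by
  intro c d hc hd
  obtain ⟨x, rfl⟩ := hout c hc
  obtain ⟨y, rfl⟩ := hout d hd
  have hinj := conj_injective_of_simple (S := S) hna
  rw [orderOf_injective _ hinj] at hc hd
  have := (h x y hc hd).of_injective (MulAut.conj : S →* MulAut S) hinj
  rwa [← MonoidHom.range_eq_map] at this

/-- Transport of the middle row. -/
theorem _root_.Cfsg.Agent.H957.T5M.MRow.congr {S T : Type*} [Group S] [Group T] (e : S ≃* T)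
    {p : ℕ} (h : MRow p T) : MRow p S := by
  intro c d hc hd
  let f : MulAut S ≃* MulAut T := MulAut.congr e
  have h1 := h (f c) (f d) (by rw [MulEquiv.orderOf_eq, hc]) (by rw [MulEquiv.orderOf_eq, hd])
  refine h1.of_hom f.toMonoidHom (S := (MulAut.conj : S →* MulAut S).range) ?_
  rintro _ ⟨t, rfl⟩
  refine ⟨MulAut.conj (e.symm t), ⟨e.symm t, rfl⟩, ?_⟩
  ext x
  simp [f, MulAut.congr]

end Cfsg.Agent.H106.MB
end

-- part: H106/MTools
section
set_option linter.all false
open scoped Cfsg.Agent.FastGrp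

/-!
# Tools for the middle row `MRow`

`AAHyp p` is the statement of the AA-theorem (S3833, first half) for one conjugacy class: it is
used as a hypothesis everywhere and will be discharged at the end.

* `MPair.of_aligned` : some power of some conjugate of `d` is `c * h` with `h` centralising `c` and a
  `c`-invariant subgroup `R` of `S` such that the `R`-conjugates of `c` generate a non-solvable group.
* `mpair_of_isConj_zpow`, `mpair_of_cyclic` : one class of subgroups of order `p`.
* `mpair_of_irreducible` : abelian Sylow subgroup.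
* `mpair_of_subgroup`, `mpair_of_index`: reduction to a subgroup containing a Sylow `p`-subgroup.
-/

set_option autoImplicit false

universe u

namespace Cfsg.Agent.H106.MT

open Cfsg.Agent.H533.T5 Cfsg.Agent.H957.T5M Cfsg.Agent.H106.MB

/-- The AA-theorem for one conjugacy class of elements of order `p`. -/
def AAHyp (p : ℕ) : Prop :=
  ∀ (K : Type u) [Group K] [Finite K] (x : K), orderOf x = p →
    (∀ g : K, ∃ k : ℕ, (x * (g * x * g⁻¹)) ^ p ^ k = 1) →
    Group.IsSolvable ↥(Subgroup.closure {y : K | ∃ g : K, y = g * x * g⁻¹})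

variable {G : Type u} [Group G] {p : ℕ}

/-- The AA-theorem relative to a subgroup `R` normalised by `c`. -/
theorem solvable_of_AA [Finite G] (hAA : AAHyp.{u} p) {R : Subgroup G} {c : G} (hc : orderOf c = p)
    (hcR : ∀ r ∈ R, c * r * c⁻¹ ∈ R)
    (h : ∀ r ∈ R, ∃ k : ℕ, (c * (r * c * r⁻¹)) ^ p ^ k = 1) :
    Group.IsSolvable ↥(Subgroup.closure {y : G | ∃ r ∈ R, y = r * c * r⁻¹}) := by
  classical
  -- the subgroup `R ⟨c⟩`
  have hcR' : ∀ i : ℕ, ∀ r ∈ R, c ^ i * r * (c ^ i)⁻¹ ∈ R := by
    intro i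
    induction i with
    | zero => intro r hr; simpa using hr
    | succ i ih =>
      intro r hr
      have := hcR _ (ih r hr)
      have h2 : c * (c ^ i * r * (c ^ i)⁻¹) * c⁻¹ = c ^ (i + 1) * r * (c ^ (i + 1))⁻¹ := by
        rw [pow_succ']; group
      rwa [h2] at this
  have hfin : IsOfFinOrder c := isOfFinOrder_of_finite c
  have hcinv : ∀ i : ℕ, ∃ m : ℕ, (c ^ i)⁻¹ = c ^ m := by
    intro i
    have := (hfin.mem_powers_iff_mem_zpowers).2
      (Subgroup.inv_mem _ ⟨(i : ℤ), rfl⟩ : (c ^ (i : ℤ))⁻¹ ∈ Subgroup.zpowers c)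
    obtain ⟨m, hm⟩ := this
    refine ⟨m, ?_⟩
    rw [zpow_natCast] at hm
    exact hm.symm
  have hcRinv : ∀ i : ℕ, ∀ r ∈ R, (c ^ i)⁻¹ * r * c ^ i ∈ R := by
    intro i r hr
    obtain ⟨m, hm⟩ := hcinv i
    have := hcR' m r hr
    rw [← hm] at this
    simpa using this
  let K : Subgroup G :=
    { carrier := {x | ∃ r ∈ R, ∃ i : ℕ, x = r * c ^ i}
      one_mem' := ⟨1, one_mem _, 0, by simp⟩
      mul_mem' := by
        rintro _ _ ⟨r, hr, i, rfl⟩ ⟨s, hs, j, rfl⟩
        refine ⟨r * (c ^ i * s * (c ^ i)⁻¹), mul_mem hr (hcR' i s hs), i + j, ?_⟩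
        rw [pow_add]; group
      inv_mem' := by
        rintro _ ⟨r, hr, i, rfl⟩
        obtain ⟨m, hm⟩ := hcinv i
        refine ⟨(c ^ i)⁻¹ * r⁻¹ * c ^ i, hcRinv i _ (inv_mem hr), m, ?_⟩
        rw [← hm]; group }
  have hcK : c ∈ K := ⟨1, one_mem _, 1, by simp⟩
  have hRK : R ≤ K := fun r hr => ⟨r, hr, 0, by simp⟩
  let c' : K := ⟨c, hcK⟩
  have hc' : orderOf c' = p := by rw [← hc]; exact (Subgroup.orderOf_mk c hcK)
  have hconj : ∀ g : K, ∃ r ∈ R, (g : G) * c * (g : G)⁻¹ = r * c * r⁻¹ := by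
    rintro ⟨_, r, hr, i, rfl⟩
    refine ⟨r, hr, ?_⟩
    have : c ^ i * c * (c ^ i)⁻¹ = c := by
      rw [← pow_succ, pow_succ']; group
    calc r * c ^ i * c * (r * c ^ i)⁻¹ = r * (c ^ i * c * (c ^ i)⁻¹) * r⁻¹ := by group
      _ = _ := by rw [this]
  have h1 := hAA K c' hc' (by
    intro g
    obtain ⟨r, hr, h2⟩ := hconj g
    obtain ⟨k, hk⟩ := h r hr
    refine ⟨k, Subtype.ext ?_⟩
    change (c * ((g : G) * c * (g : G)⁻¹)) ^ p ^ k = 1
    rw [h2]; exact hk)
  have h2 : (Subgroup.closure {y : K | ∃ g : K, y = g * c' * g⁻¹}).map K.subtype =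
      Subgroup.closure {y : G | ∃ r ∈ R, y = r * c * r⁻¹} := by
    rw [MonoidHom.map_closure]
    congr 1
    ext y
    constructor
    · rintro ⟨_, ⟨g, rfl⟩, rfl⟩
      obtain ⟨r, hr, h3⟩ := hconj g
      exact ⟨r, hr, h3⟩
    · rintro ⟨r, hr, rfl⟩
      exact ⟨⟨r, hRK hr⟩ * c' * ⟨r, hRK hr⟩⁻¹, ⟨⟨r, hRK hr⟩, rfl⟩, rfl⟩
  rw [← h2]
  exact Group.isSolvable_of_surjective (f := K.subtype.subgroupMap _)
    (K.subtype.subgroupMap_surjective _)

/-- **Aligned elements.** -/
theorem MPair.of_aligned [Finite G] (hAA : AAHyp.{u} p) {S R : Subgroup G} (hRS : R ≤ S) {c d : G}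
    (hc : orderOf c = p) (hcR : ∀ r ∈ R, c * r * c⁻¹ ∈ R) {s : G} (hs : s ∈ S) (j : ℤ) {h : G}
    (hch : Commute c h) (hRh : ∀ r ∈ R, Commute r h) (hh : ∃ k : ℕ, h ^ p ^ k = 1)
    (hd : (s * d * s⁻¹) ^ j = c * h)
    (hns : ¬ Group.IsSolvable ↥(Subgroup.closure {y : G | ∃ r ∈ R, y = r * c * r⁻¹})) :
    MPair p S c d := by
  by_contra hcon
  rw [not_mpair_iff (isOfFinOrder_of_finite c) (isOfFinOrder_of_finite d)] at hcon
  apply hns
  refine solvable_of_AA hAA hc hcR ?_
  intro r hr
  obtain ⟨k, hk⟩ := hcon (r * s) (mul_mem (hRS hr) hs) 1 j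
  obtain ⟨m, hm⟩ := hh
  refine ⟨k + m, ?_⟩
  have h1 : (r * s * d * (r * s)⁻¹) ^ j = r * c * r⁻¹ * h := by
    have h2 : r * s * d * (r * s)⁻¹ = r * (s * d * s⁻¹) * r⁻¹ := by group
    rw [h2, conj_zpow, hd]
    have h3 := (hRh r hr).eq
    calc r * (c * h) * r⁻¹ = r * c * (h * r⁻¹) := by group
      _ = r * c * (r⁻¹ * h) := by rw [((hRh r hr).inv_left).eq]
      _ = _ := by group
  rw [zpow_one, h1] at hk
  have h4 : Commute (c * (r * c * r⁻¹)) h :=
    hch.mul_left (((hRh r hr).mul_left hch).mul_left (hRh r hr).inv_left)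
  have h5 : c * (r * c * r⁻¹ * h) = c * (r * c * r⁻¹) * h := by group
  rw [h5, h4.mul_pow] at hk
  have h6 : (c * (r * c * r⁻¹)) ^ p ^ k = (h ^ p ^ k)⁻¹ := eq_inv_of_mul_eq_one_left hk
  rw [pow_add, pow_mul, h6, inv_pow, ← pow_mul, mul_comm, pow_mul, hm, one_pow, inv_one]

/-- In a simple group the conjugates of a non-trivial element generate a non-solvable group. -/
theorem not_solvable_simple {S : Type*} [Group S] [IsSimpleGroup S] (hna : ¬ IsMulCommutative S)
    {c : S} (hc : c ≠ 1) :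
    ¬ Group.IsSolvable ↥(Subgroup.closure {y : S | ∃ r ∈ (⊤ : Subgroup S), y = r * c * r⁻¹}) := by
  intro hsol
  have hn : (Subgroup.closure {y : S | ∃ r ∈ (⊤ : Subgroup S), y = r * c * r⁻¹}).Normal := by
    constructor
    intro x hx g
    induction hx using Subgroup.closure_induction with
    | mem x hx =>
      obtain ⟨h, -, rfl⟩ := hx
      exact Subgroup.subset_closure ⟨g * h, Subgroup.mem_top _, by group⟩
    | one => simp only [_root_.Subgroup.mem_top, _root_.true_and, _root_.mul_one, _root_.mul_inv_cancel, _root_.OneMemClass.one_mem]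
    | mul x y _ _ hx hy =>
      have : g * (x * y) * g⁻¹ = (g * x * g⁻¹) * (g * y * g⁻¹) := by group
      rw [this]; exact mul_mem hx hy
    | inv x _ hx =>
      have : g * x⁻¹ * g⁻¹ = (g * x * g⁻¹)⁻¹ := by group
      rw [this]; exact inv_mem hx
  have hne : Subgroup.closure {y : S | ∃ r ∈ (⊤ : Subgroup S), y = r * c * r⁻¹} ≠ ⊥ := by
    intro hb
    apply hc
    have : c ∈ Subgroup.closure {y : S | ∃ r ∈ (⊤ : Subgroup S), y = r * c * r⁻¹} :=
      Subgroup.subset_closure ⟨1, Subgroup.mem_top _, by simp⟩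
    rwa [hb, Subgroup.mem_bot] at this
  have htop := hn.eq_bot_or_eq_top.resolve_left hne
  rw [htop] at hsol
  have h1 : Group.IsSolvable S :=
    Group.isSolvable_of_surjective (f := (Subgroup.topEquiv (G := S)).toMonoidHom)
      (Subgroup.topEquiv (G := S)).surjective
  apply hna
  have h2 := IsSimpleGroup.comm_iff_isSolvable.2 h1
  exact ⟨⟨h2⟩⟩

variable {S : Type u} [Group S] [Finite S]

/-- A power of `y` is conjugate to `x`. -/
theorem mpair_of_isConj_zpow (hAA : AAHyp.{u} p) (hp : p.Prime) [IsSimpleGroup S]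
    (hna : ¬ IsMulCommutative S) {x y : S} (hx : orderOf x = p) {s : S} {j : ℤ}
    (h : (s * y * s⁻¹) ^ j = x) : MPair p (⊤ : Subgroup S) x y := by
  refine MPair.of_aligned (R := ⊤) hAA le_rfl hx (fun r _ => Subgroup.mem_top _)
    (Subgroup.mem_top s) j (h := 1) (Commute.one_right _) (fun r _ => Commute.one_right _)
    ⟨0, by simp⟩ (by rw [h, mul_one]) (not_solvable_simple hna ?_)
  rintro rfl
  rw [orderOf_one] at hx
  exact hp.one_lt.ne hx

/-- A finite cyclic group has only one subgroup of order `p`. -/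
theorem mem_zpowers_of_cyclic {C : Type*} [Group C] [Finite C] [IsCyclic C] (hp : p.Prime) {u v : C}
    (hu : orderOf u = p) (hv : orderOf v = p) : u ∈ Subgroup.zpowers v := by
  classical
  have := Fintype.ofFinite C
  have h1 := IsCyclic.card_pow_eq_one_le (α := C) hp.pos
  have h2 : (Finset.univ.filter fun x : C => x ∈ Subgroup.zpowers v) ⊆
      Finset.univ.filter fun x : C => x ^ p = 1 := by
    intro x hx
    simp only [Finset.mem_filter, Finset.mem_univ, true_and] at hx ⊢
    obtain ⟨i, rfl⟩ := Subgroup.mem_zpowers_iff.1 hx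
    rw [← zpow_natCast, ← zpow_mul, mul_comm, zpow_mul, zpow_natCast, ← hv, pow_orderOf_eq_one,
      one_zpow]
  have h3 : (Finset.univ.filter fun x : C => x ∈ Subgroup.zpowers v).card = p := by
    rw [← hv, ← Nat.card_zpowers, Nat.card_eq_fintype_card, Fintype.card_subtype]
  have h4 := Finset.eq_of_subset_of_card_le h2 (by rw [h3]; exact h1)
  have h5 : u ∈ Finset.univ.filter fun x : C => x ∈ Subgroup.zpowers v := by
    rw [h4]
    simp only [Finset.mem_filter, Finset.mem_univ, true_and]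
    rw [← hu]; exact pow_orderOf_eq_one u
  simpa using h5

/-- In a group with a cyclic Sylow `p`-subgroup all subgroups of order `p` are conjugate. -/
theorem exists_conj_of_cyclic [Fact p.Prime] (P : Sylow p S) (hP : IsCyclic ↥(P : Subgroup S))
    {x y : S} (hx : orderOf x = p) (hy : orderOf y = p) :
    ∃ s : S, ∃ j : ℤ, (s * y * s⁻¹) ^ j = x := by
  classical
  have hp : p.Prime := Fact.out
  -- conjugates in `P`
  have key : ∀ z : S, orderOf z = p → ∃ g : S, g * z * g⁻¹ ∈ (P : Subgroup S) := by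
    intro z hz
    have h1 : IsPGroup p ↥(Subgroup.zpowers z) := by
      rw [IsPGroup.iff_card]
      exact ⟨1, by rw [Nat.card_zpowers, hz, pow_one]⟩
    obtain ⟨Q, hQ⟩ := h1.exists_le_sylow
    obtain ⟨g, hg⟩ := MulAction.exists_smul_eq S Q P
    refine ⟨g, ?_⟩
    have : MulAut.conj g z ∈ (g • Q : Sylow p S) :=
      Subgroup.smul_mem_pointwise_smul z (MulAut.conj g) (Q : Subgroup S)
        (hQ (Subgroup.mem_zpowers z))
    rw [hg] at this
    exact this
  obtain ⟨a, ha⟩ := key x hx
  obtain ⟨b, hb⟩ := key y hy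
  have hord : ∀ z : S, orderOf z = p → ∀ g : S, ∀ hz : g * z * g⁻¹ ∈ (P : Subgroup S),
      orderOf (⟨g * z * g⁻¹, hz⟩ : ↥(P : Subgroup S)) = p := by
    intro z hz g hg
    rw [Subgroup.orderOf_mk]
    have : orderOf (g * z * g⁻¹) = orderOf z :=
      orderOf_injective (MulAut.conj g).toMonoidHom (MulAut.conj g).injective z
    rw [this, hz]
  have hmem := mem_zpowers_of_cyclic hp (hord x hx a ha) (hord y hy b hb)
  obtain ⟨j, hj⟩ := Subgroup.mem_zpowers_iff.1 hmem
  have hj' : (b * y * b⁻¹) ^ j = a * x * a⁻¹ := by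
    have := congrArg Subtype.val hj
    simpa only [_root_.conj_zpow, _root_.SubgroupClass.coe_zpow] using this
  refine ⟨a⁻¹ * b, j, ?_⟩
  have h1 : a⁻¹ * b * y * (a⁻¹ * b)⁻¹ = a⁻¹ * (b * y * b⁻¹) * a⁻¹⁻¹ := by group
  rw [h1, conj_zpow, hj']
  group

theorem mpair_of_cyclic (hAA : AAHyp.{u} p) [Fact p.Prime] [IsSimpleGroup S]
    (hna : ¬ IsMulCommutative S) (P : Sylow p S) (hP : IsCyclic ↥(P : Subgroup S)) {x y : S}
    (hx : orderOf x = p) (hy : orderOf y = p) : MPair p (⊤ : Subgroup S) x y := by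
  obtain ⟨s, j, h⟩ := exists_conj_of_cyclic P hP hx hy
  exact mpair_of_isConj_zpow hAA Fact.out hna hx h

/-- Every element of order `p` is conjugate into a given Sylow `p`-subgroup. -/
theorem exists_conj_mem_sylow [Fact p.Prime] (P : Sylow p S) {z : S} (hz : orderOf z = p) :
    ∃ g : S, g * z * g⁻¹ ∈ (P : Subgroup S) := by
  have h1 : IsPGroup p ↥(Subgroup.zpowers z) := by
    rw [IsPGroup.iff_card]
    exact ⟨1, by rw [Nat.card_zpowers, hz, pow_one]⟩
  obtain ⟨Q, hQ⟩ := h1.exists_le_sylow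
  obtain ⟨g, hg⟩ := MulAction.exists_smul_eq S Q P
  refine ⟨g, ?_⟩
  have : MulAut.conj g z ∈ (g • Q : Sylow p S) :=
    Subgroup.smul_mem_pointwise_smul z (MulAut.conj g) (Q : Subgroup S)
      (hQ (Subgroup.mem_zpowers z))
  rw [hg] at this
  exact this

theorem orderOf_cj (g z : G) : orderOf (g * z * g⁻¹) = orderOf z :=
  orderOf_injective (MulAut.conj g).toMonoidHom (MulAut.conj g).injective z

/-- In a group `Ω` with a subgroup `H` of index `p`, every element is a power of a given element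
outside `H`, modulo `H`. -/
theorem exists_zpow_mem [Fact p.Prime] {Ω H : Subgroup G} (hHΩ : H ≤ Ω)
    (hab : ∀ a ∈ Ω, ∀ b ∈ Ω, Commute a b) (hidx : H.relIndex Ω = p) {c d : G} (hc : c ∈ Ω)
    (hd : d ∈ Ω) (hdH : d ∉ H) : ∃ j : ℤ, c⁻¹ * d ^ j ∈ H := by
  have hp : p.Prime := Fact.out
  let H' : Subgroup Ω := H.subgroupOf Ω
  have hn : H'.Normal := by
    constructor
    rintro ⟨a, ha⟩ hmem ⟨b, hb⟩
    rw [Subgroup.mem_subgroupOf] at hmem ⊢
    change b * a * b⁻¹ ∈ H
    have : b * a * b⁻¹ = a := by rw [(hab b hb a ha).eq]; group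
    rwa [this]
  have hcard : Nat.card (Ω ⧸ H') = p := by
    rw [← Subgroup.index_eq_card]; exact hidx
  have hne : ((⟨d, hd⟩ : Ω) : Ω ⧸ H') ≠ 1 := by
    intro h
    rw [QuotientGroup.eq_one_iff] at h
    exact hdH h
  have := Fact.mk hp
  have h1 : Subgroup.zpowers ((⟨d, hd⟩ : Ω) : Ω ⧸ H') = ⊤ := by
    have : Fact (Nat.card (Ω ⧸ H')).Prime := ⟨by rw [hcard]; exact hp⟩
    exact zpowers_eq_top_of_prime_card rfl hne
  obtain ⟨j, hj⟩ := Subgroup.mem_zpowers_iff.1 (show ((⟨c, hc⟩ : Ω) : Ω ⧸ H') ∈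
    Subgroup.zpowers ((⟨d, hd⟩ : Ω) : Ω ⧸ H') by rw [h1]; exact Subgroup.mem_top _)
  refine ⟨j, ?_⟩
  have h2 : ((⟨c, hc⟩ : Ω) : Ω ⧸ H') = (((⟨d, hd⟩ : Ω) ^ j : Ω) : Ω ⧸ H') := by
    rw [← hj]; rfl
  rw [QuotientGroup.eq] at h2
  exact h2

/-- The middle row of `K` gives pairs in `K`. -/
theorem _root_.Cfsg.Agent.H957.T5M.MRow.pair {K : Type*} [Group K] [IsSimpleGroup K]
    (hna : ¬ IsMulCommutative K) (h : MRow p K) {a b : K} (ha : orderOf a = p)
    (hb : orderOf b = p) : MPair p (⊤ : Subgroup K) a b := by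
  have hinj := conj_injective_of_simple (S := K) hna
  have h1 := h (MulAut.conj a) (MulAut.conj b) (by rw [orderOf_injective _ hinj, ha])
    (by rw [orderOf_injective _ hinj, hb])
  exact h1.of_hom (MulAut.conj : K →* MulAut K) (by rw [← MonoidHom.range_eq_map])

omit [Finite S] in
/-- **Subgroups meeting the classes**: `K` simple with a middle row embedded in `S`, and `x`, `y`
conjugate to elements of `K`. -/
theorem mpair_of_embedding {K : Type*} [Group K] [IsSimpleGroup K] (hna : ¬ IsMulCommutative K)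
    (h : MRow p K) (f : K →* S) (hf : Function.Injective f) {x y : S} (hx : orderOf x = p)
    (hy : orderOf y = p) (hxK : ∃ (a : K) (s : S), f a = s * x * s⁻¹)
    (hyK : ∃ (b : K) (s : S), f b = s * y * s⁻¹) : MPair p (⊤ : Subgroup S) x y := by
  obtain ⟨a, s, ha⟩ := hxK
  obtain ⟨b, t, hb⟩ := hyK
  have ha' : orderOf a = p := by rw [← orderOf_injective f hf, ha, orderOf_cj, hx]
  have hb' : orderOf b = p := by rw [← orderOf_injective f hf, hb, orderOf_cj, hy]
  have h1 := (h.pair hna ha' hb').of_injective f hf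
  rw [ha, hb] at h1
  exact ((h1.mono le_top).conj_left (Subgroup.mem_top _)).conj_right (Subgroup.mem_top _)

/-- A simple subgroup of index prime to `p`. -/
theorem mpair_of_index [Fact p.Prime] {K : Type*} [Group K] [IsSimpleGroup K]
    (hna : ¬ IsMulCommutative K) (h : MRow p K) (T : Subgroup S) (hT : ¬ p ∣ T.index)
    (e : T ≃* K) {x y : S} (hx : orderOf x = p) (hy : orderOf y = p) :
    MPair p (⊤ : Subgroup S) x y := by
  obtain ⟨Q⟩ : Nonempty (Sylow p T) := inferInstance
  -- the Sylow subgroup of `T` is a Sylow subgroup of `S`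
  let Q' : Subgroup S := (Q : Subgroup T).map T.subtype
  have hQ' : IsPGroup p Q' := Q.isPGroup'.map _
  have hidx : ¬ p ∣ Q'.index := by
    have h1 : Q'.index = (Q : Subgroup T).index * T.index := Subgroup.index_map_subtype _
    rw [h1]
    intro hdvd
    rcases (Nat.Prime.dvd_mul Fact.out).1 hdvd with h2 | h2
    · exact Q.not_dvd_index h2
    · exact hT h2
  let P : Sylow p S := hQ'.toSylow hidx
  have hmem : ∀ z : S, orderOf z = p → ∃ (a : K) (s : S),
      (T.subtype.comp e.symm.toMonoidHom) a = s * z * s⁻¹ := by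
    intro z hz
    obtain ⟨g, hg⟩ := exists_conj_mem_sylow P hz
    obtain ⟨t, -, ht⟩ := hg
    exact ⟨e t, g, by simpa only [_root_.MulEquiv.toMonoidHom_eq_coe, _root_.MonoidHom.coe_comp, _root_.Subgroup.coe_subtype, _root_.MonoidHom.coe_coe, _root_.Function.comp_apply, _root_.MulEquiv.symm_apply_apply, _root_.Subgroup.subtype_apply] using ht⟩
  exact mpair_of_embedding hna h (T.subtype.comp e.symm.toMonoidHom)
    (T.subtype_injective.comp e.symm.injective) hx hy (hmem x hx) (hmem y hy)

end Cfsg.Agent.H106.MT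
end

-- part: H106/MTools2
section
set_option linter.all false
open scoped Cfsg.Agent.FastGrp

/-!
# More tools for the middle row: components and outer automorphisms

* `not_solvable_of_quasisimple`: `R` quasisimple, normalised but not centralised by `c`: the
  `R`-conjugates of `c` generate a non-solvable group.
* `mpair_of_quasisimple`: `c`, `d` normalise and do not centralise the quasisimple `L ≤ S`.
* `mpair_outer_outer`, `mpair_inner_outer`: outer automorphisms of order `p`.
-/

set_option autoImplicit false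

universe u

namespace Cfsg.Agent.H106.MT

open Cfsg.Agent.H533.T5 Cfsg.Agent.H957.T5M Cfsg.Agent.H106.MB

section quasi

theorem isPerfect_iff {R : Type*} [Group R] : Group.IsPerfect R ↔ commutator R = ⊤ :=
  ⟨fun h => h.commutator_eq_top, fun h => ⟨h⟩⟩

/-- An automorphism of a perfect group trivial modulo the center is trivial. -/
theorem aut_eq_one_of_center {R : Type*} [Group R] (hperf : commutator R = ⊤) (α : MulAut R)
    (h : ∀ r, r * (α r)⁻¹ ∈ Subgroup.center R) : α = 1 := by
  let E : Subgroup R :=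
    { carrier := {r | α r = r}
      one_mem' := map_one α
      mul_mem' := by
        intro a b ha hb
        change α (a * b) = a * b
        rw [map_mul, show α a = a from ha, show α b = b from hb]
      inv_mem' := by
        intro a ha
        change α a⁻¹ = a⁻¹
        rw [map_inv, show α a = a from ha] }
  have h1 : commutator R ≤ E := by
    rw [commutator_eq_closure, Subgroup.closure_le]
    rintro _ ⟨a, b, rfl⟩
    change α (a * b * a⁻¹ * b⁻¹) = a * b * a⁻¹ * b⁻¹
    have ha := fun g => Subgroup.mem_center_iff.1 (h a) g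
    have hb := fun g => Subgroup.mem_center_iff.1 (h b) g
    set u := a * (α a)⁻¹ with hu
    set v := b * (α b)⁻¹ with hv
    have ea : α a = u⁻¹ * a := by rw [hu]; group
    have eb : α b = v⁻¹ * b := by rw [hv]; group
    rw [map_mul, map_mul, map_mul, map_inv, map_inv, ea, eb]
    have hu' : ∀ g, g * u⁻¹ = u⁻¹ * g := fun g => by
      rw [eq_inv_mul_iff_mul_eq, ← mul_assoc, ← ha g]; group
    calc u⁻¹ * a * (v⁻¹ * b) * (u⁻¹ * a)⁻¹ * (v⁻¹ * b)⁻¹
        = u⁻¹ * a * v⁻¹ * b * (a⁻¹ * u) * b⁻¹ * v := by group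
      _ = u⁻¹ * a * v⁻¹ * b * (u * a⁻¹) * b⁻¹ * v := by rw [← ha a⁻¹]
      _ = u⁻¹ * a * v⁻¹ * (b * u) * a⁻¹ * b⁻¹ * v := by group
      _ = u⁻¹ * a * v⁻¹ * (u * b) * a⁻¹ * b⁻¹ * v := by rw [ha b]
      _ = u⁻¹ * (a * v⁻¹ * u) * b * a⁻¹ * b⁻¹ * v := by group
      _ = u⁻¹ * (u * (a * v⁻¹)) * b * a⁻¹ * b⁻¹ * v := by rw [ha (a * v⁻¹)]
      _ = a * (v⁻¹ * (b * a⁻¹ * b⁻¹ * v)) := by group
      _ = a * (v⁻¹ * (v * (b * a⁻¹ * b⁻¹))) := by rw [hb (b * a⁻¹ * b⁻¹)]
      _ = _ := by group
  rw [hperf] at h1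
  ext r
  exact h1 (Subgroup.mem_top r)

variable {G : Type*} [Group G]

/-- `R` quasisimple, normalised but not centralised by `c`. -/
theorem not_solvable_of_quasisimple {R : Subgroup G} (hq : IsQuasisimple R) {c : G}
    (hcR : ∀ r ∈ R, c * r * c⁻¹ ∈ R) (hcR' : ∀ r ∈ R, c⁻¹ * r * c ∈ R)
    (hne : ∃ r ∈ R, ¬ Commute r c) :
    ¬ Group.IsSolvable ↥(Subgroup.closure {y : G | ∃ r ∈ R, y = r * c * r⁻¹}) := by
  intro hsol
  have hperf : commutator R = ⊤ := isPerfect_iff.1 hq.1
  set T : Subgroup G := Subgroup.closure {y : G | ∃ r ∈ R, y = r * c * r⁻¹} with hT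
  have hTR : ∀ r ∈ R, ∀ x ∈ T, r * x * r⁻¹ ∈ T := by
    intro r hr x hx
    induction hx using Subgroup.closure_induction with
    | mem x hx =>
      obtain ⟨s, hs, rfl⟩ := hx
      exact Subgroup.subset_closure ⟨r * s, mul_mem hr hs, by group⟩
    | one => simp
    | mul x y _ _ hx hy =>
      have : r * (x * y) * r⁻¹ = (r * x * r⁻¹) * (r * y * r⁻¹) := by group
      rw [this]; exact mul_mem hx hy
    | inv x _ hx =>
      have : r * x⁻¹ * r⁻¹ = (r * x * r⁻¹)⁻¹ := by group
      rw [this]; exact inv_mem hx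
  let N : Subgroup R := T.subgroupOf R
  have hN : N.Normal := by
    constructor
    rintro ⟨x, hx⟩ hmem ⟨r, hr⟩
    rw [Subgroup.mem_subgroupOf] at hmem ⊢
    exact hTR r hr x hmem
  have hNs : Group.IsSolvable N := by
    refine Group.isSolvable_of_isSolvable_injective
      (f := (Subgroup.inclusion (show N.map R.subtype ≤ T from ?_)).comp
        (R.subtype.subgroupMap N)) ?_
    · rintro _ ⟨x, hx, rfl⟩
      exact hx
    · intro a b hab
      have := congrArg Subtype.val hab
      apply Subtype.ext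
      apply Subtype.ext
      exact this
  -- the image of `N` in the simple quotient
  have hs := hq.2
  have hmapn : (N.map (QuotientGroup.mk' (Subgroup.center R))).Normal :=
    hN.map _ (QuotientGroup.mk'_surjective _)
  rcases hmapn.eq_bot_or_eq_top with hb | ht
  · -- `N ≤ Z(R)`
    have hNZ : N ≤ Subgroup.center R := by
      rw [Subgroup.map_eq_bot_iff, QuotientGroup.ker_mk'] at hb
      exact hb
    let α : MulAut R :=
      { toFun := fun r => ⟨c * r * c⁻¹, hcR r r.2⟩
        invFun := fun r => ⟨c⁻¹ * r * c, hcR' r r.2⟩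
        left_inv := fun r => Subtype.ext (by simp [mul_assoc])
        right_inv := fun r => Subtype.ext (by simp [mul_assoc])
        map_mul' := fun r s => Subtype.ext (by simp only [mul_assoc, _root_.Subgroup.coe_mul, _root_.MulMemClass.mk_mul_mk, _root_.inv_mul_cancel_left]) }
    have hα : α = 1 := by
      refine aut_eq_one_of_center hperf α fun r => hNZ ?_
      rw [Subgroup.mem_subgroupOf]
      change (r : G) * (c * r * c⁻¹)⁻¹ ∈ T
      have h1 : (r : G) * (c * r * c⁻¹)⁻¹ = r * c * (r : G)⁻¹ * c⁻¹ := by group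
      rw [h1]
      refine mul_mem (Subgroup.subset_closure ⟨r, r.2, rfl⟩) (inv_mem ?_)
      exact Subgroup.subset_closure ⟨1, one_mem _, by simp⟩
    obtain ⟨r, hr, hrc⟩ := hne
    apply hrc
    have h1 : c * r * c⁻¹ = r := by
      have := congrArg (fun f : MulAut R => ((f ⟨r, hr⟩ : R) : G)) hα
      exact this
    exact (mul_inv_eq_iff_eq_mul.1 h1).symm
  · -- `R / Z(R)` is solvable
    have h1 : Group.IsSolvable ↥(N.map (QuotientGroup.mk' (Subgroup.center R))) :=
      Group.isSolvable_of_surjective (f := (QuotientGroup.mk' (Subgroup.center R)).subgroupMap N)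
        ((QuotientGroup.mk' (Subgroup.center R)).subgroupMap_surjective N)
    rw [ht] at h1
    have h2 : Group.IsSolvable (R ⧸ Subgroup.center R) :=
      Group.isSolvable_of_surjective
        (f := (Subgroup.topEquiv (G := R ⧸ Subgroup.center R)).toMonoidHom)
        (Subgroup.topEquiv (G := R ⧸ Subgroup.center R)).surjective
    have h3 := IsSimpleGroup.comm_iff_isSolvable.2 h2
    -- then `R` is abelian modulo its center, so `R = [R,R] ≤ Z(R)`
    have h4 : commutator R ≤ Subgroup.center R := by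
      rw [commutator_eq_closure, Subgroup.closure_le]
      rintro _ ⟨a, b, rfl⟩
      have h5 : ((a * b * a⁻¹ * b⁻¹ : R) : R ⧸ Subgroup.center R) = 1 := by
        change (a : R ⧸ Subgroup.center R) * b * (a : R ⧸ Subgroup.center R)⁻¹ *
          (b : R ⧸ Subgroup.center R)⁻¹ = 1
        rw [h3 (a : R ⧸ Subgroup.center R) b]; group
      exact (QuotientGroup.eq_one_iff _).1 h5
    rw [hperf] at h4
    have h5 : Subsingleton (R ⧸ Subgroup.center R) := by
      rw [top_le_iff.1 h4]
      exact QuotientGroup.subsingleton_quotient_top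
    have h6 : Nontrivial (R ⧸ Subgroup.center R) := hs.toNontrivial
    exact not_subsingleton _ h5

end quasi

section comp

/-- Automorphisms act on the quotient by the center. -/
def quotAut (R : Type*) [Group R] : MulAut R →* MulAut (R ⧸ Subgroup.center R) where
  toFun α := QuotientGroup.congr (Subgroup.center R) (Subgroup.center R) α (by
    ext x
    constructor
    · rintro ⟨y, hy, rfl⟩
      rw [Subgroup.mem_center_iff]
      intro g
      obtain ⟨z, rfl⟩ := α.surjective g
      have := Subgroup.mem_center_iff.1 hy z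
      have h2 := congrArg α this
      simpa only [_root_.MonoidHom.coe_coe, _root_.map_mul] using h2
    · intro hx
      refine ⟨α.symm x, ?_, by simp⟩
      change α.symm x ∈ Subgroup.center R
      rw [Subgroup.mem_center_iff]
      intro g
      have := Subgroup.mem_center_iff.1 hx (α g)
      have h2 := congrArg α.symm this
      simpa only [_root_.map_mul, _root_.MulEquiv.symm_apply_apply] using h2)
  map_one' := by
    ext x
    obtain ⟨y, rfl⟩ := QuotientGroup.mk_surjective x
    rfl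
  map_mul' α β := by
    ext x
    obtain ⟨y, rfl⟩ := QuotientGroup.mk_surjective x
    rfl

variable {G : Type*} [Group G] {p : ℕ}

/-- The same for a simple `L`. -/
theorem mpair_of_simple (hp : p.Prime) {S L : Subgroup G} (hLS : L ≤ S)
    (hrow : MRow p L) {c d : G}
    (hc : orderOf c = p) (hd : orderOf d = p)
    (hcL : c ∈ Subgroup.normalizer (L : Set G)) (hdL : d ∈ Subgroup.normalizer (L : Set G))
    (hc' : ∃ r ∈ L, ¬ Commute r c) (hd' : ∃ r ∈ L, ¬ Commute r d) : MPair p S c d := by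
  let M : Subgroup G := Subgroup.normalizer (L : Set G)
  let φ : M →* MulAut L := L.normalizerMonoidHom
  have hord : ∀ (x : G) (hx : x ∈ M), orderOf x = p → (∃ r ∈ L, ¬ Commute r x) →
      orderOf (φ ⟨x, hx⟩) = p := by
    intro x hx hxp hne
    have h1 : orderOf (φ ⟨x, hx⟩) ∣ p := by
      rw [← hxp, ← Subgroup.orderOf_mk x hx]
      exact orderOf_map_dvd _ _
    rcases (Nat.dvd_prime hp).1 h1 with h2 | h2
    · exfalso
      rw [orderOf_eq_one_iff] at h2
      obtain ⟨r, hr, hrx⟩ := hne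
      apply hrx
      have h4 := congrArg (fun f : MulAut L => ((f ⟨r, hr⟩ : L) : G)) h2
      change x * r * x⁻¹ = r at h4
      exact (mul_inv_eq_iff_eq_mul.1 h4).symm
    · exact h2
  have h1 := hrow (φ ⟨c, hcL⟩) (φ ⟨d, hdL⟩) (hord c hcL hc hc') (hord d hdL hd hd')
  refine MPair.of_section (M := M) (c := ⟨c, hcL⟩) (d := ⟨d, hdL⟩) φ ?_ h1
  rintro _ ⟨l, rfl⟩
  have hlM : (l : G) ∈ M := Subgroup.le_normalizer l.2
  refine ⟨⟨l, hlM⟩, hLS l.2, ?_⟩
  ext x
  rfl

end comp

section outer

variable {S : Type u} [Group S] [Finite S] {p : ℕ}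

/-- The inner automorphism group. -/
abbrev Inn (S : Type*) [Group S] : Subgroup (MulAut S) := (MulAut.conj : S →* MulAut S).range

omit [Finite S] in
theorem not_solvable_inn [IsSimpleGroup S] (hna : ¬ IsMulCommutative S) {c : MulAut S}
    (hc : c ≠ 1) :
    ¬ Group.IsSolvable ↥(Subgroup.closure {y : MulAut S | ∃ r ∈ Inn S, y = r * c * r⁻¹}) := by
  intro hsol
  set T := Subgroup.closure {y : MulAut S | ∃ r ∈ Inn S, y = r * c * r⁻¹} with hT
  have hI := conj_range_normal (S := S)
  -- `N = T ⊓ Inn S` is normal in `Inn S`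
  have hTR : ∀ r ∈ Inn S, ∀ x ∈ T, r * x * r⁻¹ ∈ T := by
    intro r hr x hx
    induction hx using Subgroup.closure_induction with
    | mem x hx =>
      obtain ⟨s, hs, rfl⟩ := hx
      exact Subgroup.subset_closure ⟨r * s, mul_mem hr hs, by group⟩
    | one => simp
    | mul x y _ _ hx hy =>
      have : r * (x * y) * r⁻¹ = (r * x * r⁻¹) * (r * y * r⁻¹) := by group
      rw [this]; exact mul_mem hx hy
    | inv x _ hx =>
      have : r * x⁻¹ * r⁻¹ = (r * x * r⁻¹)⁻¹ := by group
      rw [this]; exact inv_mem hx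
  have hN : (T.comap (MulAut.conj : S →* MulAut S)).Normal := by
    constructor
    intro x hx s
    rw [Subgroup.mem_comap] at hx ⊢
    rw [map_mul, map_mul, map_inv]
    exact hTR _ ⟨s, rfl⟩ _ hx
  have hinj := conj_injective_of_simple (S := S) hna
  rcases hN.eq_bot_or_eq_top with hb | ht
  · -- `c` commutes with `Inn S`
    apply hc
    have h1 : c ∈ Subgroup.centralizer ((Inn S : Subgroup (MulAut S)) : Set (MulAut S)) := by
      rw [Subgroup.mem_centralizer_iff]
      rintro _ ⟨s, rfl⟩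
      have h2 : MulAut.conj s * c * (MulAut.conj s)⁻¹ * c⁻¹ ∈ T := by
        refine mul_mem (Subgroup.subset_closure ⟨_, ⟨s, rfl⟩, rfl⟩) (inv_mem ?_)
        exact Subgroup.subset_closure ⟨1, one_mem _, by simp⟩
      have h3 : MulAut.conj s * c * (MulAut.conj s)⁻¹ * c⁻¹ = MulAut.conj (s * (c s)⁻¹) := by
        ext x
        simp only [MulAut.mul_apply, MulAut.conj_apply, mul_assoc, _root_.MulAut.inv_apply, _root_.MulAut.conj_symm_apply, _root_.map_mul, _root_.map_inv, _root_.MulEquiv.apply_symm_apply]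
      rw [h3] at h2
      have h4 : s * (c s)⁻¹ ∈ T.comap (MulAut.conj : S →* MulAut S) := h2
      rw [hb, Subgroup.mem_bot] at h4
      rw [h4, map_one] at h3
      have h5 : MulAut.conj s * c * (MulAut.conj s)⁻¹ = c := by rwa [mul_inv_eq_one] at h3
      exact mul_inv_eq_iff_eq_mul.1 h5
    rw [centralizer_conj_range (center_eq_bot_of_simple hna), Subgroup.mem_bot] at h1
    exact h1
  · have h1 : Group.IsSolvable S := by
      refine Group.isSolvable_of_isSolvable_injective
        (f := ((MulAut.conj : S →* MulAut S).codRestrict T fun s => ?_)) ?_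
      · have : s ∈ T.comap (MulAut.conj : S →* MulAut S) := by rw [ht]; exact Subgroup.mem_top _
        exact this
      · intro a b hab
        exact hinj (congrArg Subtype.val hab)
    exact hna ⟨⟨IsSimpleGroup.comm_iff_isSolvable.2 h1⟩⟩

/-- Two automorphisms of order `p`, one conjugate (under `Inn S`) to a power of the other. -/
theorem mpair_outer_outer (hAA : AAHyp.{u} p) (hp : p.Prime) [IsSimpleGroup S]
    (hna : ¬ IsMulCommutative S) {c d : MulAut S} (hc : orderOf c = p)
    (h : ∃ s ∈ Inn S, ∃ j : ℤ, (s * d * s⁻¹) ^ j = c) : MPair p (Inn S) c d := by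
  obtain ⟨s, hs, j, h⟩ := h
  have hI := conj_range_normal (S := S)
  refine MPair.of_aligned (R := Inn S) hAA le_rfl hc (fun r hr => hI.conj_mem _ hr c)
    hs j (h := 1) (Commute.one_right _) (fun r _ => Commute.one_right _)
    ⟨0, by simp⟩ (by rw [h, mul_one]) (not_solvable_inn hna ?_)
  rintro rfl
  rw [orderOf_one] at hc
  exact hp.one_lt.ne hc

/-- **Inner against outer**: a conjugate `c` of the first element commutes with `d`, and
`R = C_{Inn S}(c⁻¹ d)` has trivial solvable radical, in the sense that the `R`-conjugates of `c`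
generate a non-solvable group. -/
theorem mpair_inner_outer (hAA : AAHyp.{u} p) {c d : MulAut S}
    (hc : orderOf c = p) (hd : orderOf d = p) {s : MulAut S} (hs : s ∈ Inn S)
    (hcd : Commute (s * c * s⁻¹) d)
    (hns : ¬ Group.IsSolvable ↥(Subgroup.closure {y : MulAut S |
      ∃ r ∈ Inn S ⊓ Subgroup.centralizer {(s * c * s⁻¹)⁻¹ * d}, y = r * (s * c * s⁻¹) * r⁻¹})) :
    MPair p (Inn S) c d := by
  refine MPair.conj_left hs ?_
  set c' := s * c * s⁻¹ with hc'
  have hI := conj_range_normal (S := S)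
  have hc'p : orderOf c' = p := by rw [hc', orderOf_cj, hc]
  have hcomm : Commute c' (c'⁻¹ * d) := (Commute.refl c').inv_right.mul_right hcd
  refine MPair.of_aligned (R := Inn S ⊓ Subgroup.centralizer {c'⁻¹ * d}) hAA inf_le_left hc'p ?_
    (one_mem _) 1 (h := c'⁻¹ * d) hcomm ?_ ⟨1, ?_⟩ (by group) hns
  · intro r hr
    rw [Subgroup.mem_inf, Subgroup.mem_centralizer_singleton_iff] at hr ⊢
    refine ⟨hI.conj_mem _ hr.1 c', ?_⟩
    have h1 : Commute (c'⁻¹ * d) r := hr.2.symm
    exact ((hcomm.symm.mul_right h1).mul_right hcomm.symm.inv_right).symm.eq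
  · intro r hr
    rw [Subgroup.mem_inf, Subgroup.mem_centralizer_singleton_iff] at hr
    exact hr.2
  · have h1 : Commute c'⁻¹ d := hcd.inv_left
    rw [pow_one, h1.mul_pow, inv_pow, ← hc'p, pow_orderOf_eq_one, hc'p, ← hd, pow_orderOf_eq_one]
    simp

end outer

end Cfsg.Agent.H106.MT
end
end
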