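import Mathlib
import Cfsg.Agent.H533.T5.SporDefs_m3
import Cfsg.Agent.KFacts.RgdBorelTits
import Cfsg.Agent.KFacts.RgdSyl
import Cfsg.Agent.KFacts.RgdSL
import Cfsg.Agent.KFacts.RgdVJ
import Cfsg.Agent.KFacts.RgdFilt
import Cfsg.Agent.Nodes.RGDTwD4
import Cfsg.Agent.H461.T5.Cube
import Cfsg.Agent.H573.Spor.HSFive_m3
import Cfsg.Agent.CoOneType.CoQZ
import Cfsg.Agent.CoOneType.CoW
import Cfsg.Agent.H957.InvU5
import Cfsg.Agent.S0749
import Cfsg.Agent.H951.Iso
import Cfsg.Agent.H631.TorusCent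
import Cfsg.Agent.H45.GG.Series_m3
import Cfsg.Agent.H536.T5.HNRow
import Cfsg.Agent.BpSpor.RowAll
import Cfsg.Agent.H536.T5.DataB
import Cfsg.Agent.H106.MTools2
import Cfsg.Agent.Lib.PackCol
import Cfsg.Agent.GenExc.TwE
import Cfsg.Agent.H194.MOwn.PslCore
import Cfsg.Agent.H14.CycNode
import Cfsg.Agent.H460.Dgs
import Cfsg.Agent.CpAut.RgdTwStd
import Cfsg.Agent.CpAut.RgdUntw
import Cfsg.Agent.H460.FTypedAE_m3
import Cfsg.Agent.CpAut.RgdTwD4
import Cfsg.Agent.CpAut.RgdTwE6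
import Cfsg.Agent.H185.TypedTw
import Cfsg.Agent.H897.T5Inn
import Cfsg.Agent.H897.T5Conn
import Cfsg.Agent.BpExc.NChev
import Cfsg.Agent.H720.TwFr
import Cfsg.Agent.H522.FldSixLib
import Cfsg.Agent.FastGrp
import Cfsg.Agent.Prune
set_option linter.all false

section
prune_inst 0x7ffca9f8aab8b9dedfff7e77a698cdfc39901fffa4dff9433fe021ef0bdf030009c163a509e010fc0ec2421410287843fb7eea3fe06bd87ffffd1df41ffbee0ff5f7b508519080240fb80ff603f0778a7f3fffffffffffffffffffffffffffbeffbfffffffff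

-- part: H106/MTrace
section
set_option linter.all false
open scoped Cfsg.Agent.FastGrp

/-!
# The trace argument for the middle pairs

`prod_of_trace` : if `z ^ j = 1 + j A + j² B`, `tr (c d B) ≠ 0` and all `d z ^ j` are
conjugate to `d`, then some `c * d ^ g` is not a `p`-element.
-/

set_option autoImplicit false

namespace Cfsg.Agent.H106.MTrace

open Cfsg.Agent.H957.T5M

variable {ι : Type*} [Fintype ι] [DecidableEq ι] {K : Type*} [Field K] {p : ℕ} [hp : Fact p.Prime]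
  [CharP K p]

/-- The trace of a `p`-element in characteristic `p`. -/
theorem trace_of_pow {M : Matrix ι ι K} {k : ℕ} (h : M ^ p ^ k = 1) :
    Matrix.trace M = Fintype.card ι := by
  have h1 : (M - 1) ^ p ^ k = 0 := by
    by_cases hι : Nonempty ι
    · have : CharP (Matrix ι ι K) p := Matrix.charP p
      have h2 := sub_pow_char_pow_of_commute (R := Matrix ι ι K) (p := p) (n := k)
        (Commute.one_right M)
      rw [h2, h, one_pow, sub_self]
    · have : IsEmpty ι := not_nonempty_iff.1 hι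
      exact Subsingleton.elim _ _
  have h2 : IsNilpotent (M - 1) := ⟨_, h1⟩
  have h3 := (Matrix.isNilpotent_trace_of_isNilpotent h2).eq_zero
  rw [Matrix.trace_sub, Matrix.trace_one, sub_eq_zero] at h3
  exact h3

/-- **The trace argument.** -/
theorem prod_of_trace' {G : Type*} [Group G] (ρ : G →* Matrix ι ι K) (hp3 : 3 ≤ p) {S : Subgroup G}
    {c d z : G} {A B : Matrix ι ι K} (h1 : ρ z = 1 + A + B)
    (h2 : ρ (z ^ 2) = 1 + (2 : K) • A + (4 : K) • B)
    (hcB : Matrix.trace (ρ c * (ρ d * B)) ≠ 0) (hc1 : ∃ g ∈ S, g * d * g⁻¹ = d * z)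
    (hc2 : ∃ g ∈ S, g * d * g⁻¹ = d * z ^ 2) :
    ∃ g ∈ S, ∀ k : ℕ, (c * (g * d * g⁻¹)) ^ p ^ k ≠ 1 := by
  by_contra hcon
  push Not at hcon
  have key : ∀ g ∈ S, Matrix.trace (ρ c * ρ (g * d * g⁻¹)) = Fintype.card ι := by
    intro g hg
    obtain ⟨k, hk⟩ := hcon g hg
    have h3 := congrArg ρ hk
    rw [map_pow, map_one, map_mul] at h3
    exact trace_of_pow h3
  have k0 := key 1 (one_mem _)
  rw [one_mul, inv_one, mul_one] at k0
  obtain ⟨g1, hg1, e1⟩ := hc1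
  have k1 := key g1 hg1
  obtain ⟨g2, hg2, e2⟩ := hc2
  have k2 := key g2 hg2
  rw [e1, map_mul, h1, mul_add, mul_add, mul_add, mul_add, mul_one, Matrix.trace_add,
    Matrix.trace_add, k0] at k1
  rw [e2, map_mul, h2, mul_add, mul_add, mul_add, mul_add, mul_one, Matrix.mul_smul (ρ d),
    Matrix.mul_smul (ρ d), Matrix.mul_smul, Matrix.mul_smul, Matrix.trace_add,
    Matrix.trace_add, Matrix.trace_smul, Matrix.trace_smul, k0, smul_eq_mul, smul_eq_mul] at k2
  apply hcB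
  have h5 : (2 : K) ≠ 0 := by
    intro h6
    have h7 : ((2 : ℕ) : K) = 0 := by exact_mod_cast h6
    rw [CharP.cast_eq_zero_iff K p] at h7
    have := Nat.le_of_dvd (by norm_num) h7
    omega
  have h6 : (2 : K) * Matrix.trace (ρ c * (ρ d * B)) = 0 := by linear_combination k2 - 2 * k1
  exact (mul_eq_zero.1 h6).resolve_left h5

/-- A matrix commuting with a matrix unit. -/
theorem mul_single_of_comm {D : Matrix ι ι K} {i j : ι} {a : K} (ha : a ≠ 0) (hD : IsUnit D)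
    (h : D * Matrix.single i j a = Matrix.single i j a * D) :
    ∃ μ : K, μ ≠ 0 ∧ D * Matrix.single i j a = μ • Matrix.single i j a := by
  have h0 : ∀ k, k ≠ i → D k i = 0 := by
    intro k hk
    have h1 := congrFun (congrFun h k) j
    rw [Matrix.mul_single_apply_same, Matrix.single_mul_apply_of_ne _ _ _ _ _ (Ne.symm hk.symm)] at h1
    exact (mul_eq_zero.1 h1).resolve_right ha
  refine ⟨D i i, ?_, ?_⟩
  · intro h1
    rw [Matrix.isUnit_iff_isUnit_det, isUnit_iff_ne_zero] at hD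
    apply hD
    apply Matrix.det_eq_zero_of_column_eq_zero i
    intro k
    by_cases hk : k = i
    · rw [hk, h1]
    · exact h0 k hk
  · ext k l
    rw [Matrix.smul_apply, smul_eq_mul]
    by_cases hl : l = j
    · subst hl
      rw [Matrix.mul_single_apply_same]
      by_cases hk : k = i
      · subst hk
        rw [Matrix.single_apply_same]
      · rw [h0 k hk, zero_mul, Matrix.single_apply_of_row_ne (Ne.symm hk), mul_zero]
    · rw [Matrix.mul_single_apply_of_ne _ _ _ _ _ hl, Matrix.single_apply_of_col_ne _ _ (Ne.symm hl),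
        mul_zero]

end Cfsg.Agent.H106.MTrace
end

-- part: H798/T5Root
section
prune_inst 0x3560315054401200001885941120000438000422004084009ce10702020ed262e9c0a8414c202d135a1a8c1920010008105c00b000400000042004000005002080a85206f3c9010466009f803083180c00000000000000000000000000041004000000000
set_option linter.all false
open scoped Cfsg.Agent.FastGrp

-- part: H798/T5Geo
section
/-!
T5, defining characteristic, part 1 (helper798): the panels of the fixed chambers of a `p`-element.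

* `NT cs h X c a` : `c` acts non-trivially on the `a`-panel of a fixed chamber;
* `wpair_of_NT` : `NT c a`, `NT d a` ⟹ `WPair p ⊤ c d`;
* `exists_NT` : `c ≠ 1` has some `a` with `NT c a`;
* `NT.of_three` : `M a b = 3`, `NT c b` ⟹ `NT c a`.
-/

set_option autoImplicit false
set_option linter.unusedSectionVars false

namespace Cfsg.Agent.H798.T5Geo

open CoxeterSystem Cfsg.Agent.ChevalleyStructure.CoxeterGeom Cfsg.Agent.Tits.Roots Cfsg.Agent.Tits.Core
  Cfsg.Agent.Tits.RootComb Cfsg.Agent.Tits.Exchange Cfsg.Agent.Nodes.Reps Cfsg.Agent.Nodes.BNOf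
  Cfsg.Agent.Nodes.StabComb Cfsg.Agent.Nodes.Bruhat Cfsg.Agent.Nodes.OppDec Cfsg.Agent.Nodes.LeviDec
  Cfsg.Agent.H533.T5
open scoped commutatorElement

variable {I W Y : Type*} [Fintype I] [DecidableEq I] [Group W] [Group Y] {M : CoxeterMatrix I}
  {cs : CoxeterSystem M W} {A : I → I → ℤ} {h : IsCartan M A} {p : ℕ} {T : Subgroup Y} {n : I → Y}
  {X : (I → ℤ) → Subgroup Y}

/-- `c` acts non-trivially on the `a`-panel of a fixed chamber. -/
def NT (cs : CoxeterSystem M W) (h : IsCartan M A) (X : (I → ℤ) → Subgroup Y) (c : Y) (a : I) : Prop :=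
  ∃ g : Y, g * c * g⁻¹ ∈ RGD.Sup X (RGD.Pos cs h) ∧ g * c * g⁻¹ ∉ VJ cs h X {a}

theorem NT.of_conj {c : Y} {a : I} (y : Y) (hc : NT cs h X (y * c * y⁻¹) a) : NT cs h X c a := by
  obtain ⟨g, h1, h2⟩ := hc
  have e : g * (y * c * y⁻¹) * g⁻¹ = (g * y) * c * (g * y)⁻¹ := by group
  rw [e] at h1 h2
  exact ⟨g * y, h1, h2⟩

theorem NT.conj {c : Y} {a : I} (y : Y) (hc : NT cs h X c a) : NT cs h X (y * c * y⁻¹) a := by
  apply NT.of_conj y⁻¹
  have e : y⁻¹ * (y * c * y⁻¹) * y⁻¹⁻¹ = c := by group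
  rwa [e]

/-- If not `NT d a`, all conjugates of `d` in `U` lie in `V_a`. -/
theorem mem_V_of_not_NT {d : Y} {a : I} (hd : ¬ NT cs h X d a) (g : Y)
    (hg : g * d * g⁻¹ ∈ RGD.Sup X (RGD.Pos cs h)) : g * d * g⁻¹ ∈ VJ cs h X {a} := by
  by_contra h1
  exact hd ⟨g, hg, h1⟩

/-! ### descents -/

/-- A non-trivial element of `W_J` has a right descent in `J`. -/
theorem exists_desc {J : Set I} {w : W} (hw : w ∈ WJ cs J) (hw1 : w ≠ 1) :
    ∃ i ∈ J, rep cs h w (sr i) ≤ 0 ∧ w * cs.simple i ∈ WJ cs J ∧ 0 ≤ rep cs h (w * cs.simple i) (sr i) := by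
  obtain ⟨i, hi⟩ := cs.exists_rightDescent_of_ne_one hw1
  have hi' : cs.length (w * cs.simple i) < cs.length w := hi
  have hneg : rep cs h w (sr i) ≤ 0 := nonpos_of_lt cs h w i hi'
  have hiJ : i ∈ J := by
    by_contra hiJ
    have h1 := rep_apply_of_mem cs h hw (sr i) hiJ
    rw [sr_self] at h1
    have h2 : rep cs h w (sr i) i ≤ 0 := hneg i
    rw [h1] at h2
    omega
  refine ⟨i, hiJ, hneg, mul_mem hw (simple_mem_WJ cs hiJ), ?_⟩
  rw [rep_mul_apply, rep_simple_sr, map_neg]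
  exact neg_nonneg.2 hneg

theorem WJ_singleton {a : I} {w : W} (hw : w ∈ WJ cs {a}) (h : IsCartan M A) : w = 1 ∨ w = cs.simple a := by
  by_cases hw1 : w = 1
  · exact Or.inl hw1
  right
  obtain ⟨i, hi, h1, h2, h3⟩ := exists_desc (h := h) hw hw1
  have hi' : i = a := hi
  subst hi'
  by_cases h4 : w * cs.simple i = 1
  · rw [← cs.inv_simple i]
    exact eq_inv_of_mul_eq_one_left h4
  · exfalso
    obtain ⟨j, hj, h5, -, -⟩ := exists_desc (h := h) h2 h4
    have hj' : j = i := hj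
    subst hj'
    exact ((isRoot_sr cs h j).act (w * cs.simple j)).not_pos_neg h3 h5

/-- positive roots killed by `w` on `α_a` -/
theorem mem_NotJ_of {w : W} {a : I} (ha : rep cs h w (sr a) ≤ 0) {x : I → ℤ} (hx : IsRoot cs h x) (h0 : 0 ≤ x)
    (h1 : 0 ≤ rep cs h w x) : x ∈ NotJ cs h {a} := by
  rcases mem_PosJ_or_NotJ {a} hx h0 with h2 | h2
  · exfalso
    have h3 : x = sr a := hx.eq_sr h0 a fun k hk => h2.2.2 k hk
    subst h3
    exact (hx.act w).not_pos_neg h1 ha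
  · exact h2

variable (R : RGD cs h p T n X)

include R

/-- `u ∈ U`, `k u k⁻¹ ∈ B`, `k` over `w`, `w α_a < 0` ⟹ `u ∈ V_a`. -/
theorem mem_V_of_conj [Finite W] {w : W} {k u : Y} (hk : Rp cs R.nsys w k) {a : I} (ha : rep cs h w (sr a) ≤ 0)
    (hu : u ∈ RGD.Sup X (RGD.Pos cs h)) (hB : k * u * k⁻¹ ∈ RGD.B cs h T X) : u ∈ VJ cs h X {a} := by
  have h1 := Nodes.Slope.mem_of_conj_mem_B R hk.inv hu (by rwa [inv_inv])
  refine RGD.Sup_mono (fun x hx => ?_) h1
  obtain ⟨h2, h3, h4⟩ := hx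
  rw [inv_inv] at h4
  exact mem_NotJ_of ha h2 h3 h4

theorem B_conj_U {b u : Y} (hb : b ∈ RGD.B cs h T X) (hu : u ∈ RGD.Sup X (RGD.Pos cs h)) :
    b * u * b⁻¹ ∈ RGD.Sup X (RGD.Pos cs h) := (Subgroup.mem_normalizer_iff.1 (R.B_le_normalizer_U hb) u).1 hu

theorem P_conj_V {J : Set I} {g u : Y} (hg : g ∈ PJ cs h T X J) :
    g * u * g⁻¹ ∈ VJ cs h X J ↔ u ∈ VJ cs h X J :=
  ((Subgroup.mem_normalizer_iff.1 (PJ_le_normalizer_VJ R J hg) u)).symm

/-- The elements of `P_a`. -/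
theorem mem_P_cases [Finite W] {a : I} {g : Y} (hg : g ∈ PJ cs h T X {a}) : g ∈ RGD.B cs h T X ∨
    ∃ b ∈ RGD.B cs h T X, ∃ k, Rp cs R.nsys (cs.simple a) k ∧ ∃ b' ∈ RGD.B cs h T X, g = b * k * b' := by
  obtain ⟨w, hw, hc⟩ := (mem_PJ_iff_cell R).1 hg
  rcases WJ_singleton hw h with rfl | rfl
  · exact Or.inl hc.mem_of_one
  · right
    obtain ⟨b, hb, k, hk, b', hb', e⟩ := hc
    exact ⟨b, hb, k, hk, b', hb', e⟩

/-- Sylow's theorem in `P_J`. -/
theorem exists_conj_U_P [Finite W] [Finite Y] [Fact p.Prime] {J : Set I} {K : Subgroup Y} (hK : IsPGroup p K)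
    (hKP : K ≤ PJ cs h T X J) : ∃ g ∈ PJ cs h T X J, ∀ k ∈ K, g * k * g⁻¹ ∈ RGD.Sup X (RGD.Pos cs h) := by
  set P := PJ cs h T X J with hP
  set U := RGD.Sup X (RGD.Pos cs h) with hU
  have hUP : U ≤ P := le_trans RGD.U_le_B B_le_PJ
  have h1 : ¬ p ∣ (U.subgroupOf P).index := by
    intro h2
    apply Cfsg.Agent.KFacts.RgdSyl.not_dvd_relIndex R
    have h3 : U.relIndex P ∣ U.relIndex (GG cs h T X) := by
      rw [← Subgroup.relIndex_mul_relIndex U P (GG cs h T X) hUP PJ_le_GG]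
      exact dvd_mul_right _ _
    exact dvd_trans h2 h3
  have h2 : IsPGroup p ↥(U.subgroupOf P) :=
    R.isPGroup_Upos.comap_of_injective P.subtype (Subgroup.subtype_injective _)
  let Q : Sylow p ↥P := h2.toSylow h1
  have h3 : IsPGroup p ↥(K.subgroupOf P) := hK.comap_of_injective P.subtype (Subgroup.subtype_injective _)
  obtain ⟨Q', hQ'⟩ := h3.exists_le_sylow
  obtain ⟨g, hg⟩ := MulAction.exists_smul_eq ↥P Q' Q
  refine ⟨g, g.2, fun k hk => ?_⟩
  have h4 : (⟨k, hKP hk⟩ : ↥P) ∈ Q' := hQ' (by rw [Subgroup.mem_subgroupOf]; exact hk)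
  have h5 : MulAut.conj g ⟨k, hKP hk⟩ ∈ (g • Q' : Sylow p ↥P) :=
    Subgroup.smul_mem_pointwise_smul _ (MulAut.conj g) (Q' : Subgroup ↥P) h4
  rw [hg] at h5
  have h6 : MulAut.conj g (⟨k, hKP hk⟩ : ↥P) ∈ U.subgroupOf P := h5
  rw [Subgroup.mem_subgroupOf] at h6
  exact h6

theorem exists_conj_mem_U [Finite W] [Finite Y] [Fact p.Prime] (hG : GG cs h T X = ⊤) {c : Y}
    (hc : IsPGroup p (Subgroup.zpowers c)) : ∃ g : Y, g * c * g⁻¹ ∈ RGD.Sup X (RGD.Pos cs h) := by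
  obtain ⟨g, hg⟩ := Cfsg.Agent.KFacts.RgdBorelTits.exists_conj_U hG hc R
  refine ⟨g⁻¹, ?_⟩
  rw [inv_inv]
  exact mem_cj.1 (hg (Subgroup.mem_zpowers c))

/-- A `p`-element `c ≠ 1` of a simple group acts non-trivially on some panel of a fixed chamber. -/
theorem exists_NT [Finite W] [Finite Y] [Fact p.Prime] [IsSimpleGroup Y] [Nonempty I] (hG : GG cs h T X = ⊤) {c : Y}
    (hc : IsPGroup p (Subgroup.zpowers c)) (hc1 : c ≠ 1) : ∃ a, NT cs h X c a := by
  by_contra hcon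
  push Not at hcon
  set U := RGD.Sup X (RGD.Pos cs h) with hU
  set N : Subgroup Y := Subgroup.closure {x | ∃ g, x = g * c * g⁻¹ ∧ x ∈ U} with hN
  have hNU : N ≤ U := by
    rw [hN, Subgroup.closure_le]
    rintro x ⟨g, rfl, hx⟩
    exact hx
  have h1 : ∀ a, ∀ r ∈ PJ cs h T X {a}, ∀ x ∈ N, r * x * r⁻¹ ∈ N := by
    intro a r hr x hx
    have h2 : N ≤ N.comap (MulAut.conj r).toMonoidHom := by
      conv_lhs => rw [hN]
      rw [Subgroup.closure_le]
      rintro y ⟨g, rfl, hy⟩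
      show r * (g * c * g⁻¹) * r⁻¹ ∈ N
      have h3 := mem_V_of_not_NT (hcon a) g hy
      have h4 : r * (g * c * g⁻¹) * r⁻¹ ∈ VJ cs h X {a} := (P_conj_V R hr).2 h3
      refine Subgroup.subset_closure ⟨r * g, by group, VJ_le_U _ h4⟩
    exact h2 hx
  have h2 : ∀ a, PJ cs h T X {a} ≤ Subgroup.normalizer (N : Set Y) := by
    intro a r hr
    rw [Subgroup.mem_normalizer_iff]
    intro x
    refine ⟨h1 a r hr x, fun hx => ?_⟩
    have h3 := h1 a r⁻¹ (inv_mem hr) _ hx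
    have e : r⁻¹ * (r * x * r⁻¹) * r⁻¹⁻¹ = x := by group
    rwa [e] at h3
  obtain ⟨a0⟩ := (inferInstance : Nonempty I)
  have hB : RGD.B cs h T X ≤ Subgroup.normalizer (N : Set Y) := le_trans B_le_PJ (h2 a0)
  have h3 : Subgroup.normalizer (N : Set Y) = ⊤ := by
    have h4 := inf_eq_PJ R hB
    have h5 : {i | n i ∈ Subgroup.normalizer (N : Set Y)} = Set.univ := by
      ext i
      simp only [Set.mem_ofPred_eq, Set.mem_univ, iff_true]
      exact h2 i (LJ_le_PJ (n_mem_LJ R rfl))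
    rw [h5, hG, inf_top_eq] at h4
    rw [h4]
    rw [eq_top_iff, ← hG, ← LJ_univ]
    exact LJ_le_PJ
  have h4 := Subgroup.normalizer_eq_top_iff.1 h3
  obtain ⟨g, hg⟩ := exists_conj_mem_U R hG hc
  rcases h4.eq_bot_or_eq_top with h5 | h5
  · apply hc1
    have h6 : g * c * g⁻¹ ∈ N := Subgroup.subset_closure ⟨g, rfl, hg⟩
    rw [h5, Subgroup.mem_bot] at h6
    have : c = g⁻¹ * (g * c * g⁻¹) * g := by group
    rw [this, h6]; group
  · apply R.notp a0
    have h6 : X (sr a0) ⊔ X (-sr a0) ≤ RGD.Sup X (RGD.Pos cs h) := by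
      intro x _
      exact hNU (h5 ▸ Subgroup.mem_top x)
    exact R.isPGroup_Upos.to_le h6

end Cfsg.Agent.H798.T5Geo
end

-- part: H798/T5Root
section
/-!
T5, defining characteristic, part 2 (helper798): rank two combinatorics, simple bonds.

* `a2_of_three` (after helper227) : `M i j = 3` gives `A2 (sr i) (sr j)`;
* `rt`, `rt_B2`, `rt_G2` : the roots supported on two nodes;
* `NT.of_three` : `M a b = 3`, `NT c b` ⟹ `NT c a`.
-/

set_option autoImplicit false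
set_option linter.unusedSectionVars false

namespace Cfsg.Agent.H798.T5Root

open CoxeterSystem Cfsg.Agent.ChevalleyStructure.CoxeterGeom Cfsg.Agent.Tits.Roots Cfsg.Agent.Tits.Core
  Cfsg.Agent.Tits.RootComb Cfsg.Agent.Tits.Exchange Cfsg.Agent.Nodes.Reps Cfsg.Agent.Nodes.BNOf
  Cfsg.Agent.Nodes.StabComb Cfsg.Agent.Nodes.Bruhat Cfsg.Agent.Nodes.OppDec Cfsg.Agent.Nodes.LeviDec
  Cfsg.Agent.Nodes.Coroot Cfsg.Agent.KFacts.RgdSL Cfsg.Agent.H533.T5 Cfsg.Agent.H798.T5Geo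
open scoped commutatorElement

variable {I W Y : Type*} [Fintype I] [DecidableEq I] [Group W] [Group Y] {M : CoxeterMatrix I}
  {cs : CoxeterSystem M W} {A : I → I → ℤ} {h : IsCartan M A} {p : ℕ} {T : Subgroup Y} {n : I → Y}
  {X : (I → ℤ) → Subgroup Y}

/-! ### roots in the plane of two nodes with label 3 -/

/-- pairings of a vector supported on `{i, j}` -/
theorem pairing_two {i j : I} (hij : i ≠ j) {x : I → ℤ} (hx : ∀ k, k ≠ i → k ≠ j → x k = 0) (k : I) :
    pairing A k x = A k i * x i + A k j * x j := by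
  unfold pairing
  rw [← Finset.sum_subset (Finset.subset_univ {i, j}), Finset.sum_pair hij]
  intro l _ hl
  rw [Finset.mem_insert, Finset.mem_singleton, not_or] at hl
  rw [hx l hl.1 hl.2, mul_zero]

/-- A root with support `{i, j}`, `M i j = 3`, both coefficients positive, is `sr i + sr j`. -/
theorem eq_add_of_supp {i j : I} (hij : i ≠ j) (h1 : A i j = -1) (h2 : A j i = -1) {x : I → ℤ} (hx : IsRoot cs h x)
    (hi : 0 < x i) (hj : 0 < x j) (hk : ∀ k, k ≠ i → k ≠ j → x k = 0) : x = sr i + sr j := by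
  have key : ∀ i j : I, i ≠ j → A i j = -1 → A j i = -1 → ∀ x : I → ℤ, IsRoot cs h x → 0 < x i → 0 < x j →
      (∀ k, k ≠ i → k ≠ j → x k = 0) → x j < 2 * x i → x = sr i + sr j := by
    intro i j hij h1 h2 x hx hi hj hk h3
    -- reflect in `i`
    have hp := pairing_two (A := A) hij hk i
    rw [h.diag, h1] at hp
    have hs := hx.act (cs.simple i)
    have e1 : rep cs h (cs.simple i) x i = x j - x i := by
      rw [rep_simple_apply_self, hp]; ring
    have e2 : rep cs h (cs.simple i) x j = x j := rep_simple_apply cs h i x j hij.symm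
    have e3 : ∀ k, k ≠ i → rep cs h (cs.simple i) x k = x k := fun k hk' => rep_simple_apply cs h i x k hk'
    have hpos : 0 ≤ rep cs h (cs.simple i) x := by
      rcases hs.pos_or_neg with h4 | h4
      · exact h4
      · have := h4 j
        rw [e2] at this
        exact absurd this (not_le.2 hj)
    have h5 := hpos i
    rw [e1] at h5
    change 0 ≤ x j - x i at h5
    -- reflect in `j`
    have hp' := pairing_two (A := A) hij hk j
    rw [h.diag, h2] at hp'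
    have hs' := hx.act (cs.simple j)
    have f1 : rep cs h (cs.simple j) x j = x i - x j := by
      rw [rep_simple_apply_self, hp']; ring
    have f2 : rep cs h (cs.simple j) x i = x i := rep_simple_apply cs h j x i hij
    have hpos' : 0 ≤ rep cs h (cs.simple j) x := by
      rcases hs'.pos_or_neg with h4 | h4
      · exact h4
      · have := h4 i
        rw [f2] at this
        exact absurd this (not_le.2 hi)
    have h6 := hpos' j
    rw [f1] at h6
    change 0 ≤ x i - x j at h6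
    have h7 : x i = x j := by (clear * - h5 h6; omega)
    have h8 : rep cs h (cs.simple i) x = sr j := by
      refine hs.eq_sr hpos j fun k hk' => ?_
      by_cases hki : k = i
      · subst hki
        rw [e1, h7]; ring
      · rw [e3 k hki, hk k hki hk']
    have h9 := congrFun h8 j
    rw [e2, sr_self] at h9
    funext k
    rw [Pi.add_apply]
    by_cases hki : k = i
    · subst hki
      rw [sr_self, sr_ne hij, h7, h9]; rfl
    · by_cases hkj : k = j
      · subst hkj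
        rw [sr_self, sr_ne hij.symm, h9]; rfl
      · rw [sr_ne hki, sr_ne hkj, hk k hki hkj]; rfl
  by_cases h3 : x j < 2 * x i
  · exact key i j hij h1 h2 x hx hi hj hk h3
  · rw [add_comm]
    exact key j i hij.symm h2 h1 x hx hj hi (fun k h4 h5 => hk k h5 h4) (by omega)

/-- `M i j = 3` gives `A2 (sr i) (sr j)`. -/
theorem a2_of_three [Finite W] {i j : I} (h3 : M i j = 3) : A2 cs h (sr i) (sr j) := by
  have hij : i ≠ j := by
    rintro rfl
    rw [M.diagonal] at h3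
    omega
  have hA : A i j = -1 ∧ A j i = -1 := by
    rcases h.rel i j hij with h1 | h1 | h1 | h1
    · rw [h3] at h1; omega
    · exact h1.2
    · rw [h3] at h1; omega
    · rw [h3] at h1; omega
  have sup : ∀ {x : I → ℤ}, IsRoot cs h x → 0 < x i → 0 < x j → (∀ k, k ≠ i → k ≠ j → x k = 0) →
      x = sr i + sr j := fun hx h1 h2 h3 => eq_add_of_supp hij hA.1 hA.2 hx h1 h2 h3
  have hb : ∀ z, Btwn cs h (sr i) (sr j) z → z = sr i + sr j := by
    rintro z ⟨hz, m, a, b, hm, ha, hb, he⟩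
    have ei := congrFun he i
    have ej := congrFun he j
    rw [Pi.add_apply, Pi.smul_apply, Pi.smul_apply, Pi.smul_apply, sr_self, sr_ne hij] at ei
    rw [Pi.add_apply, Pi.smul_apply, Pi.smul_apply, Pi.smul_apply, sr_self, sr_ne hij.symm] at ej
    simp only [smul_eq_mul, mul_one, mul_zero, add_zero, zero_add] at ei ej
    refine sup hz ?_ ?_ ?_
    · by_contra hc
      push Not at hc
      nlinarith only [hm, ha, ei, hc]
    · by_contra hc
      push Not at hc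
      nlinarith only [hm, hb, ej, hc]
    · intro k hki hkj
      have ek := congrFun he k
      rw [Pi.add_apply, Pi.smul_apply, Pi.smul_apply, Pi.smul_apply, sr_ne hki, sr_ne hkj] at ek
      simp only [smul_eq_mul, mul_zero, add_zero] at ek
      rcases mul_eq_zero.1 ek with h5 | h5
      · omega
      · exact h5
  have psr : ∀ k l : I, pairing A k (sr l) = A k l := by
    intro k l
    rw [sr, pairing_single, mul_one]
  have hb' : ∀ z, Btwn cs h (sr j) (sr i) z → z = sr i + sr j := fun z hz => hb z hz.symm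
  have r1 : rep cs h (cs.simple i) (sr i + sr j) = sr j := by
    rw [rep_simple_eq, pairing_add, psr, psr, h.diag, hA.1]
    module
  have r2 : rep cs h (cs.simple j) (sr i + sr j) = sr i := by
    rw [rep_simple_eq, pairing_add, psr, psr, h.diag, hA.2]
    module
  have act : ∀ (w : W) {x y z : I → ℤ}, Btwn cs h x y z → Btwn cs h (rep cs h w x) (rep cs h w y) (rep cs h w z) := by
    rintro w x y z ⟨hz, m, a, b, hm, ha, hb, he⟩
    refine ⟨hz.act w, m, a, b, hm, ha, hb, ?_⟩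
    rw [← map_smul, he, map_add, map_smul, map_smul]
  refine ⟨isRoot_sr cs h i, isRoot_sr cs h j, by rw [cpr_sr, psr, hA.2], by rw [cpr_sr, psr, hA.1], hb, ?_, ?_, ?_,
    ?_, ?_⟩
  · rintro z ⟨hz, m, a, b, hm, ha, hb, he⟩
    have ei := congrFun he i
    have ej := congrFun he j
    simp only [Pi.add_apply, Pi.smul_apply, Pi.neg_apply, sr_self, sr_ne hij, smul_eq_mul, mul_one, mul_zero,
      add_zero, mul_neg] at ei
    simp only [Pi.add_apply, Pi.smul_apply, Pi.neg_apply, sr_self, sr_ne hij.symm, smul_eq_mul, mul_one, mul_zero,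
      neg_zero, zero_add] at ej
    rcases hz.pos_or_neg with h4 | h4
    · have h5 : 0 ≤ z i := h4 i
      have : 0 ≤ m * z i := mul_nonneg hm.le h5
      omega
    · have h5 : z j ≤ 0 := h4 j
      have : m * z j ≤ 0 := mul_nonpos_of_nonneg_of_nonpos hm.le h5
      omega
  · intro z hz
    have h4 := act (cs.simple i) hz
    rw [map_neg, rep_simple_sr, neg_neg, r1] at h4
    have h5 := hb _ h4
    have h6 := congrArg (rep cs h (cs.simple i)) h5
    rw [r1, ← rep_mul_apply, cs.simple_mul_simple_self, map_one, Module.End.one_apply] at h6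
    exact h6
  · intro z hz
    have h4 := act (cs.simple j) hz
    rw [map_neg, rep_simple_sr, neg_neg, r2] at h4
    have h5 := hb' _ h4
    have h6 := congrArg (rep cs h (cs.simple j)) h5
    rw [r2, ← rep_mul_apply, cs.simple_mul_simple_self, map_one, Module.End.one_apply] at h6
    exact h6
  · rintro z ⟨hz, m, a, b, hm, ha, hb, he⟩
    have ei := congrFun he i
    have ej := congrFun he j
    simp only [Pi.add_apply, Pi.smul_apply, sr_self, sr_ne hij, smul_eq_mul, mul_one, mul_zero, add_zero] at ei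
    simp only [Pi.add_apply, Pi.smul_apply, sr_self, sr_ne hij.symm, smul_eq_mul, mul_one, zero_add] at ej
    have h6 := sup hz (by
      by_contra hc
      push Not at hc
      nlinarith only [hm, ha, ei, hc]) (by
      by_contra hc
      push Not at hc
      nlinarith only [hm, ha, hb, ej, hc]) (by
      intro k hki hkj
      have ek := congrFun he k
      simp only [Pi.add_apply, Pi.smul_apply, sr_ne hki, sr_ne hkj, smul_eq_mul, mul_zero, add_zero] at ek
      rcases mul_eq_zero.1 ek with h5 | h5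
      · omega
      · exact h5)
    have h7 := congrFun h6 i
    have h8 := congrFun h6 j
    rw [Pi.add_apply, sr_self, sr_ne hij] at h7
    rw [Pi.add_apply, sr_self, sr_ne hij.symm] at h8
    rw [h7] at ei
    rw [h8] at ej
    omega
  · rintro z ⟨hz, m, a, b, hm, ha, hb, he⟩
    have ei := congrFun he i
    have ej := congrFun he j
    simp only [Pi.add_apply, Pi.smul_apply, sr_self, sr_ne hij, smul_eq_mul, mul_one, add_zero] at ei
    simp only [Pi.add_apply, Pi.smul_apply, sr_self, sr_ne hij.symm, smul_eq_mul, mul_one, mul_zero, add_zero,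
      zero_add] at ej
    have h6 := sup hz (by
      by_contra hc
      push Not at hc
      nlinarith only [hm, ha, hb, ei, hc]) (by
      by_contra hc
      push Not at hc
      nlinarith only [hm, ha, ej, hc]) (by
      intro k hki hkj
      have ek := congrFun he k
      simp only [Pi.add_apply, Pi.smul_apply, sr_ne hki, sr_ne hkj, smul_eq_mul, mul_zero, add_zero] at ek
      rcases mul_eq_zero.1 ek with h5 | h5
      · omega
      · exact h5)
    have h7 := congrFun h6 i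
    have h8 := congrFun h6 j
    rw [Pi.add_apply, sr_self, sr_ne hij] at h7
    rw [Pi.add_apply, sr_self, sr_ne hij.symm] at h8
    rw [h7] at ei
    rw [h8] at ej
    omega

theorem psr (i j : I) : pairing A i (sr j) = A i j := by
  rw [sr, pairing_single, mul_one]

/-! ### the vectors supported on two nodes -/

/-- `a α_i + g α_j` -/
def rt (i j : I) (a g : ℤ) : I → ℤ := a • sr i + g • sr j

theorem rt_left {i j : I} (hij : i ≠ j) (a g : ℤ) : rt i j a g i = a := by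
  unfold rt
  rw [Pi.add_apply, Pi.smul_apply, Pi.smul_apply, sr_self, sr_ne hij]; simp

theorem rt_right {i j : I} (hij : i ≠ j) (a g : ℤ) : rt i j a g j = g := by
  unfold rt
  rw [Pi.add_apply, Pi.smul_apply, Pi.smul_apply, sr_self, sr_ne hij.symm]; simp

theorem rt_other {i j k : I} (hi : k ≠ i) (hj : k ≠ j) (a g : ℤ) : rt i j a g k = 0 := by
  unfold rt
  rw [Pi.add_apply, Pi.smul_apply, Pi.smul_apply, sr_ne hi, sr_ne hj]; simp

theorem eq_rt {i j : I} (hij : i ≠ j) {x : I → ℤ} (hx : ∀ k, k ≠ i → k ≠ j → x k = 0) :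
    x = rt i j (x i) (x j) := by
  funext k
  by_cases hi : k = i
  · subst hi; rw [rt_left hij]
  by_cases hj : k = j
  · subst hj; rw [rt_right hij]
  rw [rt_other hi hj, hx k hi hj]

theorem rt_inj {i j : I} (hij : i ≠ j) {a g a' g' : ℤ} : rt i j a g = rt i j a' g' ↔ a = a' ∧ g = g' := by
  constructor
  · intro h1
    have h2 := congrFun h1 i
    have h3 := congrFun h1 j
    rw [rt_left hij, rt_left hij] at h2
    rw [rt_right hij, rt_right hij] at h3
    exact ⟨h2, h3⟩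
  · rintro ⟨rfl, rfl⟩; rfl

theorem rt_comb (i j : I) (m k a g a' g' : ℤ) :
    m • rt i j a g + k • rt i j a' g' = rt i j (m * a + k * a') (m * g + k * g') := by
  unfold rt
  module

theorem rt_neg (i j : I) (a g : ℤ) : -rt i j a g = rt i j (-a) (-g) := by
  unfold rt
  module

theorem rt_one_zero (i j : I) : rt i j 1 0 = sr i := by unfold rt; module
theorem rt_zero_one (i j : I) : rt i j 0 1 = sr j := by unfold rt; module
theorem rep_left (cs : CoxeterSystem M W) (h : IsCartan M A) (i j : I) (a g : ℤ) :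
    rep cs h (cs.simple i) (rt i j a g) = rt i j (-a - A i j * g) g := by
  rw [rep_simple_eq]
  unfold rt
  rw [pairing_add, pairing_smul, pairing_smul, psr, psr, h.diag]
  module

theorem rep_right (cs : CoxeterSystem M W) (h : IsCartan M A) (i j : I) (a g : ℤ) :
    rep cs h (cs.simple j) (rt i j a g) = rt i j a (-g - A j i * a) := by
  rw [rep_simple_eq]
  unfold rt
  rw [pairing_add, pairing_smul, pairing_smul, psr, psr, h.diag]
  module

theorem rt_nonneg {i j : I} (hij : i ≠ j) {a g : ℤ} : 0 ≤ rt i j a g ↔ 0 ≤ a ∧ 0 ≤ g := by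
  constructor
  · intro h1
    have h2 := h1 i
    have h3 := h1 j
    rw [rt_left hij] at h2
    rw [rt_right hij] at h3
    exact ⟨h2, h3⟩
  · rintro ⟨h1, h2⟩ k
    by_cases hi : k = i
    · subst hi; rw [rt_left hij]; exact h1
    by_cases hj : k = j
    · subst hj; rw [rt_right hij]; exact h2
    rw [rt_other hi hj]; rfl

theorem rt_nonpos {i j : I} (hij : i ≠ j) {a g : ℤ} : rt i j a g ≤ 0 ↔ a ≤ 0 ∧ g ≤ 0 := by
  constructor
  · intro h1
    have h2 := h1 i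
    have h3 := h1 j
    rw [rt_left hij] at h2
    rw [rt_right hij] at h3
    exact ⟨h2, h3⟩
  · rintro ⟨h1, h2⟩ k
    by_cases hi : k = i
    · subst hi; rw [rt_left hij]; exact h1
    by_cases hj : k = j
    · subst hj; rw [rt_right hij]; exact h2
    rw [rt_other hi hj]; rfl

theorem eq_rt_of_RootsJ {i j : I} (hij : i ≠ j) {x : I → ℤ} (hx : x ∈ RootsJ cs h {i, j}) :
    x = rt i j (x i) (x j) := eq_rt hij fun k hi hj => hx.2 k (by
  rintro (h1 | h1)
  · exact hi h1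
  · exact hj h1)

/-- the sign condition and primitivity -/
theorem rt_sign {i j : I} (hij : i ≠ j) {a g : ℤ} (hx : IsRoot cs h (rt i j a g)) :
    (0 ≤ a ∧ 0 ≤ g ∨ a ≤ 0 ∧ g ≤ 0) ∧ (g = 0 → a = 1 ∨ a = -1) ∧ (a = 0 → g = 1 ∨ g = -1) := by
  have hs : (0 ≤ a ∧ 0 ≤ g ∨ a ≤ 0 ∧ g ≤ 0) := by
    rcases hx.pos_or_neg with h1 | h1
    · exact Or.inl ((rt_nonneg hij).1 h1)
    · exact Or.inr ((rt_nonpos hij).1 h1)
  refine ⟨hs, ?_, ?_⟩
  · rintro rfl
    rcases hx.pos_or_neg with h1 | h1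
    · have h2 : rt i j a 0 = sr i := hx.eq_sr h1 i fun k hk => by
        by_cases hj : k = j
        · subst hj; exact rt_right hij a 0
        · exact rt_other hk hj a 0
      rw [← rt_one_zero i j, rt_inj hij] at h2
      exact Or.inl h2.1
    · have h1' : 0 ≤ rt i j (-a) 0 := by
        rw [rt_nonneg hij]
        have := (rt_nonpos hij).1 h1
        omega
      have hx' : IsRoot cs h (rt i j (-a) 0) := by
        have := hx.neg
        rwa [rt_neg, neg_zero] at this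
      have h2 : rt i j (-a) 0 = sr i := hx'.eq_sr h1' i fun k hk => by
        by_cases hj : k = j
        · subst hj; exact rt_right hij (-a) 0
        · exact rt_other hk hj (-a) 0
      rw [← rt_one_zero i j, rt_inj hij] at h2
      right
      omega
  · rintro rfl
    rcases hx.pos_or_neg with h1 | h1
    · have h2 : rt i j 0 g = sr j := hx.eq_sr h1 j fun k hk => by
        by_cases hi : k = i
        · subst hi; exact rt_left hij 0 g
        · exact rt_other hi hk 0 g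
      rw [← rt_zero_one i j, rt_inj hij] at h2
      exact Or.inl h2.2
    · have h1' : 0 ≤ rt i j 0 (-g) := by
        rw [rt_nonneg hij]
        have := (rt_nonpos hij).1 h1
        omega
      have hx' : IsRoot cs h (rt i j 0 (-g)) := by
        have := hx.neg
        rwa [rt_neg, neg_zero] at this
      have h2 : rt i j 0 (-g) = sr j := hx'.eq_sr h1' j fun k hk => by
        by_cases hi : k = i
        · subst hi; exact rt_left hij 0 (-g)
        · exact rt_other hi hk 0 (-g)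
      rw [← rt_zero_one i j, rt_inj hij] at h2
      right
      omega

/-! ### simple bonds -/

theorem V_eq (cs : CoxeterSystem M W) (h : IsCartan M A) (X : (I → ℤ) → Subgroup Y) (a : I) :
    VJ cs h X {a} = RGD.Sup X (RGD.PosNe cs h a) := by
  have : NotJ cs h {a} = RGD.PosNe cs h a := by
    ext x
    constructor
    · rintro ⟨hx, h0, k, hk, hk0⟩
      refine ⟨hx, h0, ?_⟩
      rintro rfl
      rw [sr_ne hk] at hk0
      exact lt_irrefl _ hk0
    · rintro ⟨hx, h0, hne⟩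
      obtain ⟨k, hk, hk0⟩ := RGD.exists_coeff hx h0 hne
      exact ⟨hx, h0, k, hk, hk0⟩
  unfold VJ
  rw [this]

theorem V_anti {J J' : Set I} (hJ : J ⊆ J') : VJ cs h X J' ≤ VJ cs h X J :=
  RGD.Sup_mono fun _ hx => ⟨hx.1, hx.2.1, by
    obtain ⟨k, hk, hk0⟩ := hx.2.2
    exact ⟨k, fun h1 => hk (hJ h1), hk0⟩⟩

section Three

variable (R : RGD cs h p T n X)

include R

theorem X_inf_V [Finite W] {a : I} {x : Y} (hx : x ∈ X (sr a)) (hV : x ∈ VJ cs h X {a}) : x = 1 := by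
  rw [V_eq] at hV
  exact eq_one_of_mem_PosNe R hx hV

theorem XV_split {J : Set I} {x : I → ℤ} (hx : x ∈ RootsJ cs h J) {g : Y} (hg : g ∈ X x ⊔ VJ cs h X J) :
    ∃ s ∈ X x, ∃ q ∈ VJ cs h X J, g = s * q := by
  have h1 : g ∈ ((X x ⊔ VJ cs h X J : Subgroup Y) : Set Y) := hg
  rw [Subgroup.coe_mul_of_left_le_normalizer_right _ _ (le_trans (X_le_LJ hx) (LJ_le_normalizer_VJ R J)),
    Set.mem_mul] at h1
  obtain ⟨l, hl, v, hv, e⟩ := h1
  exact ⟨l, hl, v, hv, e.symm⟩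

end Three

/-- **Simple bonds.** -/
theorem NT.of_three [Finite W] (R : RGD cs h p T n X) {a b : I} (hab : M a b = 3) {c : Y} (hc : NT cs h X c b) :
    NT cs h X c a := by
  have hne : a ≠ b := by
    rintro rfl
    rw [M.diagonal] at hab
    omega
  have hA : A2 cs h (sr a) (sr b) := a2_of_three hab
  have hA1 : A a b = -1 ∧ A b a = -1 := by
    rcases h.rel a b hne with h1 | h1 | h1 | h1
    · rw [hab] at h1; omega
    · exact h1.2
    · rw [hab] at h1; omega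
    · rw [hab] at h1; omega
  obtain ⟨g, h1, h2⟩ := hc
  apply NT.of_conj g
  generalize g * c * g⁻¹ = c at h1 h2
  by_cases h3 : c ∈ VJ cs h X {a}
  swap
  · exact ⟨1, by rwa [one_mul, inv_one, mul_one], by rwa [one_mul, inv_one, mul_one]⟩
  -- the component in `X b`
  obtain ⟨r, hr, y, hy, rfl⟩ := exists_mul R (S := NotJ cs h {a}) (i := b) (fun x hx => ⟨hx.1, hx.2.1⟩)
    (sr_mem_NotJ (fun h4 => hne h4.symm)) (fun y hy _ z hz => by
      obtain ⟨hy1, hy0, k, hk, hk0⟩ := hy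
      exact ⟨hz.1, RGD.nonneg_of_btwn (sr_nonneg b) hy0 hz, k, hk, btwn_apply_pos hz.symm hk0 (sr_nonneg b k)⟩) h3
  set J : Set I := {a, b} with hJ
  have haJ : sr a ∈ RootsJ cs h J := PosJ_subset J (sr_mem_PosJ (Or.inl rfl))
  have hbJ : sr b ∈ RootsJ cs h J := PosJ_subset J (sr_mem_PosJ (Or.inr rfl))
  have habJ : sr a + sr b ∈ RootsJ cs h J := by
    refine ⟨hA.rxy, fun k hk => ?_⟩
    rw [Pi.add_apply, haJ.2 k hk, hbJ.2 k hk, add_zero]
  have hr' : r ∈ X (sr a + sr b) ⊔ VJ cs h X J := by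
    refine (RGD.Sup_le fun x hx => ?_ : RGD.Sup X (NotJ cs h {a} \ {sr b}) ≤ _) hr
    obtain ⟨⟨hx1, hx0, k, hk, hk0⟩, hxb⟩ := hx
    rcases mem_PosJ_or_NotJ J hx1 hx0 with h4 | h4
    · have hkb : k = b := by
        by_contra h5
        rw [h4.2.2 k (by
          rintro (h6 | h6)
          · exact hk h6
          · exact h5 h6)] at hk0
        exact lt_irrefl _ hk0
      subst hkb
      have h5 : 0 < x a := by
        rcases (hx0 a).lt_or_eq with h6 | h6
        · exact h6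
        · exfalso
          apply hxb
          refine hx1.eq_sr hx0 k fun j hj => ?_
          by_cases hja : j = a
          · rw [hja]; exact h6.symm
          · exact h4.2.2 j (by
              rintro (h7 | h7)
              · exact hja h7
              · exact hj h7)
      have h6 : x = sr a + sr k := eq_add_of_supp hne hA1.1 hA1.2 hx1 h5 hk0 fun j hj hj' => h4.2.2 j (by
        rintro (h7 | h7)
        · exact hj h7
        · exact hj' h7)
      rw [h6]
      exact le_sup_left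
    · exact le_trans (RGD.le_Sup h4) le_sup_right
  obtain ⟨s, hs, q, hq, rfl⟩ := XV_split R habJ hr'
  have hVa : VJ cs h X J ≤ VJ cs h X {a} := V_anti (by rintro x rfl; exact Or.inl rfl)
  have hVb : VJ cs h X J ≤ VJ cs h X {b} := V_anti (by rintro x rfl; exact Or.inr rfl)
  have hsb : s ∈ VJ cs h X {b} := by
    refine RGD.le_Sup (S := NotJ cs h {b}) (z := sr a + sr b) ?_ hs
    refine ⟨hA.rxy, add_nonneg (sr_nonneg a) (sr_nonneg b), a, hne, ?_⟩
    rw [Pi.add_apply, sr_self, sr_ne hne]; norm_num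
  have hy1 : y ≠ 1 := by
    rintro rfl
    apply h2
    rw [mul_one]
    exact mul_mem hsb (hVb hq)
  obtain ⟨v, hv, e⟩ := hA.symm.comm_surj R hy hy1 (w := s) (by rwa [add_comm])
  have hnV : ∀ {x : I → ℤ} {l : Y}, x ∈ RootsJ cs h J → l ∈ X x → ∀ {q : Y}, q ∈ VJ cs h X J →
      l * q * l⁻¹ ∈ VJ cs h X J := fun hx hl q hq =>
    (Subgroup.mem_normalizer_iff.1 (LJ_le_normalizer_VJ R J (X_le_LJ hx hl)) q).1 hq
  -- `v c v⁻¹ = y q₁`
  have h4 : v * (s * q * y) * v⁻¹ = y * ((v * y)⁻¹ * (v * y * (y⁻¹ * q * y) * v⁻¹) * y) ∨ True := Or.inr trivial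
  clear h4
  have hvs : v * s = s * v := (hA.comm_left R hs hv).symm
  have h4 : v * (s * q * y) * v⁻¹ = y * (v * (y⁻¹ * q * y) * v⁻¹) := by
    have h5 : v * y * v⁻¹ = s⁻¹ * y := by
      have h6 : y * v * y⁻¹ * v⁻¹ = s := e
      have h7 : v * y * v⁻¹ = (y * v * y⁻¹ * v⁻¹)⁻¹ * y := by group
      rw [h7, h6]
    have h8 : v * (s * q * y) * v⁻¹ = (v * s) * y * (v⁻¹ * v) * (y⁻¹ * q * y) * v⁻¹ := by group
    rw [h8, hvs]
    have h9 : s * v * y * (v⁻¹ * v) * (y⁻¹ * q * y) * v⁻¹ = s * (v * y * v⁻¹) * (v * (y⁻¹ * q * y) * v⁻¹) := by group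
    rw [h9, h5]; group
  have hq1 : v * (y⁻¹ * q * y) * v⁻¹ ∈ VJ cs h X J := by
    refine hnV haJ hv ?_
    have := hnV hbJ (inv_mem hy) hq
    rwa [inv_inv] at this
  apply NT.of_conj v
  rw [h4]
  generalize v * (y⁻¹ * q * y) * v⁻¹ = q1 at hq1
  -- conjugate by `n a`, `n b`
  have hw : Rp cs R.nsys (cs.simple b * cs.simple a) (n b * n a) := (rp_simple cs R.nsys b).mul (rp_simple cs R.nsys a)
  have hwJ : cs.simple b * cs.simple a ∈ WJ cs J :=
    mul_mem (simple_mem_WJ cs (Or.inr rfl)) (simple_mem_WJ cs (Or.inl rfl))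
  have h5 : rep cs h (cs.simple b * cs.simple a) (sr b) = sr a := by
    rw [rep_mul_apply, ← rt_zero_one a b, rep_left, rep_right, hA1.1, hA1.2, ← rt_one_zero a b]
    norm_num
  have h6 : n b * n a * y * (n b * n a)⁻¹ ∈ X (sr a) := by
    have := R.conj_mem hw (isRoot_sr cs h b) hy
    rwa [h5] at this
  have hkP : n b * n a ∈ PJ cs h T X J := LJ_le_PJ (rp_mem_LJ R hwJ hw)
  have h7 : n b * n a * q1 * (n b * n a)⁻¹ ∈ VJ cs h X J := (P_conj_V R hkP).2 hq1
  have e1 : n b * n a * (y * q1) * (n b * n a)⁻¹ =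
      (n b * n a * y * (n b * n a)⁻¹) * (n b * n a * q1 * (n b * n a)⁻¹) := by group
  refine ⟨n b * n a, ?_, ?_⟩
  · rw [e1]
    exact mul_mem (RGD.le_Sup (S := RGD.Pos cs h) ⟨isRoot_sr cs h a, sr_nonneg a⟩ h6) (VJ_le_U J h7)
  · intro h8
    rw [e1] at h8
    have h9 := X_inf_V R h6 ((mul_mem_cancel_right (hVa h7)).1 h8)
    apply hy1
    have : y = (n b * n a)⁻¹ * (n b * n a * y * (n b * n a)⁻¹) * (n b * n a) := by group
    rw [this, h9]; group

end Cfsg.Agent.H798.T5Root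
end

private theorem dce_dc0e6698e177 : _root_.True := by
  try have : _root_.True := by simp only [_root_.Cfsg.Agent.H798.T5Geo.NT.congr_simp]
  try have : _root_.True := by simp only [_root_.Cfsg.Agent.H798.T5Root.rt.congr_simp]
  exact _root_.True.intro
end

-- part: H798/T5Bond
section
set_option linter.all false
open scoped Cfsg.Agent.FastGrp

/-!
T5, defining characteristic, part 3 (helper798): multiple bonds.

* `Bd` : the bond property: `NT c i`, `NT d j`, not `NT d i` ⟹ `WPair p ⊤ c d`;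
* `wpair_of_only` : if `d` fixes only one `i`-panel of the residue;
* `Nc R i j` : no element `s ≠ 1` of `X (s_i α_j)` commutes with `X α_j`; `bd_of_nc` : `M i j = 4`, `Nc i j` ⟹ `Bd i j`.
-/

set_option autoImplicit false
set_option linter.unusedSectionVars false
set_option maxHeartbeats 400000

namespace Cfsg.Agent.H798.T5Bond

open CoxeterSystem Cfsg.Agent.ChevalleyStructure.CoxeterGeom Cfsg.Agent.Tits.Roots Cfsg.Agent.Tits.Core
  Cfsg.Agent.Tits.RootComb Cfsg.Agent.Tits.Exchange Cfsg.Agent.Nodes.Reps Cfsg.Agent.Nodes.BNOf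
  Cfsg.Agent.Nodes.StabComb Cfsg.Agent.Nodes.Bruhat Cfsg.Agent.Nodes.OppDec Cfsg.Agent.Nodes.LeviDec
  Cfsg.Agent.Nodes.Coroot Cfsg.Agent.KFacts.RgdSL Cfsg.Agent.H533.T5 Cfsg.Agent.H798.T5Geo
  Cfsg.Agent.H798.T5Root
open scoped commutatorElement

variable {I W Y : Type*} [Fintype I] [DecidableEq I] [Group W] [Group Y] {M : CoxeterMatrix I}
  {cs : CoxeterSystem M W} {A : I → I → ℤ} {h : IsCartan M A} {p : ℕ} {T : Subgroup Y} {n : I → Y}
  {X : (I → ℤ) → Subgroup Y}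

/-- `s_j s_i` for a bond: `s_j s_i α_i < 0` and `s_i s_j s_i α_i < 0` -/
theorem bond_signs (cs : CoxeterSystem M W) (h : IsCartan M A) {i j : I} (hij : i ≠ j) (hM : M i j ≠ 2) :
    rep cs h (cs.simple j * cs.simple i) (sr i) ≤ 0 ∧
      rep cs h (cs.simple i * (cs.simple j * cs.simple i)) (sr i) ≤ 0 ∧
      0 ≤ rep cs h (cs.simple j * cs.simple i)⁻¹ (sr i) := by
  have hA : 1 ≤ A i j * A j i ∧ A i j ≤ -1 ∧ A j i ≤ -1 := by
    rcases h.rel i j hij with h1 | h1 | h1 | h1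
    · exact absurd h1.1 hM
    · rw [h1.2.1, h1.2.2]; norm_num
    · rcases h1.2 with h2 | h2 <;> rw [h2.1, h2.2] <;> norm_num
    · rcases h1.2 with h2 | h2 <;> rw [h2.1, h2.2] <;> norm_num
  refine ⟨?_, ?_, ?_⟩
  · rw [rep_mul_apply, ← rt_one_zero i j, rep_left, rep_right, rt_nonpos hij]
    constructor <;> linarith [hA.1, hA.2.1, hA.2.2]
  · rw [rep_mul_apply, rep_mul_apply, ← rt_one_zero i j, rep_left, rep_right, rep_left, rt_nonpos hij]
    constructor <;> nlinarith [hA.1, hA.2.1, hA.2.2]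
  · rw [mul_inv_rev, cs.inv_simple, cs.inv_simple, rep_mul_apply, ← rt_one_zero i j, rep_right, rep_left,
      rt_nonneg hij]
    constructor <;> nlinarith [hA.1, hA.2.1, hA.2.2]

section Only

variable (R : RGD cs h p T n X)

include R

/-- If `d ∈ U` and no `P_i`-conjugate of `d` lies in `V_j`, while all lie in `U`, then the chambers of the residue
fixed by `d` are the chambers of one `i`-panel. -/
theorem mem_P_of_only [Finite W] {i j : I} {d : Y}
    (hd : ∀ g ∈ PJ cs h T X {i}, g * d * g⁻¹ ∈ RGD.Sup X (RGD.Pos cs h) ∧ g * d * g⁻¹ ∉ VJ cs h X {j}) {g : Y}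
    (hg : g ∈ PJ cs h T X {i, j}) (h1 : g * d * g⁻¹ ∈ RGD.B cs h T X) : g ∈ PJ cs h T X {i} := by
  obtain ⟨w, hw, b, hb, k, hk, b', hb', rfl⟩ := (mem_PJ_iff_cell R).1 hg
  have hni : n i ∈ PJ cs h T X {i} := LJ_le_PJ (n_mem_LJ R rfl)
  have hb'P : b' ∈ PJ cs h T X {i} := B_le_PJ hb'
  have h2 : k * (b' * d * b'⁻¹) * k⁻¹ ∈ RGD.B cs h T X := by
    have e : k * (b' * d * b'⁻¹) * k⁻¹ = b⁻¹ * (b * k * b' * d * (b * k * b')⁻¹) * b := by group
    rw [e]
    exact mul_mem (mul_mem (inv_mem hb) h1) hb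
  refine mul_mem (mul_mem (B_le_PJ hb) ?_) hb'P
  by_cases hw1 : w = 1
  · subst hw1
    exact B_le_PJ (RGD.T_le_B hk.mem_of_one)
  obtain ⟨l, hl, h3, h4, h5⟩ := exists_desc (h := h) hw hw1
  rcases hl with hl | hl
  · subst hl
    -- `k = k' n`
    have hk' : Rp cs R.nsys (w * cs.simple l) (k * (n l)⁻¹) := by
      have := hk.mul (rp_simple cs R.nsys l).inv
      rwa [cs.inv_simple] at this
    have h6 : k * (n l)⁻¹ * ((n l * b') * d * (n l * b')⁻¹) * (k * (n l)⁻¹)⁻¹ ∈ RGD.B cs h T X := by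
      have e : k * (n l)⁻¹ * ((n l * b') * d * (n l * b')⁻¹) * (k * (n l)⁻¹)⁻¹ = k * (b' * d * b'⁻¹) * k⁻¹ := by
        group
      rwa [e]
    by_cases h7 : w * cs.simple l = 1
    · rw [h7] at hk'
      have h8 : k * (n l)⁻¹ ∈ PJ cs h T X {l} := B_le_PJ (RGD.T_le_B hk'.mem_of_one)
      have e : k = k * (n l)⁻¹ * n l := by group
      rw [e]
      exact mul_mem h8 hni
    · exfalso
      obtain ⟨l', hl', h8, -, -⟩ := exists_desc (h := h) h4 h7
      have hl'j : l' = j := by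
        rcases hl' with h9 | h9
        · exfalso
          rw [h9] at h8
          exact ((isRoot_sr cs h l).act (w * cs.simple l)).not_pos_neg h5 h8
        · exact h9
      subst hl'j
      have h9 := hd (n l * b') (mul_mem hni hb'P)
      exact h9.2 (mem_V_of_conj R hk' h8 h9.1 h6)
  · exfalso
    have hl' : l = j := hl
    subst hl'
    have h9 := hd b' hb'P
    exact h9.2 (mem_V_of_conj R hk h3 h9.1 h2)

/-- An element of `U` all of whose `P_{ij}`-conjugates lie in `P_i` lies in `V_i`. -/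
theorem mem_V_of_core [Finite W] [Finite Y] [Fact p.Prime] {i j : I} (hij : i ≠ j) (hM : M i j ≠ 2) {c : Y}
    (hc : c ∈ RGD.Sup X (RGD.Pos cs h))
    (hP : n j * n i * c * (n j * n i)⁻¹ ∈ PJ cs h T X {i}) : c ∈ VJ cs h X {i} := by
  obtain ⟨s1, s2, s3⟩ := bond_signs cs h hij hM
  by_contra hcV
  set k := n j * n i with hk
  have hkR : Rp cs R.nsys (cs.simple j * cs.simple i) k := (rp_simple cs R.nsys j).mul (rp_simple cs R.nsys i)
  have hpc : IsPGroup p (Subgroup.zpowers (k * c * k⁻¹)) := by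
    have h1 : IsPGroup p (Subgroup.zpowers c) := R.isPGroup_Upos.to_le (by
      rw [Subgroup.zpowers_le]; exact hc)
    have h2 : Subgroup.zpowers (k * c * k⁻¹) = (Subgroup.zpowers c).map (MulAut.conj k).toMonoidHom := by
      rw [MonoidHom.map_zpowers]; rfl
    rw [h2]
    exact h1.map _
  obtain ⟨r, hr, hrK⟩ := exists_conj_U_P R (J := {i}) hpc (by rw [Subgroup.zpowers_le]; exact hP)
  have h1 := hrK _ (Subgroup.mem_zpowers _)
  -- `r ∈ B`
  have hB : k * c * k⁻¹ ∈ RGD.B cs h T X → False := fun h2 => hcV (mem_V_of_conj R hkR s1 hc h2)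
  rcases mem_P_cases R hr with h2 | ⟨b, hb, m, hm, b', hb', rfl⟩
  · apply hB
    have e : k * c * k⁻¹ = r⁻¹ * (r * (k * c * k⁻¹) * r⁻¹) * r := by group
    rw [e]
    exact mul_mem (mul_mem (inv_mem h2) (RGD.U_le_B h1)) h2
  · obtain ⟨v, hv, x, hx, t, ht, rfl⟩ := R.mem_B' i hb'
    have hv' : v ∈ VJ cs h X {i} := by rw [V_eq]; exact hv
    have hmP : m ∈ PJ cs h T X {i} := LJ_le_PJ (rp_mem_LJ R (simple_mem_WJ cs (Set.mem_singleton i)) hm)
    have hmv : m * v * m⁻¹ ∈ RGD.B cs h T X := VJ_le_B {i} ((P_conj_V R hmP).2 hv')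
    -- `x t k = k x' t'`
    have hx' : k⁻¹ * x * k ∈ RGD.Sup X (RGD.Pos cs h) :=
      RGD.le_Sup (S := RGD.Pos cs h) ⟨(isRoot_sr cs h i).act _, s3⟩ (R.conj_mem' hkR (isRoot_sr cs h i) hx)
    have ht' : k⁻¹ * t * k ∈ T := by
      have h3 : cj k⁻¹ T = T := cj_T R hkR.inv
      rw [← h3]
      have := (conj_mem_cj (g := k⁻¹) (A := T)).2 ht
      rwa [inv_inv] at this
    have hbb : k⁻¹ * x * k * (k⁻¹ * t * k) ∈ RGD.B cs h T X := mul_mem (RGD.U_le_B hx') (RGD.T_le_B ht')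
    set y := k⁻¹ * x * k * (k⁻¹ * t * k) with hy
    have h3 : y * c * y⁻¹ ∈ RGD.Sup X (RGD.Pos cs h) := B_conj_U R hbb hc
    have h4 : y * c * y⁻¹ ∉ VJ cs h X {i} := fun h5 => hcV ((P_conj_V R (B_le_PJ hbb)).1 h5)
    apply h4
    have hmk : Rp cs R.nsys (cs.simple i * (cs.simple j * cs.simple i)) (m * k) := hm.mul hkR
    refine mem_V_of_conj R hmk s2 h3 ?_
    have e : m * k * (y * c * y⁻¹) * (m * k)⁻¹ = (b * (m * v * m⁻¹))⁻¹ *
        (b * m * (v * x * t) * (k * c * k⁻¹) * (b * m * (v * x * t))⁻¹) * (b * (m * v * m⁻¹)) := by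
      rw [hy]; group
    rw [e]
    have h5 := mul_mem hb hmv
    exact mul_mem (mul_mem (inv_mem h5) (RGD.U_le_B h1)) h5

/-- **The first alternative**: `d` fixes only the chambers of an `i`-panel of the residue. -/
theorem wpair_of_only [Finite W] [Finite Y] [Fact p.Prime] {i j : I} (hij : i ≠ j) (hM : M i j ≠ 2) {c d : Y}
    (hc : NT cs h X c i)
    (hd : ∀ g ∈ PJ cs h T X {i}, g * d * g⁻¹ ∈ RGD.Sup X (RGD.Pos cs h) ∧ g * d * g⁻¹ ∉ VJ cs h X {j}) :
    WPair p (⊤ : Subgroup Y) c d := by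
  obtain ⟨g0, hc1, hc2⟩ := hc
  refine WPair.conj_left (s := g0) (Subgroup.mem_top _) ?_
  generalize g0 * c * g0⁻¹ = c at hc1 hc2
  by_contra hW
  have hK : ∀ g : Y, IsPGroup p ↥(Subgroup.closure ({c, g * d * g⁻¹} : Set Y)) := by
    intro g
    by_contra h1
    exact hW ⟨g, Subgroup.mem_top _, h1⟩
  set J : Set I := {i, j} with hJ
  have hUP : RGD.Sup X (RGD.Pos cs h) ≤ PJ cs h T X J := le_trans RGD.U_le_B B_le_PJ
  have hdU : d ∈ RGD.Sup X (RGD.Pos cs h) := by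
    have := (hd 1 (one_mem _)).1
    rwa [one_mul, inv_one, mul_one] at this
  have key : ∀ g ∈ PJ cs h T X J, g⁻¹ * c * g ∈ PJ cs h T X {i} := by
    intro g hg
    obtain ⟨k, hk, hkK⟩ := exists_conj_U_P R (J := J) (hK g) (by
      rw [Subgroup.closure_le]
      rintro x hx
      rcases hx with rfl | hx
      · exact hUP hc1
      · rw [Set.mem_singleton_iff] at hx
        rw [hx]
        exact mul_mem (mul_mem hg (hUP hdU)) (inv_mem hg))
    have h1 := hkK c (Subgroup.subset_closure (by simp))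
    have h2 := hkK (g * d * g⁻¹) (Subgroup.subset_closure (by simp))
    have e : k * (g * d * g⁻¹) * k⁻¹ = (k * g) * d * (k * g)⁻¹ := by group
    rw [e] at h2
    have h3 := mem_P_of_only R hd (mul_mem hk hg) (RGD.U_le_B h2)
    have e' : g⁻¹ * c * g = (k * g)⁻¹ * (k * c * k⁻¹) * (k * g) := by group
    rw [e']
    exact mul_mem (mul_mem (inv_mem h3) (le_trans RGD.U_le_B B_le_PJ h1)) h3
  apply hc2
  refine mem_V_of_core R hij hM hc1 ?_
  have hw : n j * n i ∈ PJ cs h T X J :=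
    LJ_le_PJ (mul_mem (n_mem_LJ R (Or.inr rfl)) (n_mem_LJ R (Or.inl rfl)))
  have := key (n j * n i)⁻¹ (inv_mem hw)
  rwa [inv_inv] at this

end Only

/-- The bond property. -/
def Bd (cs : CoxeterSystem M W) (h : IsCartan M A) (p : ℕ) (X : (I → ℤ) → Subgroup Y) (i j : I) : Prop :=
  ∀ c d : Y, IsPGroup p (Subgroup.zpowers d) → NT cs h X c i → NT cs h X d j → ¬ NT cs h X d i →
    WPair p (⊤ : Subgroup Y) c d

section Dich

variable (R : RGD cs h p T n X)

include R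

/-- some conjugate of `d` in `U` has a `P_i`-conjugate in `V_j` ⟹ a ball -/
theorem exists_ball_of_mem [Finite W] {i j : I} {d g0 : Y} (hd2 : g0 * d * g0⁻¹ ∉ VJ cs h X {j})
    (hdi : ¬ NT cs h X d i)
    (hex : ∃ g ∈ PJ cs h T X {i}, g * (g0 * d * g0⁻¹) * g⁻¹ ∈ VJ cs h X {j}) :
    ∃ y : Y, y * d * y⁻¹ ∉ VJ cs h X {i, j} ∧ ∀ g ∈ PJ cs h T X {j},
      g * (y * d * y⁻¹) * g⁻¹ ∈ VJ cs h X {i} ∧ g * (y * d * y⁻¹) * g⁻¹ ∈ VJ cs h X {j} := by
  have hV := fun g => mem_V_of_not_NT hdi g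
  obtain ⟨g, hg, h1⟩ := hex
  have e : g * (g0 * d * g0⁻¹) * g⁻¹ = g * g0 * d * (g * g0)⁻¹ := by group
  refine ⟨g * g0, ?_, fun r hr => ?_⟩
  · intro h2
    have hgP : g ∈ PJ cs h T X {i, j} := by
      rcases mem_P_cases R hg with h3 | ⟨b, hb, m, hm, b', hb', rfl⟩
      · exact B_le_PJ h3
      · exact mul_mem (mul_mem (B_le_PJ hb) (LJ_le_PJ (rp_mem_LJ R (simple_mem_WJ cs (Or.inl rfl)) hm)))
          (B_le_PJ hb')
    rw [← e, P_conj_V R hgP] at h2
    exact hd2 (V_anti (by rintro x rfl; exact Or.inr rfl) h2)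
  · rw [e] at h1
    have h3 : r * (g * g0 * d * (g * g0)⁻¹) * r⁻¹ ∈ VJ cs h X {j} := (P_conj_V R hr).2 h1
    refine ⟨?_, h3⟩
    have e' : r * (g * g0 * d * (g * g0)⁻¹) * r⁻¹ = (r * g * g0) * d * (r * g * g0)⁻¹ := by group
    rw [e'] at h3 ⊢
    exact hV _ (VJ_le_U _ h3)

/-- **The dichotomy**: if the pair property fails, some conjugate `e` of `d` outside `V_{ij}` has all its
`P_j`-conjugates in `V_i ∩ V_j`. -/
theorem exists_ball [Finite W] [Finite Y] [Fact p.Prime] {i j : I} (hij : i ≠ j) (hM : M i j ≠ 2) {c d : Y}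
    (hc : NT cs h X c i) (hdj : NT cs h X d j) (hdi : ¬ NT cs h X d i) (hW : ¬ WPair p (⊤ : Subgroup Y) c d) :
    ∃ y : Y, y * d * y⁻¹ ∉ VJ cs h X {i, j} ∧ ∀ g ∈ PJ cs h T X {j},
      g * (y * d * y⁻¹) * g⁻¹ ∈ VJ cs h X {i} ∧ g * (y * d * y⁻¹) * g⁻¹ ∈ VJ cs h X {j} := by
  obtain ⟨g0, hd1, hd2⟩ := hdj
  have hV := fun g => mem_V_of_not_NT hdi g
  have hd3 := hV g0 hd1
  by_cases hex : ∃ g ∈ PJ cs h T X {i}, g * (g0 * d * g0⁻¹) * g⁻¹ ∈ VJ cs h X {j}
  · obtain ⟨g, hg, h1⟩ := hex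
    have e : g * (g0 * d * g0⁻¹) * g⁻¹ = g * g0 * d * (g * g0)⁻¹ := by group
    refine ⟨g * g0, ?_, fun r hr => ?_⟩
    · intro h2
      have hgP : g ∈ PJ cs h T X {i, j} := by
        rcases mem_P_cases R hg with h3 | ⟨b, hb, m, hm, b', hb', rfl⟩
        · exact B_le_PJ h3
        · exact mul_mem (mul_mem (B_le_PJ hb) (LJ_le_PJ (rp_mem_LJ R (simple_mem_WJ cs (Or.inl rfl)) hm)))
            (B_le_PJ hb')
      rw [← e, P_conj_V R hgP] at h2
      exact hd2 (V_anti (by rintro x rfl; exact Or.inr rfl) h2)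
    · rw [e] at h1
      have h3 : r * (g * g0 * d * (g * g0)⁻¹) * r⁻¹ ∈ VJ cs h X {j} := (P_conj_V R hr).2 h1
      refine ⟨?_, h3⟩
      have e' : r * (g * g0 * d * (g * g0)⁻¹) * r⁻¹ = (r * g * g0) * d * (r * g * g0)⁻¹ := by group
      rw [e'] at h3 ⊢
      exact hV _ (VJ_le_U _ h3)
  · exfalso
    push Not at hex
    apply hW
    refine WPair.conj_right (s := g0) (Subgroup.mem_top _) (wpair_of_only R hij hM hc fun g hg => ⟨?_, hex g hg⟩)
    exact VJ_le_U _ ((P_conj_V R hg).2 hd3)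

end Dich

/-- No element `≠ 1` of `X (s_i α_j)` commutes with `X α_j`. -/
def Nc (cs : CoxeterSystem M W) (h : IsCartan M A) (X : (I → ℤ) → Subgroup Y) (i j : I) : Prop :=
  ∀ s ∈ X (rep cs h (cs.simple i) (sr j)), (∀ u ∈ X (sr j), u * s = s * u) → s = 1

/-- `s_i s_j s_i` for a double bond -/
theorem iji_apply (cs : CoxeterSystem M W) (h : IsCartan M A) {i j : I} (hij : i ≠ j) (hM : M i j = 4) {x : I → ℤ}
    (hx : x ∈ RootsJ cs h {i, j}) : rep cs h (cs.simple i * cs.simple j * cs.simple i) x i = -x i := by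
  rw [eq_rt_of_RootsJ hij hx, rep_mul_apply, rep_mul_apply, rep_left, rep_right, rep_left, rt_left hij, rt_left hij]
  rcases h.rel i j hij with h1 | h1 | h1 | h1
  · omega
  · omega
  · rcases h1.2 with h2 | h2 <;> rw [h2.1, h2.2] <;> ring
  · omega

/-- **No ball**, double bond. -/
theorem ball_false_of_nc [Finite W] (R : RGD cs h p T n X) {i j : I} (hM : M i j = 4)
    (hN : Nc cs h X i j) {e : Y} (hy1 : e ∉ VJ cs h X {i, j}) (hy2 : ∀ g ∈ PJ cs h T X {j},
      g * e * g⁻¹ ∈ VJ cs h X {i} ∧ g * e * g⁻¹ ∈ VJ cs h X {j}) : False := by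
  have hij : i ≠ j := by
    rintro rfl
    rw [M.diagonal] at hM
    omega
  set J : Set I := {i, j} with hJ
  have hnj : n j ∈ PJ cs h T X {j} := LJ_le_PJ (n_mem_LJ R rfl)
  have hni : n i ∈ PJ cs h T X {i} := LJ_le_PJ (n_mem_LJ R rfl)
  have hiJ : sr i ∈ RootsJ cs h J := PosJ_subset J (sr_mem_PosJ (Or.inl rfl))
  have hjJ : sr j ∈ RootsJ cs h J := PosJ_subset J (sr_mem_PosJ (Or.inr rfl))
  set β : I → ℤ := rep cs h (cs.simple i) (sr j) with hβ
  have hβJ : β ∈ RootsJ cs h J := RootsJ.act (simple_mem_WJ cs (Or.inl rfl)) hjJ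
  have hsi : ∀ x : I → ℤ, rep cs h (cs.simple i) (rep cs h (cs.simple i) x) = x := fun x => by
    rw [← rep_mul_apply, cs.simple_mul_simple_self, map_one, Module.End.one_apply]
  -- the shape of the elements
  have shape : ∀ f : Y, (∀ g ∈ PJ cs h T X {j}, g * f * g⁻¹ ∈ VJ cs h X {i} ∧ g * f * g⁻¹ ∈ VJ cs h X {j}) →
      ∃ s ∈ X β, ∃ q ∈ VJ cs h X J, f = s * q := by
    intro f hf
    have h1 : f ∈ VJ cs h X {i} := by
      have := (hf 1 (one_mem _)).1
      rwa [one_mul, inv_one, mul_one] at this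
    have h2 : n i * f * (n i)⁻¹ ∈ VJ cs h X {i} := (P_conj_V R hni).2 h1
    have h3 : n i * (n j * f * (n j)⁻¹) * (n i)⁻¹ ∈ VJ cs h X {i} := (P_conj_V R hni).2 (hf _ hnj).1
    have hk : Rp cs R.nsys (cs.simple i * cs.simple j * cs.simple i) (n i * n j * (n i)⁻¹) := by
      have := ((rp_simple cs R.nsys i).mul (rp_simple cs R.nsys j)).mul (rp_simple cs R.nsys i).inv
      rwa [cs.inv_simple] at this
    have h4 : n i * n j * (n i)⁻¹ * (n i * f * (n i)⁻¹) * (n i * n j * (n i)⁻¹)⁻¹ ∈ RGD.B cs h T X := by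
      have e1 : n i * n j * (n i)⁻¹ * (n i * f * (n i)⁻¹) * (n i * n j * (n i)⁻¹)⁻¹ =
          n i * (n j * f * (n j)⁻¹) * (n i)⁻¹ := by group
      rw [e1]
      exact VJ_le_B _ h3
    have h5 := Nodes.Slope.mem_of_conj_mem_B R hk.inv (VJ_le_U _ h2) (by rwa [inv_inv])
    have h6 : n i * f * (n i)⁻¹ ∈ X (sr j) ⊔ VJ cs h X J := by
      refine (RGD.Sup_le fun x hx => ?_ : RGD.Sup X {x | IsRoot cs h x ∧ 0 ≤ x ∧
        0 ≤ rep cs h (cs.simple i * cs.simple j * cs.simple i)⁻¹⁻¹ x} ≤ _) h5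
      obtain ⟨hx1, hx0, hx2⟩ := hx
      rw [inv_inv] at hx2
      rcases mem_PosJ_or_NotJ J hx1 hx0 with h7 | h7
      · have h8 := iji_apply cs h hij hM (PosJ_subset J h7)
        have h9 : x i = 0 := by
          have h10 := hx2 i
          rw [h8] at h10
          have h11 : (0 : ℤ) ≤ x i := hx0 i
          have h12 : (0 : ℤ) ≤ -x i := h10
          omega
        have h10 : x = sr j := hx1.eq_sr hx0 j fun k hk => by
          by_cases hki : k = i
          · rw [hki]; exact h9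
          · exact h7.2.2 k (by
              rintro (h11 | h11)
              · exact hki h11
              · exact hk h11)
        rw [h10]
        exact le_sup_left
      · exact le_trans (RGD.le_Sup h7) le_sup_right
    obtain ⟨s, hs, q, hq, e1⟩ := XV_split R hjJ h6
    have hniJ : n i ∈ PJ cs h T X J := LJ_le_PJ (n_mem_LJ R (Or.inl rfl))
    refine ⟨(n i)⁻¹ * s * n i, ?_, (n i)⁻¹ * q * n i, ?_, ?_⟩
    · have := R.conj_mem' (rp_simple cs R.nsys i) (isRoot_sr cs h j) hs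
      rwa [cs.inv_simple] at this
    · have := (P_conj_V R (inv_mem hniJ)).2 hq
      rwa [inv_inv] at this
    · have e2 : f = (n i)⁻¹ * (n i * f * (n i)⁻¹) * n i := by group
      rw [e2, e1]; group
  obtain ⟨s, hs, q, hq, rfl⟩ := shape e hy2
  apply hy1
  have hs1 : s = 1 := by
    refine hN s hs fun u hu => ?_
    have huJ : u ∈ LJ cs h T X J := X_le_LJ hjJ hu
    have hsJ : s ∈ LJ cs h T X J := X_le_LJ hβJ hs
    have huP : u ∈ PJ cs h T X {j} := LJ_le_PJ (X_le_LJ (PosJ_subset {j} (sr_mem_PosJ rfl)) hu)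
    obtain ⟨s', hs', q', hq', e1⟩ := shape (u * (s * q) * u⁻¹) fun g hg => by
      have e2 : g * (u * (s * q) * u⁻¹) * g⁻¹ = (g * u) * (s * q) * (g * u)⁻¹ := by group
      rw [e2]
      exact hy2 _ (mul_mem hg huP)
    have huq : u * q * u⁻¹ ∈ VJ cs h X J := (P_conj_V R (LJ_le_PJ huJ)).2 hq
    have h1 : s'⁻¹ * (u * s * u⁻¹) = q' * (u * q * u⁻¹)⁻¹ := by
      have e2 : u * s * u⁻¹ * (u * q * u⁻¹) = s' * q' := by rw [← e1]; group
      rw [eq_mul_inv_iff_mul_eq, mul_assoc, e2]; group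
    have h2 : s'⁻¹ * (u * s * u⁻¹) ∈ LJ cs h T X J :=
      mul_mem (inv_mem (X_le_LJ hβJ hs')) (mul_mem (mul_mem huJ hsJ) (inv_mem huJ))
    have h3 : s'⁻¹ * (u * s * u⁻¹) ∈ VJ cs h X J := by
      rw [h1]; exact mul_mem hq' (inv_mem huq)
    have h4 := eq_one_of_mem_LJ_of_mem_VJ R h2 h3
    have h5 : ⁅u, s⁆ ∈ X β := by
      have h6 : ⁅u, s⁆ = s' * s⁻¹ := by
        rw [commutatorElement_def, inv_mul_eq_one.1 h4]
      rw [h6]
      exact mul_mem hs' (inv_mem hs)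
    have hne : sr j ≠ β := by
      intro h6
      have h7 := congrArg (fun x => x i) h6
      simp only [hβ] at h7
      rw [← rt_zero_one i j, rep_left, rt_left hij, rt_left hij] at h7
      rcases h.rel i j hij with h8 | h8 | h8 | h8 <;> omega
    have hne' : sr j ≠ -β := by
      intro h6
      have h7 := congrArg (fun x => x i) h6
      simp only [hβ, Pi.neg_apply] at h7
      rw [← rt_zero_one i j, rep_left, rt_left hij, rt_left hij] at h7
      rcases h.rel i j hij with h8 | h8 | h8 | h8 <;> omega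
    have hβ0 : 0 ≤ β := by
      rw [hβ, ← rt_zero_one i j, rep_left, rt_nonneg hij]
      rcases h.rel i j hij with h8 | h8 | h8 | h8 <;> omega
    have h6 := R.comm (sr j) β (isRoot_sr cs h j) hβJ.1 hne hne' u hu s hs
    have h7 : n i * ⁅u, s⁆ * (n i)⁻¹ ∈ X (sr j) := by
      have := R.conj_mem (rp_simple cs R.nsys i) hβJ.1 h5
      rwa [hβ, hsi] at this
    have h8 : n i * ⁅u, s⁆ * (n i)⁻¹ ∈ RGD.Sup X (RGD.PosNe cs h j) := by
      have h9 : ⁅u, s⁆ ∈ RGD.Sup X {z | Btwn cs h (sr j) β z} := R.btw_le_Sup (fun z hz => hz) h6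
      refine conj_mem_Sup R (rp_simple cs R.nsys i) (S := {z | Btwn cs h (sr j) β z}) (fun z hz => hz.1)
        (fun z hz => ?_) h9
      have h10 : Btwn cs h β (sr j) (rep cs h (cs.simple i) z) := by
        have := Btwn.act hz (cs.simple i)
        rw [hβ, hsi] at this
        exact this
      have h11 : 0 ≤ rep cs h (cs.simple i) z := RGD.nonneg_of_btwn hβ0 (sr_nonneg j) h10
      exact ⟨h10.1, h11, RGD.ne_sr_of_btwn (sr_nonneg j) hβJ.1 hβ0 hne.symm h10.symm⟩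
    have h9 := eq_one_of_mem_PosNe R h7 h8
    have h10 : ⁅u, s⁆ = 1 := by
      have : ⁅u, s⁆ = (n i)⁻¹ * (n i * ⁅u, s⁆ * (n i)⁻¹) * n i := by group
      rw [this, h9]; group
    exact commutatorElement_eq_one_iff_mul_comm.1 h10
  rw [hs1, one_mul]
  exact hq

theorem bd_of_nc [Finite W] [Finite Y] [Fact p.Prime] (R : RGD cs h p T n X) {i j : I} (hM : M i j = 4)
    (hN : Nc cs h X i j) : Bd cs h p X i j := by
  have hij : i ≠ j := by
    rintro rfl
    rw [M.diagonal] at hM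
    omega
  intro c d _ hc hdj hdi
  by_contra hW
  obtain ⟨y, hy1, hy2⟩ := exists_ball R hij (by omega) hc hdj hdi hW
  exact ball_false_of_nc R hM hN hy1 hy2

end Cfsg.Agent.H798.T5Bond

private theorem dce_ab5510fbb181 : _root_.True := by
  try have : _root_.True := by simp only [_root_.Cfsg.Agent.Nodes.LeviDec.PJ.congr_simp]
  try have : _root_.True := by simp only [_root_.Cfsg.Agent.Nodes.LeviDec.VJ.congr_simp]
  exact _root_.True.intro
end

-- part: H106/MTwD4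
section
prune_inst 0x1003050406210000000858461201c02dc0004b000488c0004410a400688ec4240808860102021115a08800920390048115c00a002680000042004000005000000800200f089a000400096000080400000000000000000000000000000000004000000000
set_option linter.all false
open scoped Cfsg.Agent.FastGrp

/-!
# `³D₄(q)` in its own characteristic: the special pairs

`mpair_only` : `c ∈ U`, `c ∉ V_0` (long node) and all `P_0`-conjugates of `d` in `U \ V_1`.
-/

set_option autoImplicit false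
set_option linter.unusedSectionVars false

namespace Cfsg.Agent.H106.MTwD4

open CoxeterSystem Cfsg.Agent.ChevalleyStructure.CoxeterGeom Cfsg.Agent.Tits.Roots Cfsg.Agent.Tits.Core
  Cfsg.Agent.Nodes.BNOf Cfsg.Agent.Nodes.RGDTwGen Cfsg.Agent.Nodes.RGDChev Cfsg.Agent.Nodes.RGDFold
open Cfsg.Agent.Nodes.Reps Cfsg.Agent.Nodes.StabComb Cfsg.Agent.Nodes.LeviDec
open Cfsg.Lie Cfsg.Agent.ChevalleyStructure
  Cfsg.Agent.ChevalleyStructure.TwistedU Cfsg.Agent.ChevalleyStructure.TwistedFix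
open Cfsg.Agent.ChevalleyStructure.D4Comm Cfsg.Agent.ChevalleyStructure.D4CommTab
open Cfsg.Agent.ChevalleyStructure.D4Pos
open Cfsg.Agent.ChevalleyStructure.D4NConj (nR hR xG_inv)
open Cfsg.Agent.ChevalleyStructure.D4U Cfsg.Agent.ChevalleyStructure.D4Twisted
open Cfsg.Agent.ChevalleyStructure.D4Fixed (sig fix mem_fix)
open Cfsg.Agent.H957.T5M Cfsg.Agent.H106.MTrace
open scoped commutatorElement

universe u

section GLevel

variable {K : Type*} [Field K] {φ : K →+* K}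

/-- the positive roots except the long simple one -/
def l0 : List ℕ := [18, 13, 12, 19, 16, 15, 21, 17, 20, 22, 23]

/-- the positive roots except the short simple ones -/
def l1 : List ℕ := [14, 19, 16, 15, 21, 17, 20, 22, 23]

/-- the normal form of `l0` -/
theorem mem_l0 {g : GL chevD4.Idx K} (hg : g ∈ RS K l0) (hf : g ∈ fix φ) :
    ∃ b c d e f : K, g = elt φ 0 b c d e f := by
  have hU : g ∈ chevD4.posUnipotent K := by
    rw [posUnipotent_eq_rspan ordA mem_ordA_iff]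
    exact rspan_mono xG (by intro k hk; revert hk; unfold l0 ordA; simp only [_root_.List.mem_cons, _root_.List.not_mem_nil, _root_.or_false, _root_.Set.mem_ofPred_eq]; itauto) hg
  obtain ⟨a, b, c, d, e, f, rfl⟩ := exists_elt hU hf
  refine ⟨b, c, d, e, f, ?_⟩
  have h0 : a = 0 := by
    apply eq_zero_of_mem (l := l0) (r := 14) (by decide +kernel) (by norm_num) (by decide)
    have e1 : (xG 14 a : GL chevD4.Idx K) = elt φ a b c d e f * (lprod xG l0 (crd φ a b c d e f))⁻¹ := by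
      rw [eq_mul_inv_iff_mul_eq]
      rfl
    rw [e1]
    exact mul_mem hg (inv_mem (lprod_mem_rspan xG (fun _ h => h) _))
  rw [h0]

theorem elt_mem_l1 {b c d e f a : K} (hb : b = 0) : elt φ a b c d e f ∈ RS K l1 := by
  subst hb
  rw [elt_eq]
  have mem (r : ℕ) (t : K) (h : r ∈ l1) : xG r t ∈ RS K l1 := mem_rspan xG (S := {k | k ∈ l1}) h t
  rw [map_zero, map_zero, xG_zero, xG_zero, xG_zero, mul_one, mul_one, mul_one]
  exact mul_mem (mul_mem (mul_mem (mul_mem (mem _ _ (by decide))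
    (mul_mem (mul_mem (mem _ _ (by decide)) (mem _ _ (by decide))) (mem _ _ (by decide))))
    (mul_mem (mul_mem (mem _ _ (by decide)) (mem _ _ (by decide))) (mem _ _ (by decide))))
    (mem _ _ (by decide))) (mem _ _ (by decide))

/-- an element of `X_b` in `RS l1` is trivial -/
theorem outer_l1 {t : K} (h : D4Fixed.X φ t ∈ RS K l1) : t = 0 := by
  have h1 : elt φ 0 t 0 0 0 0 ∈ RS K l1 := by
    have e1 : elt φ 0 t 0 0 0 0 = D4Fixed.X φ t := by
      rw [elt_eq]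
      unfold D4Fixed.X
      simp only [map_zero, xG_zero, neg_zero, one_mul, mul_one, xU_eq]
    rwa [e1]
  obtain ⟨s, hs⟩ := exists_lprod xG_add (by decide) (good_of_goodB l1 (by decide +kernel)) h1
  have h2 : lprod (xG : ℕ → K → GL chevD4.Idx K) ordB (crd φ 0 t 0 0 0 0) =
      lprod xG ordB (fun r => if r ∈ l1 then s r else 0) := by
    have e2 : lprod (xG : ℕ → K → GL chevD4.Idx K) ordB (crd φ 0 t 0 0 0 0) = elt φ 0 t 0 0 0 0 := by
      unfold elt ordB ordA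
      simp only [lprod_cons, lprod_nil, crd, xG_zero, one_mul, mul_one]
    rw [e2, hs]
    unfold ordB l1
    simp only [lprod_cons, lprod_nil, xG_zero, _root_.mul_one, _root_.List.mem_cons, _root_.List.not_mem_nil, _root_.or_false, _root_.Nat.reduceEqDiff, _root_.Nat.succ_ne_self, _root_.or_self, ↓ _root_.reduceIte, _root_.or_true, _root_.one_mul]
  have h3 := lprod_inj ordB uniqB_ordB h2 18 (by decide)
  simpa [crd, l1] using h3

/-! ### conjugation by `X_{a+2b}` -/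

/-- commuting check -/
def cmB (r s : ℕ) : Bool := decide (r = s) || (decide (12 ≤ r) && decide (r < 24) && decide (12 ≤ s) &&
  decide (s < 24) && decide (s ≠ r) && (cm r s).isNone)

theorem cmt {r s : ℕ} (h : cmB r s = true) (t u : K) :
    Commute (xG r t : GL chevD4.Idx K) (xG s u) := by
  unfold cmB at h
  rw [Bool.or_eq_true] at h
  rcases h with h | h
  · have h1 : r = s := of_decide_eq_true h
    subst h1
    show xG r t * xG r u = xG r u * xG r t
    rw [← xG_add, ← xG_add, add_comm]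
  · exact xG_commute h t u

/-- the commutator as conjugation -/
theorem cnj {r s k : ℕ} {c : ℤ} (hr : 12 ≤ r) (hr' : r < 24) (hs : 12 ≤ s) (hs' : s < 24) (hne : s ≠ r)
    (h : cm r s = some (k, c)) (t u : K) :
    (xG r t : GL chevD4.Idx K) * xG s u * (xG r t)⁻¹ = xG k ((c : K) * (t * u)) * xG s u := by
  have h1 := xG_comm (F := K) hr hr' hs hs' hne t u
  unfold cval at h1
  rw [h] at h1
  simp only at h1
  rw [← h1, commutatorElement_def]
  group

theorem zx {G : Type*} [Group G] {z x z' x' : G} (h : Commute z' x) :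
    (z * x) * (z' * x') = (z * z') * (x * x') := by
  rw [mul_assoc, ← mul_assoc x z' x', ← h.eq]
  group

/-- the elements of `X_{a+2b}` -/
noncomputable def yv (φ : K →+* K) (η : K) : GL chevD4.Idx K := xG 21 η * xG 17 (-φ η) * xG 20 (φ (φ η))

theorem yv_eq (η : K) : yv φ η = elt φ 0 0 0 η 0 0 := by
  rw [elt_eq]
  unfold yv
  simp only [map_zero, xG_zero, neg_zero, one_mul, mul_one]

theorem conj3 {G : Type*} [Group G] (a b c x : G) :
    a * b * c * x * (a * b * c)⁻¹ = a * (b * (c * x * c⁻¹) * b⁻¹) * a⁻¹ := by group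

theorem conj_self {G : Type*} [Group G] {a x : G} (h : Commute a x) : a * x * a⁻¹ = x := by
  rw [h.eq, mul_inv_cancel_right]

theorem conj_mul2 {G : Type*} [Group G] (a x y : G) : a * (x * y) * a⁻¹ = (a * x * a⁻¹) * (a * y * a⁻¹) := by
  group

/-- only the second factor contributes -/
theorem y_of2 {s k : ℕ} {c : ℤ} (η u : K) (h1 : cmB 21 s = true) (h3 : cmB 20 s = true) (hs : 12 ≤ s)
    (hs' : s < 24) (hne : s ≠ 17) (h : cm 17 s = some (k, c)) (hk : cmB 21 k = true) :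
    yv φ η * xG s u * (yv φ η)⁻¹ = xG k ((c : K) * (-φ η * u)) * xG s u := by
  unfold yv
  rw [conj3, conj_self (cmt h3 _ _), cnj (by norm_num) (by norm_num) hs hs' hne h, conj_mul2,
    conj_self (cmt hk _ _), conj_self (cmt h1 _ _)]

theorem y_of3 {s k : ℕ} {c : ℤ} (η u : K) (h1 : cmB 21 s = true) (h3 : cmB 17 s = true) (hs : 12 ≤ s)
    (hs' : s < 24) (hne : s ≠ 20) (h : cm 20 s = some (k, c)) (hk : cmB 21 k = true) (hk' : cmB 17 k = true) :
    yv φ η * xG s u * (yv φ η)⁻¹ = xG k ((c : K) * (φ (φ η) * u)) * xG s u := by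
  unfold yv
  rw [conj3, cnj (by norm_num) (by norm_num) hs hs' hne h, conj_mul2 (xG 17 _) (xG k _) (xG s _),
    conj_self (cmt hk' _ _), conj_self (cmt h3 _ _), conj_mul2, conj_self (cmt hk _ _), conj_self (cmt h1 _ _)]

theorem y_of1 {s k : ℕ} {c : ℤ} (η u : K) (h1 : cmB 17 s = true) (h3 : cmB 20 s = true) (hs : 12 ≤ s)
    (hs' : s < 24) (hne : s ≠ 21) (h : cm 21 s = some (k, c)) :
    yv φ η * xG s u * (yv φ η)⁻¹ = xG k ((c : K) * (η * u)) * xG s u := by
  unfold yv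
  rw [conj3, conj_self (cmt h3 _ _), conj_self (cmt h1 _ _), cnj (by norm_num) (by norm_num) hs hs' hne h]

theorem y_of0 {s : ℕ} (η u : K) (h1 : cmB 21 s = true) (h2 : cmB 17 s = true) (h3 : cmB 20 s = true) :
    yv φ η * xG s u * (yv φ η)⁻¹ = xG s u := by
  unfold yv
  rw [conj3, conj_self (cmt h3 _ _), conj_self (cmt h2 _ _), conj_self (cmt h1 _ _)]

theorem y_conj (η b c d e f : K) : yv φ η * elt φ 0 b c d e f * (yv φ η)⁻¹ =
    xG 22 (-(η * φ (φ b) + φ η * b + φ (φ η) * φ b)) *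
      xG 23 (-(η * φ (φ c) + φ η * c + φ (φ η) * φ c)) * elt φ 0 b c d e f := by
  rw [elt_eq, xG_zero, one_mul]
  simp only [conj_mul2]
  rw [y_of2 (k := 22) (c := 1) η b (by decide +kernel) (by decide +kernel) (by norm_num) (by norm_num)
      (by norm_num) (by decide +kernel) (by decide +kernel),
    y_of3 (k := 22) (c := -1) η (φ b) (by decide +kernel) (by decide +kernel) (by norm_num) (by norm_num)
      (by norm_num) (by decide +kernel) (by decide +kernel) (by decide +kernel),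
    y_of1 (k := 22) (c := -1) η (φ (φ b)) (by decide +kernel) (by decide +kernel) (by norm_num) (by norm_num)
      (by norm_num) (by decide +kernel),
    y_of2 (k := 23) (c := 1) η c (by decide +kernel) (by decide +kernel) (by norm_num) (by norm_num)
      (by norm_num) (by decide +kernel) (by decide +kernel),
    y_of3 (k := 23) (c := 1) η (-φ c) (by decide +kernel) (by decide +kernel) (by norm_num) (by norm_num)
      (by norm_num) (by decide +kernel) (by decide +kernel) (by decide +kernel),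
    y_of1 (k := 23) (c := 1) η (-φ (φ c)) (by decide +kernel) (by decide +kernel) (by norm_num) (by norm_num)
      (by norm_num) (by decide +kernel),
    y_of0 η d (by decide +kernel) (by decide +kernel) (by decide +kernel),
    y_of0 η (-φ d) (by decide +kernel) (by decide +kernel) (by decide +kernel),
    y_of0 η (φ (φ d)) (by decide +kernel) (by decide +kernel) (by decide +kernel),
    y_of0 η e (by decide +kernel) (by decide +kernel) (by decide +kernel),
    y_of0 η f (by decide +kernel) (by decide +kernel) (by decide +kernel)]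
  have c2 {s : ℕ} (h : cmB 22 s = true) (t u : K) : Commute (xG 22 t : GL chevD4.Idx K) (xG s u) := cmt h t u
  have c3 {s : ℕ} (h : cmB 23 s = true) (t u : K) : Commute (xG 23 t : GL chevD4.Idx K) (xG s u) := cmt h t u
  rw [zx (c2 (by decide +kernel) _ _), zx ((c2 (by decide +kernel) _ _).mul_right (c2 (by decide +kernel) _ _)),
    zx (c3 (by decide +kernel) _ _), zx ((c3 (by decide +kernel) _ _).mul_right (c3 (by decide +kernel) _ _))]
  rw [← xG_add, ← xG_add, ← xG_add, ← xG_add]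
  have c4 (t : K) : Commute (xG 23 t : GL chevD4.Idx K) (xG 18 b * xG 13 (φ b) * xG 12 (φ (φ b))) :=
    ((c3 (by decide +kernel) _ _).mul_right (c3 (by decide +kernel) _ _)).mul_right (c3 (by decide +kernel) _ _)
  rw [zx (c4 _)]
  simp only [mul_assoc]
  congr 2
  · push_cast
    ring
  · congr 1
    push_cast
    ring

/-! ### conjugation by `X_a` -/

/-- `X_r` normalizes `RS K l` -/
def nrB (r : ℕ) (l : List ℕ) : Bool := decide (12 ≤ r) && decide (r < 24) &&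
  l.all fun s => decide (12 ≤ s) && decide (s < 24) && decide (s ≠ r) &&
    match cm r s with
    | none => true
    | some kc => l.contains kc.1

theorem nrm {r : ℕ} {l : List ℕ} (h : nrB r l = true) (t : K) {g : GL chevD4.Idx K} (hg : g ∈ RS K l) :
    xG r t * g * (xG r t)⁻¹ ∈ RS K l := by
  have key : RS K l ≤ (RS K l).comap (MulAut.conj (xG r t)).toMonoidHom := by
    refine rspan_le xG fun s hs u => ?_
    show xG r t * xG s u * (xG r t)⁻¹ ∈ RS K l
    unfold nrB at h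
    rw [Bool.and_eq_true, Bool.and_eq_true, List.all_eq_true] at h
    obtain ⟨⟨h1, h2⟩, h3⟩ := h
    have h5 := h3 s hs
    rw [Bool.and_eq_true, Bool.and_eq_true, Bool.and_eq_true] at h5
    obtain ⟨⟨⟨h6, h7⟩, h8⟩, h9⟩ := h5
    have h10 : xG r t * xG s u * (xG r t)⁻¹ = ⁅(xG r t : GL chevD4.Idx K), xG s u⁆ * xG s u := by
      rw [commutatorElement_def]; group
    rw [h10, xG_comm (of_decide_eq_true h1) (of_decide_eq_true h2) (of_decide_eq_true h6)
      (of_decide_eq_true h7) (of_decide_eq_true h8)]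
    refine mul_mem ?_ (mem_rspan xG (S := {k | k ∈ l}) hs u)
    unfold cval
    rcases hc : cm r s with _ | kc
    · exact Subgroup.one_mem _
    · rw [hc] at h9
      have h10 : kc.1 ∈ l := by simpa using h9
      exact mem_rspan (xG : ℕ → K → GL chevD4.Idx K) (S := {k | k ∈ l}) h10 _
  exact key hg

/-- the list of `X_b X_{a+2b} X_{a+3b} X_{2a+3b}` -/
def lM : List ℕ := [18, 13, 12, 21, 17, 20, 22, 23]

theorem three_conj {G : Type*} [Group G] {s1 s2 s3 a1 a2 a3 : G} (h12 : Commute s1 s2)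
    (h13 : Commute s1 s3) (h23 : Commute s2 s3) :
    (s1 * a1) * (s2 * a2) * (s3 * a3) * (s1⁻¹ * s2⁻¹ * s3⁻¹) =
      (s1 * a1 * s1⁻¹) * (s1 * (s2 * a2 * s2⁻¹) * s1⁻¹) *
        (s1 * (s2 * (s3 * a3 * s3⁻¹) * s2⁻¹) * s1⁻¹) := by
  have e0 : s3 * s2 * s1 = s1 * s2 * s3 := by
    rw [← h23.eq, mul_assoc, ← h13.eq, ← mul_assoc, ← h12.eq]
  have e1 : s1⁻¹ * s2⁻¹ * s3⁻¹ = s3⁻¹ * s2⁻¹ * s1⁻¹ := by
    have h1 : s1⁻¹ * s2⁻¹ * s3⁻¹ = (s3 * s2 * s1)⁻¹ := by group
    have h2 : s3⁻¹ * s2⁻¹ * s1⁻¹ = (s1 * s2 * s3)⁻¹ := by group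
    rw [h1, h2, e0]
  rw [e1]
  group

theorem a_conj {u b c d e f : K} (hu : φ u = u) (hc : c = -(u * b)) :
    xG 14 u * elt φ 0 b c d e f * (xG 14 u)⁻¹ ∈ RS K lM := by
  have mem (r : ℕ) (t : K) (h : r ∈ lM) : (xG r t : GL chevD4.Idx K) ∈ RS K lM :=
    mem_rspan xG (S := {k | k ∈ lM}) h t
  rw [elt_eq, xG_zero, one_mul]
  simp only [conj_mul2]
  rw [cnj (k := 19) (c := 1) (by norm_num) (by norm_num) (by norm_num) (by norm_num) (by norm_num)
      (by decide +kernel) u b,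
    cnj (k := 16) (c := -1) (by norm_num) (by norm_num) (by norm_num) (by norm_num) (by norm_num)
      (by decide +kernel) u (φ b),
    cnj (k := 15) (c := -1) (by norm_num) (by norm_num) (by norm_num) (by norm_num) (by norm_num)
      (by decide +kernel) u (φ (φ b)),
    cnj (k := 23) (c := 1) (by norm_num) (by norm_num) (by norm_num) (by norm_num) (by norm_num)
      (by decide +kernel) u e]
  rw [conj_self (cmt (r := 14) (s := 19) (by decide +kernel) u c),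
    conj_self (cmt (r := 14) (s := 16) (by decide +kernel) u (-φ c)),
    conj_self (cmt (r := 14) (s := 15) (by decide +kernel) u (-φ (φ c))),
    conj_self (cmt (r := 14) (s := 21) (by decide +kernel) u d),
    conj_self (cmt (r := 14) (s := 17) (by decide +kernel) u (-φ d)),
    conj_self (cmt (r := 14) (s := 20) (by decide +kernel) u (φ (φ d))),
    conj_self (cmt (r := 14) (s := 23) (by decide +kernel) u f)]
  have e1 : (xG 19 c : GL chevD4.Idx K) = (xG 19 (((1 : ℤ) : K) * (u * b)))⁻¹ := by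
    rw [← xG_neg, hc]; congr 1; push_cast; ring
  have e2 : (xG 16 (-φ c) : GL chevD4.Idx K) = (xG 16 (((-1 : ℤ) : K) * (u * φ b)))⁻¹ := by
    rw [← xG_neg, hc, map_neg, map_mul, hu]; congr 1; push_cast; ring
  have e3 : (xG 15 (-φ (φ c)) : GL chevD4.Idx K) = (xG 15 (((-1 : ℤ) : K) * (u * φ (φ b))))⁻¹ := by
    rw [← xG_neg, hc, map_neg, map_neg, map_mul, map_mul, hu, hu]; congr 1; push_cast; ring
  rw [e1, e2, e3, three_conj (cmt (by decide +kernel) _ _) (cmt (by decide +kernel) _ _)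
    (cmt (by decide +kernel) _ _)]
  refine mul_mem (mul_mem (mul_mem (mul_mem (mul_mem ?_ ?_) ?_) ?_) (mul_mem ?_ ?_)) ?_
  · exact nrm (by decide +kernel) _ (mem _ _ (by decide))
  · exact nrm (by decide +kernel) _ (nrm (by decide +kernel) _ (mem _ _ (by decide)))
  · exact nrm (by decide +kernel) _ (nrm (by decide +kernel) _ (nrm (by decide +kernel) _ (mem _ _ (by decide))))
  · exact mul_mem (mul_mem (mem _ _ (by decide)) (mem _ _ (by decide))) (mem _ _ (by decide))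
  · exact mem _ _ (by decide)
  · exact mem _ _ (by decide)
  · exact mem _ _ (by decide)

theorem na_conj_l1 {g : GL chevD4.Idx K} (hg : g ∈ RS K lM) : na K * g * (na K)⁻¹ ∈ RS K l1 :=
  na_RS K (by decide +kernel) hg

/-! ### the trace form of `K` over the fixed field -/

theorem exists_eta (h3 : (3 : K) ≠ 0) (hK3 : ∀ t : K, φ (φ (φ t)) = t) {b c : K} (hb : b ≠ 0)
    (hc : ¬ ∃ u, φ u = u ∧ c = -(u * b)) :
    ∃ η : K, η * φ (φ b) + φ η * b + φ (φ η) * φ b = 0 ∧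
      η * φ (φ c) + φ η * c + φ (φ η) * φ c ≠ 0 := by
  -- `κ = φ²(c / b)` is not fixed
  set κ := φ (φ (c / b)) with hκ
  have hκ1 : φ κ ≠ κ := by
    intro h
    apply hc
    refine ⟨-(c / b), ?_, by field_simp⟩
    rw [map_neg]
    congr 1
    have h1 : φ κ = c / b := hK3 _
    rw [← h1, h, h]
  set y := φ (φ κ) - κ with hy
  have hy0 : y ≠ 0 := by
    intro h
    apply hκ1
    have h1 : φ (φ κ) = κ := sub_eq_zero.1 h
    have h2 := congrArg φ h1
    rw [hK3] at h2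
    exact h2.symm
  set x := y⁻¹ with hx
  have hφb : φ (φ b) ≠ 0 := by
    intro h
    apply hb
    rw [← hK3 b, h, map_zero]
  refine ⟨(φ x - x) / φ (φ b), ?_, ?_⟩
  · have e1 : φ ((φ x - x) / φ (φ b)) = (φ (φ x) - φ x) / b := by
      rw [map_div₀, map_sub, hK3]
    have e2 : φ (φ ((φ x - x) / φ (φ b))) = (x - φ (φ x)) / φ b := by
      rw [e1, map_div₀, map_sub, hK3]
    have hb' : φ b ≠ 0 := by
      intro h
      apply hφb
      rw [h, map_zero]
    rw [e2, e1]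
    field_simp
    ring
  · have e1 : φ ((φ x - x) / φ (φ b)) = (φ (φ x) - φ x) / b := by
      rw [map_div₀, map_sub, hK3]
    have e2 : φ (φ ((φ x - x) / φ (φ b))) = (x - φ (φ x)) / φ b := by
      rw [e1, map_div₀, map_sub, hK3]
    have hb' : φ b ≠ 0 := by
      intro h
      apply hφb
      rw [h, map_zero]
    have f1 : φ (φ c) = κ * φ (φ b) := by
      rw [hκ, map_div₀, map_div₀]; field_simp
    have f2 : c = φ κ * b := by
      have h1 : φ κ = c / b := hK3 _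
      rw [h1]; field_simp
    have f3 : φ c = φ (φ κ) * φ b := by
      conv_lhs => rw [f2, map_mul]
    rw [e2, e1, f1, f3]
    have f4 : (φ x - x) / φ (φ b) * (κ * φ (φ b)) + (φ (φ x) - φ x) / b * c +
        (x - φ (φ x)) / φ b * (φ (φ κ) * φ b) =
        (φ x - x) * κ + (φ (φ x) - φ x) * φ κ + (x - φ (φ x)) * φ (φ κ) := by
      rw [f2]
      field_simp
    rw [f4]
    have g0 : x * y = 1 := inv_mul_cancel₀ hy0
    have g1 : x * (φ (φ κ) - κ) = 1 := g0
    have g2 : φ x * (κ - φ κ) = 1 := by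
      have := congrArg φ g1
      rwa [map_mul, map_sub, map_one, hK3] at this
    have g3 : φ (φ x) * (φ κ - φ (φ κ)) = 1 := by
      have := congrArg φ g2
      rwa [map_mul, map_sub, map_one] at this
    have g4 : (φ x - x) * κ + (φ (φ x) - φ x) * φ κ + (x - φ (φ x)) * φ (φ κ) = 3 := by
      linear_combination g1 + g2 + g3
    rw [g4]
    exact h3

end GLevel

/-! ### the matrices -/

section Mat

open Cfsg.Agent.ChevalleyStructure.WordCheck (code colX colSum xMat_entry code_inj code_lt colSum_eq_zero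
  colSum_cons colSum_nil)

variable {F : Type*} [Field F]

/-- the coefficient of `t ^ n` at `k` -/
def cf (n k : ℕ) : List (ℕ × ℤ × ℕ) → ℤ
  | [] => 0
  | e :: l => (if e.1 = k ∧ e.2.2 = n then e.2.1 else 0) + cf n k l

theorem colSum_cf (t : F) (k : ℕ) : ∀ l : List (ℕ × ℤ × ℕ), (∀ e ∈ l, e.2.2 ≤ 2) →
    colSum t k l = (cf 0 k l : F) + t * (cf 1 k l : F) + t ^ 2 * (cf 2 k l : F)
  | [], _ => by simp [cf, colSum_nil]
  | e :: l, h => by
    obtain ⟨a, z, n⟩ := e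
    have h1 : n ≤ 2 := h (a, z, n) (by simp)
    rw [colSum_cons, colSum_cf t k l (fun e he => h e (List.mem_cons_of_mem _ he))]
    by_cases ha : a = k
    · have h2 : n = 0 ∨ n = 1 ∨ n = 2 := by omega
      rcases h2 with rfl | rfl | rfl
      · simp only [cf, ha, ↓ _root_.reduceIte, _root_.pow_zero, _root_.mul_one, _root_.and_self, _root_.Int.cast_add, _root_.zero_ne_one, _root_.and_false, _root_.zero_add, _root_.OfNat.zero_ne_ofNat]; ring
      · simp only [cf, ha, ↓ _root_.reduceIte, _root_.pow_one, _root_.one_ne_zero, _root_.and_false, _root_.zero_add, _root_.and_self, _root_.Int.cast_add, _root_.OfNat.one_ne_ofNat]; ring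
      · simp only [cf, ha, ↓ _root_.reduceIte, _root_.OfNat.ofNat_ne_zero, _root_.and_false, _root_.zero_add, _root_.OfNat.ofNat_ne_one, _root_.and_self, _root_.Int.cast_add]; ring
    · simp [cf, ha]

theorem exp_le : ∀ j < 28, ∀ e ∈ colX chevD4 9 j, e.2.2 ≤ 2 := by decide +kernel

theorem cf0 : ∀ k < 28, ∀ j < 28, cf 0 k (colX chevD4 9 j) = if k = j then 1 else 0 := by decide +kernel

theorem cf2 : ∀ k < 28, ∀ j < 28, cf 2 k (colX chevD4 9 j) = if k = 13 ∧ j = 18 then -1 else 0 := by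
  decide +kernel

/-- the linear part of `x_{-a}` -/
def A9 (F : Type*) [Field F] : Matrix chevD4.Idx chevD4.Idx F :=
  Matrix.of fun i j => ((cf 1 (code chevD4 i) (colX chevD4 9 (code chevD4 j)) : ℤ) : F)

/-- the coordinate of `e_r` -/
abbrev ix (r : Fin 24) : chevD4.Idx := Sum.inr r

theorem x9_eq (t : F) : chevD4.x F 9 t = 1 + t • A9 F + t ^ 2 • Matrix.single (ix 9) (ix 14) (-1 : F) := by
  have hx : chevD4.x F 9 t = chevD4.xMat F ⟨9, by decide⟩ t := dif_pos (by decide)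
  rw [hx]
  ext i j
  have hi : code chevD4 i < 28 := code_lt chevD4 i
  have hj : code chevD4 j < 28 := code_lt chevD4 j
  rw [xMat_entry, colSum_cf t _ _ (exp_le _ hj), cf0 _ hi _ hj, cf2 _ hi _ hj]
  simp only [Matrix.add_apply, Matrix.smul_apply, smul_eq_mul, A9, Matrix.of_apply]
  have e1 : ((if code chevD4 i = code chevD4 j then (1 : ℤ) else 0 : ℤ) : F) =
      (1 : Matrix chevD4.Idx chevD4.Idx F) i j := by
    rw [Matrix.one_apply]
    by_cases h : i = j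
    · rw [if_pos h, if_pos (congrArg _ h), Int.cast_one]
    · rw [if_neg h, if_neg (fun h' => h (code_inj chevD4 h')), Int.cast_zero]
  have e2 : ((if code chevD4 i = 13 ∧ code chevD4 j = 18 then (-1 : ℤ) else 0 : ℤ) : F) =
      (Matrix.single (ix 9) (ix 14) (-1 : F)) i j := by
    rw [Matrix.single_apply]
    have h9 : code chevD4 (ix 9) = 13 := rfl
    have h14 : code chevD4 (ix 14) = 18 := rfl
    by_cases h : ix 9 = i ∧ ix 14 = j
    · rw [if_pos h, if_pos ⟨by rw [← h.1, h9], by rw [← h.2, h14]⟩, Int.cast_neg, Int.cast_one]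
    · rw [if_neg h, if_neg, Int.cast_zero]
      rintro ⟨h1, h2⟩
      exact h ⟨code_inj chevD4 (by rw [h9, h1]), code_inj chevD4 (by rw [h14, h2])⟩
  rw [e1, e2]

/-- the degree with respect to the short simple root -/
def dg (c : ℕ) : ℤ := if c < 4 then 0 else
  [-3, -3, -2, -2, -1, -1, -2, -1, -1, 0, -1, -1, 1, 1, 0, 1, 1, 2, 1, 1, 2, 2, 3, 3].getD (c - 4) 0

/-- strictly raising matrices -/
def Up (M : Matrix chevD4.Idx chevD4.Idx F) : Prop :=
  ∀ i j, dg (code chevD4 i) ≤ dg (code chevD4 j) → M i j = if i = j then 1 else 0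

theorem Up.one : Up (1 : Matrix chevD4.Idx chevD4.Idx F) := fun _ _ _ => Matrix.one_apply

theorem Up.mul {M N : Matrix chevD4.Idx chevD4.Idx F} (hM : Up M) (hN : Up N) : Up (M * N) := by
  intro i j hij
  rw [Matrix.mul_apply]
  have key : ∀ k, M i k * N k j = if k = i then (if i = j then 1 else 0) else 0 := by
    intro k
    by_cases hk : k = i
    · subst hk
      rw [if_pos rfl, hM k k le_rfl, if_pos rfl, one_mul, hN k j hij]
    · rw [if_neg hk]
      by_cases h1 : dg (code chevD4 i) ≤ dg (code chevD4 k)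
      · rw [hM i k h1, if_neg (Ne.symm hk), zero_mul]
      · have h2 : dg (code chevD4 k) ≤ dg (code chevD4 j) := by omega
        rw [hN k j h2]
        by_cases h3 : k = j
        · subst h3
          exact absurd hij h1
        · rw [if_neg h3, mul_zero]
  rw [Finset.sum_congr rfl (fun k _ => key k), Finset.sum_ite_eq' Finset.univ i, if_pos (Finset.mem_univ _)]

/-- the check that `x_r` raises the degree -/
def upB (r : ℕ) : Bool := (List.range 28).all fun c => match colX chevD4 r c with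
  | [] => false
  | e :: rest => (decide (e.1 = c) && decide (e.2.1 = 1) && decide (e.2.2 = 0)) &&
      rest.all fun e => decide (dg c < dg e.1)

theorem upB_all : ∀ r ∈ l0, upB r = true := by decide +kernel

theorem Up.x {r : ℕ} (hr : upB r = true) (h24 : r < 24) (t : F) : Up (chevD4.x F r t) := by
  intro i j hij
  have hx : chevD4.x F r t = chevD4.xMat F ⟨r, h24⟩ t := dif_pos h24
  rw [hx, xMat_entry]
  show colSum t (code chevD4 i) (colX chevD4 r (code chevD4 j)) = _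
  unfold upB at hr
  rw [List.all_eq_true] at hr
  have h2 := hr (code chevD4 j) (List.mem_range.2 (code_lt chevD4 j))
  generalize colX chevD4 r (code chevD4 j) = L at h2
  rcases L with _ | ⟨⟨a, z, n⟩, rest⟩
  · exact absurd h2 (by simp)
  · simp only [Bool.and_eq_true, decide_eq_true_eq, List.all_eq_true] at h2
    obtain ⟨⟨⟨rfl, rfl⟩, rfl⟩, h3⟩ := h2
    rw [colSum_cons, colSum_eq_zero t (code chevD4 i) rest (by
      intro e he h
      have := h3 e he
      rw [h] at this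
      omega), add_zero]
    by_cases hij : i = j
    · subst hij
      simp
    · rw [if_neg hij, if_neg]
      intro h
      exact hij (code_inj chevD4 h.symm)

theorem Up.of_mem {g : GL chevD4.Idx F} (hg : g ∈ RS F l0) : Up (g : Matrix chevD4.Idx chevD4.Idx F) := by
  have lt24 : ∀ r ∈ l0, r < 24 := by decide
  have key : Up (g : Matrix chevD4.Idx chevD4.Idx F) ∧
      Up ((g⁻¹ : GL chevD4.Idx F) : Matrix chevD4.Idx chevD4.Idx F) := by
    refine Subgroup.closure_induction (p := fun (g : GL chevD4.Idx F) _ =>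
      Up (g : Matrix chevD4.Idx chevD4.Idx F) ∧
      Up ((g⁻¹ : GL chevD4.Idx F) : Matrix chevD4.Idx chevD4.Idx F)) ?_ ?_ ?_ ?_ hg
    · rintro _ ⟨s, hs, t, rfl⟩
      refine ⟨Up.x (upB_all s hs) (lt24 s hs) t, ?_⟩
      rw [← xG_neg]
      exact Up.x (upB_all s hs) (lt24 s hs) (-t)
    · rw [inv_one]
      exact ⟨Up.one, Up.one⟩
    · rintro a b _ _ ⟨ha, ha'⟩ ⟨hb, hb'⟩
      rw [mul_inv_rev]
      exact ⟨ha.mul hb, hb'.mul ha'⟩
    · rintro a _ ⟨ha, ha'⟩
      rw [inv_inv]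
      exact ⟨ha', ha⟩
  exact key.1

/-- row `e_a` of `x_a(t)` : nothing outside degree `0` and `-t²` at `e_{-a}` -/
def rowB : Bool := (List.range 28).all fun c => decide (dg c = 0) || (colX chevD4 14 c).all fun e => decide (e.1 ≠ 18)

theorem rowB_eq : rowB = true := by decide +kernel

theorem x14_row (t : F) {j : chevD4.Idx} (hj : dg (code chevD4 j) ≠ 0) : chevD4.x F 14 t (ix 14) j = 0 := by
  have hx : chevD4.x F 14 t = chevD4.xMat F ⟨14, by decide⟩ t := dif_pos (by decide)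
  rw [hx, xMat_entry]
  have h1 := rowB_eq
  unfold rowB at h1
  rw [List.all_eq_true] at h1
  have h2 := h1 (code chevD4 j) (List.mem_range.2 (code_lt chevD4 j))
  rw [Bool.or_eq_true, decide_eq_true_eq, List.all_eq_true] at h2
  have h3 := h2.resolve_left hj
  refine colSum_eq_zero t _ _ fun e he => ?_
  have h4 : e.1 ≠ 18 := by simpa using h3 e he
  exact h4

theorem x14_entry (t : F) : chevD4.x F 14 t (ix 14) (ix 9) = -t ^ 2 := by
  have hx : chevD4.x F 14 t = chevD4.xMat F ⟨14, by decide⟩ t := dif_pos (by decide)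
  rw [hx, xMat_entry]
  show colSum t 18 (colX chevD4 14 13) = _
  have h1 : ∀ e ∈ colX chevD4 14 13, e.2.2 ≤ 2 := by decide +kernel
  have h2 : cf 0 18 (colX chevD4 14 13) = 0 := by decide +kernel
  have h3 : cf 1 18 (colX chevD4 14 13) = 0 := by decide +kernel
  have h4 : cf 2 18 (colX chevD4 14 13) = -1 := by decide +kernel
  rw [colSum_cf t _ _ h1, h2, h3, h4]
  push_cast
  ring

/-- the entry `(e_a, e_{-a})` of `x_a(r) v` -/
theorem entry {r : F} {v : GL chevD4.Idx F} (hv : v ∈ RS F l0) :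
    ((xG 14 r * v : GL chevD4.Idx F) : Matrix chevD4.Idx chevD4.Idx F) (ix 14) (ix 9) = -r ^ 2 := by
  have hU := Up.of_mem hv
  rw [Units.val_mul, coe_xG, Matrix.mul_apply]
  have key : ∀ k, chevD4.x F 14 r (ix 14) k * (v : Matrix chevD4.Idx chevD4.Idx F) k (ix 9) =
      if k = ix 9 then -r ^ 2 else 0 := by
    intro k
    by_cases hk : dg (code chevD4 k) = 0
    · rw [hU k (ix 9) (by rw [hk]; decide)]
      by_cases h1 : k = ix 9
      · subst h1
        rw [if_pos rfl, if_pos rfl, mul_one, x14_entry]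
      · rw [if_neg h1, if_neg h1, mul_zero]
    · rw [x14_row r hk, zero_mul, if_neg]
      rintro rfl
      exact hk (by decide)
  rw [Finset.sum_congr rfl (fun k _ => key k), Finset.sum_ite_eq' Finset.univ, if_pos (Finset.mem_univ _)]

end Mat

/-! ### the root group datum -/

section Main

variable {K : Type u} [Field K] [Fintype K] {q : ℕ} {φ : K →+* K} (hK : Fintype.card K = q ^ 3)
  (hφ : ∀ x, φ x = x ^ q) {W : Type*} [Group W] [Finite W] (cs : CoxeterSystem CoxeterMatrix.G₂ W)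

open Cfsg.Agent.Nodes.RGDTwD4 (isCartan X T n R0 cls0)

/-- roots outside the long node -/
theorem V_l0 : ∀ k < chevD4.nroots, 0 < V chevD4 Nodes.RGDTwD4.J k 1 → k ∈ l0 := by
  decide +kernel

theorem V_l1 : ∀ k < chevD4.nroots, 0 < V chevD4 Nodes.RGDTwD4.J k 0 → k ∈ l1 := by
  decide +kernel

theorem coe_V0 {g : ↥(twistedD4 K q)} (hg : g ∈ VJ cs isCartan (X φ q) {0}) :
    (g : GL chevD4.Idx K) ∈ RS K l0 := by
  have key : VJ cs isCartan (X φ q) {0} ≤ (RS K l0).subgroupOf (twistedD4 K q) := by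
    refine RGD.Sup_le fun z hz => ?_
    obtain ⟨-, h0, k, hk, hk0⟩ := hz
    have hk1 : k = 1 := by
      fin_cases k
      · exact absurd rfl hk
      · rfl
    subst hk1
    intro g hg
    obtain ⟨h1, -⟩ := hg
    refine rspan_mono _ ?_ (by rwa [Nodes.RGDTwD4.xG_eq] at h1)
    rintro r ⟨hr, hrz⟩
    exact V_l0 r hr (by rw [hrz]; exact hk0)
  exact key hg

theorem coe_V1 {g : ↥(twistedD4 K q)} (hg : g ∈ VJ cs isCartan (X φ q) {1}) :
    (g : GL chevD4.Idx K) ∈ RS K l1 := by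
  have key : VJ cs isCartan (X φ q) {1} ≤ (RS K l1).subgroupOf (twistedD4 K q) := by
    refine RGD.Sup_le fun z hz => ?_
    obtain ⟨-, h0, k, hk, hk0⟩ := hz
    have hk1 : k = 0 := by
      fin_cases k
      · rfl
      · exact absurd rfl hk
    subst hk1
    intro g hg
    obtain ⟨h1, -⟩ := hg
    refine rspan_mono _ ?_ (by rwa [Nodes.RGDTwD4.xG_eq] at h1)
    rintro r ⟨hr, hrz⟩
    exact V_l1 r hr (by rw [hrz]; exact hk0)
  exact key hg

include hK hφ

/-- splitting of `U` -/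
theorem U_split (i : Fin 2) {g : ↥(twistedD4 K q)} (hg : g ∈ RGD.Sup (X φ q) (RGD.Pos cs isCartan)) :
    ∃ s ∈ X φ q (sr i), ∃ v ∈ VJ cs isCartan (X φ q) {i}, g = s * v := by
  obtain ⟨p, hp'⟩ := CharP.exists K
  have : Fact p.Prime := ⟨CharP.char_is_prime K p⟩
  have R := Nodes.RGDTwD4.rgd cs hK hφ p
  refine H798.T5Root.XV_split R (J := {i}) ⟨isRoot_sr cs isCartan i, fun k hk => ?_⟩ ?_
  · exact sr_ne (fun h => hk h)
  · rwa [H798.T5Root.V_eq, ← R.Upos_eq i]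

theorem mem_V1_of_coe {g : ↥(twistedD4 K q)} (hg : g ∈ RGD.Sup (X φ q) (RGD.Pos cs isCartan))
    (h : (g : GL chevD4.Idx K) ∈ RS K l1) : g ∈ VJ cs isCartan (X φ q) {1} := by
  obtain ⟨s, hs, v, hv, rfl⟩ := U_split hK hφ cs 1 hg
  have h1 : (s : GL chevD4.Idx K) ∈ RS K l1 := by
    have h2 := mul_mem h (inv_mem (coe_V1 cs hv))
    rwa [Subgroup.coe_mul, mul_inv_cancel_right] at h2
  have h3 : (s : GL chevD4.Idx K) ∈ RS K [18, 13, 12] ⊓ fix φ := by
    rw [← Nodes.RGDTwD4.R1 φ]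
    exact hs
  obtain ⟨t, ht⟩ := RS_outer_fix h3.1 h3.2
  rw [ht] at h1
  have h4 := outer_l1 h1
  have h5 : s = 1 := by
    apply Subtype.ext
    rw [ht, h4]
    unfold D4Fixed.X
    simp only [map_zero, xU_eq, xG_zero, mul_one]
    rfl
  rw [h5, one_mul]
  exact hv

omit [Fintype K] hK hφ in
/-- `X_{2a+3b}` centralizes `V_0` -/
theorem comm23 {g : GL chevD4.Idx K} (hg : g ∈ RS K l0) (t : K) : xG 23 t * g = g * xG 23 t := by
  have key : RS K l0 ≤ Subgroup.centralizer {(xG 23 t : GL chevD4.Idx K)} := by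
    refine rspan_le xG fun s hs u => ?_
    rw [Subgroup.mem_centralizer_singleton_iff]
    have h1 : ∀ s ∈ l0, cmB 23 s = true := by decide +kernel
    exact ((cmt (h1 s hs) t u).eq).symm
  exact ((Subgroup.mem_centralizer_singleton_iff).1 (key hg)).symm

/-- **The special pairs of `³D₄(q)`, own characteristic `p ≥ 5`, product form.** -/
theorem prod_only {p : ℕ} [Fact p.Prime] [CharP K p] (hp5 : 5 ≤ p) {c d : ↥(twistedD4 K q)}
    (hc : c ∈ RGD.Sup (X φ q) (RGD.Pos cs isCartan)) (hc' : c ∉ VJ cs isCartan (X φ q) {0})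
    (hd : ∀ g ∈ PJ cs isCartan (T K q) (X φ q) {0}, g * d * g⁻¹ ∈ RGD.Sup (X φ q) (RGD.Pos cs isCartan) ∧
      g * d * g⁻¹ ∉ VJ cs isCartan (X φ q) {1}) :
    ∃ g : ↥(twistedD4 K q), ∀ k : ℕ, (c * (g * d * g⁻¹)) ^ p ^ k ≠ 1 := by
  have R := Nodes.RGDTwD4.rgd cs hK hφ p
  have hle := D4Fixed.twisted_le_fix (q := q) hK hφ
  have hK3 : ∀ t : K, φ (φ (φ t)) = t := phi3 hK hφ
  have h3 : (3 : K) ≠ 0 := by
    intro h
    have h7 : ((3 : ℕ) : K) = 0 := by exact_mod_cast h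
    rw [CharP.cast_eq_zero_iff K p] at h7
    have := Nat.le_of_dvd (by norm_num) h7
    omega
  have h2 : (2 : K) ≠ 0 := by
    intro h
    have h7 : ((2 : ℕ) : K) = 0 := by exact_mod_cast h
    rw [CharP.cast_eq_zero_iff K p] at h7
    have := Nat.le_of_dvd (by norm_num) h7
    omega
  -- `c = x_a(r) v`
  obtain ⟨s, hs, v, hv, hcs⟩ := U_split hK hφ cs 0 hc
  have hs1 : (s : GL chevD4.Idx K) ∈ RS K [14] ⊓ fix φ := by
    rw [← R0 φ]
    exact hs
  obtain ⟨r, hr, hsr⟩ := RS_14_fix hs1.1 hs1.2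
  have hr0 : r ≠ 0 := by
    rintro rfl
    apply hc'
    have h1 : s = 1 := Subtype.ext (by rw [hsr, xG_zero]; rfl)
    rw [hcs, h1, one_mul]
    exact hv
  have hvl := coe_V0 cs hv
  -- `d ∈ V_0`
  have hd1 := hd 1 (one_mem _)
  rw [one_mul, inv_one, mul_one] at hd1
  have hn0 : n hφ 0 ∈ PJ cs isCartan (T K q) (X φ q) {0} := LJ_le_PJ (Nodes.Bruhat.n_mem_LJ R rfl)
  have hd0 : d ∈ VJ cs isCartan (X φ q) {0} := by
    refine H798.T5Geo.mem_V_of_conj R (rp_simple cs R.nsys 0) ?_ hd1.1 (RGD.U_le_B (hd _ hn0).1)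
    rw [rep_simple_sr]
    exact neg_nonpos.2 (sr_nonneg 0)
  have hdl := coe_V0 cs hd0
  obtain ⟨b, c1, d1, e1, f1, hdE⟩ := mem_l0 hdl (hle d.2)
  have hb : b ≠ 0 := by
    intro hb
    exact hd1.2 (mem_V1_of_coe hK hφ cs hd1.1 (by rw [hdE]; exact elt_mem_l1 hb))
  have hκ : ¬ ∃ u, φ u = u ∧ c1 = -(u * b) := by
    rintro ⟨u, hu, hcu⟩
    have hx : (⟨xG 14 u, xG14_mem hφ hu⟩ : ↥(twistedD4 K q)) ∈ X φ q (sr 0) := by
      show xG 14 u ∈ Nodes.RGDFold.R chevD4 Nodes.RGDTwD4.hp K Nodes.RGDTwD4.J (sig φ) (sr 0)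
      rw [R0 φ]
      exact ⟨mem_rspan xG (S := {k | k ∈ [14]}) (by simp) _, hle (xG14_mem hφ hu)⟩
    have hxP : (⟨xG 14 u, xG14_mem hφ hu⟩ : ↥(twistedD4 K q)) ∈ PJ cs isCartan (T K q) (X φ q) {0} :=
      B_le_PJ (RGD.U_le_B (RGD.le_Sup (S := RGD.Pos cs isCartan) ⟨isRoot_sr cs isCartan 0, sr_nonneg 0⟩ hx))
    obtain ⟨g1, g2⟩ := hd _ (mul_mem hn0 hxP)
    apply g2
    refine mem_V1_of_coe hK hφ cs g1 ?_
    have h1 := na_conj_l1 (a_conj (φ := φ) (u := u) (b := b) (c := c1) (d := d1) (e := e1) (f := f1) hu hcu)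
    have h4 : ((n hφ 0 : ↥(twistedD4 K q)) : GL chevD4.Idx K) = na K := Nodes.RGDTwD4.nI_zero
    rw [Subgroup.coe_mul, Subgroup.coe_mul, Subgroup.coe_inv, Subgroup.coe_mul, h4, hdE]
    have h5 : na K * xG 14 u * elt φ 0 b c1 d1 e1 f1 * (na K * xG 14 u)⁻¹ =
        na K * (xG 14 u * elt φ 0 b c1 d1 e1 f1 * (xG 14 u)⁻¹) * (na K)⁻¹ := by group
    rw [h5]
    exact h1
  obtain ⟨η, hη1, hη2⟩ := exists_eta h3 hK3 hb hκ
  set t0 : K := -(η * φ (φ c1) + φ η * c1 + φ (φ η) * φ c1) with ht0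
  have ht00 : t0 ≠ 0 := neg_ne_zero.2 hη2
  have hymem : yv φ η ∈ twistedD4 K q := by
    rw [yv_eq]
    exact elt_mem hK3 hφ hle (map_zero _) (map_zero _) (map_zero _)
  set y : ↥(twistedD4 K q) := ⟨yv φ η, hymem⟩ with hy
  have hyl : yv φ η ∈ RS K l0 := by
    unfold yv
    exact mul_mem (mul_mem (mem_rspan xG (S := {k | k ∈ l0}) (by decide) _)
      (mem_rspan xG (S := {k | k ∈ l0}) (by decide) _)) (mem_rspan xG (S := {k | k ∈ l0}) (by decide) _)
  obtain ⟨z, hz⟩ : ∃ z : ↥(twistedD4 K q), z = y * d * y⁻¹ * d⁻¹ := ⟨_, rfl⟩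
  have hzc : (z : GL chevD4.Idx K) = xG 23 t0 := by
    rw [hz, Subgroup.coe_mul, Subgroup.coe_mul, Subgroup.coe_mul, Subgroup.coe_inv, Subgroup.coe_inv, hdE]
    show yv φ η * elt φ 0 b c1 d1 e1 f1 * (yv φ η)⁻¹ * (elt φ 0 b c1 d1 e1 f1)⁻¹ = _
    rw [y_conj, hη1, neg_zero, xG_zero, one_mul, mul_inv_cancel_right]
  have hzd : z * d = d * z := by
    apply Subtype.ext
    rw [Subgroup.coe_mul, Subgroup.coe_mul, hzc]
    exact comm23 hdl t0
  have hzy : z * y = y * z := by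
    apply Subtype.ext
    rw [Subgroup.coe_mul, Subgroup.coe_mul, hzc]
    exact comm23 hyl t0
  have hyd : y * d * y⁻¹ = d * z := by
    rw [← hzd, hz]; group
  have hyd2 : (y * y) * d * (y * y)⁻¹ = d * z ^ 2 := by
    have h1 : (y * y) * d * (y * y)⁻¹ = y * (y * d * y⁻¹) * y⁻¹ := by group
    rw [h1, hyd]
    have h4 : y * (d * z) * y⁻¹ = (y * d * y⁻¹) * (y * z * y⁻¹) := by group
    rw [h4, hyd, ← hzy, mul_inv_cancel_right, pow_two, mul_assoc]
  -- conjugation by `w`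
  obtain ⟨w, hw⟩ : ∃ w : ↥(twistedD4 K q), w = n hφ 0 * n hφ 1 * n hφ 0 := ⟨_, rfl⟩
  have hwz : ∃ s, s ≠ 0 ∧ ((w * z * w⁻¹ : ↥(twistedD4 K q)) : GL chevD4.Idx K) = xG 9 s := by
    obtain ⟨u1, hu1⟩ := na_conj (K := K) (s := 23) (by norm_num) t0
    obtain ⟨u2, hu2⟩ := nb_conj (K := K) (s := 22) (by norm_num) u1
    obtain ⟨u3, hu3⟩ := na_conj (K := K) (s := 14) (by norm_num) u2
    have k1 : D4NCheck.rfl' 1 23 = 22 := by decide +kernel
    have k2 : rb 22 = 14 := by decide +kernel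
    have k3 : D4NCheck.rfl' 1 14 = 9 := by decide +kernel
    rw [k1] at hu1
    rw [k2] at hu2
    rw [k3] at hu3
    have h5 : ((w * z * w⁻¹ : ↥(twistedD4 K q)) : GL chevD4.Idx K) = xG 9 u3 := by
      have h4 : ((n hφ 0 : ↥(twistedD4 K q)) : GL chevD4.Idx K) = na K := Nodes.RGDTwD4.nI_zero
      have h4' : ((n hφ 1 : ↥(twistedD4 K q)) : GL chevD4.Idx K) = nb K := Nodes.RGDTwD4.nI_one
      rw [Subgroup.coe_mul, Subgroup.coe_mul, Subgroup.coe_inv, hw, Subgroup.coe_mul, Subgroup.coe_mul, h4, h4',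
        hzc, ← hu3, ← hu2, ← hu1]
      group
    refine ⟨u3, ?_, h5⟩
    rintro rfl
    rw [xG_zero] at h5
    have h6 : w * z * w⁻¹ = 1 := Subtype.ext h5
    have h7 : z = 1 := by
      rw [mul_inv_eq_one] at h6
      exact mul_eq_left.1 h6
    rw [h7] at hzc
    exact ht00 ((D4RGD.xG_eq_one_iff (by norm_num) _).1 hzc.symm)
  obtain ⟨s9, hs9, hwz⟩ := hwz
  let ρ : ↥(twistedD4 K q) →* Matrix chevD4.Idx chevD4.Idx K :=
    (Units.coeHom (Matrix chevD4.Idx chevD4.Idx K)).comp (twistedD4 K q).subtype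
  have hρ : ∀ g : ↥(twistedD4 K q), ρ g = ((g : GL chevD4.Idx K) : Matrix chevD4.Idx chevD4.Idx K) := fun _ => rfl
  obtain ⟨z', hz'⟩ : ∃ z', z' = w * z * w⁻¹ := ⟨_, rfl⟩
  obtain ⟨d', hd'⟩ : ∃ d', d' = w * d * w⁻¹ := ⟨_, rfl⟩
  rw [← hz'] at hwz
  set E : Matrix chevD4.Idx chevD4.Idx K := Matrix.single (ix 9) (ix 14) (-1 : K) with hE
  have r1 : ρ z' = 1 + s9 • A9 K + s9 ^ 2 • E := by
    rw [hρ, hwz, coe_xG, x9_eq]
  have r2 : ρ (z' ^ 2) = 1 + (2 : K) • (s9 • A9 K) + (4 : K) • (s9 ^ 2 • E) := by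
    rw [hρ, Subgroup.coe_pow, hwz, pow_two, ← xG_add, coe_xG, x9_eq, smul_smul, smul_smul]
    congr 2
    · rw [← two_mul]
    · ring
  have hcomm : d' * z' = z' * d' := by
    rw [hd', hz']
    have h1 : w * d * w⁻¹ * (w * z * w⁻¹) = w * (d * z) * w⁻¹ := by group
    have h4 : w * z * w⁻¹ * (w * d * w⁻¹) = w * (z * d) * w⁻¹ := by group
    rw [h1, h4, hzd]
  have hcomm2 : d' * z' ^ 2 = z' ^ 2 * d' := by
    rw [pow_two, ← mul_assoc, hcomm, mul_assoc, hcomm, ← mul_assoc]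
  have hDE : ρ d' * E = E * ρ d' := by
    have g1 := congrArg ρ hcomm
    have g2 := congrArg ρ hcomm2
    rw [map_mul, map_mul, r1] at g1
    rw [map_mul, map_mul, r2] at g2
    have g3 : (2 * s9 ^ 2) • (ρ d' * E - E * ρ d') = 0 := by
      have e1 : ρ d' * (1 + s9 • A9 K + s9 ^ 2 • E) - (1 + s9 • A9 K + s9 ^ 2 • E) * ρ d' = 0 :=
        sub_eq_zero.2 g1
      have e2 : ρ d' * (1 + (2 : K) • (s9 • A9 K) + (4 : K) • (s9 ^ 2 • E)) -
          (1 + (2 : K) • (s9 • A9 K) + (4 : K) • (s9 ^ 2 • E)) * ρ d' = 0 := sub_eq_zero.2 g2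
      have e3 : (2 * s9 ^ 2) • (ρ d' * E - E * ρ d') =
          (ρ d' * (1 + (2 : K) • (s9 • A9 K) + (4 : K) • (s9 ^ 2 • E)) -
          (1 + (2 : K) • (s9 • A9 K) + (4 : K) • (s9 ^ 2 • E)) * ρ d') -
          (2 : K) • (ρ d' * (1 + s9 • A9 K + s9 ^ 2 • E) - (1 + s9 • A9 K + s9 ^ 2 • E) * ρ d') := by
        simp only [mul_add, add_mul, mul_one, one_mul, Matrix.mul_smul, Matrix.smul_mul, smul_sub, smul_add,
          smul_smul]
        module
      rw [e3, e1, e2, smul_zero, sub_zero]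
    have g4 : (2 * s9 ^ 2 : K) ≠ 0 := mul_ne_zero h2 (pow_ne_zero 2 hs9)
    exact sub_eq_zero.1 ((smul_eq_zero.1 g3).resolve_left g4)
  obtain ⟨μ, hμ, hμE⟩ := mul_single_of_comm (neg_ne_zero.2 (one_ne_zero (α := K)))
    (show IsUnit (ρ d') from Units.isUnit _) hDE
  have htr : Matrix.trace (ρ c * (ρ d' * (s9 ^ 2 • E))) ≠ 0 := by
    rw [Matrix.mul_smul, hμE, Matrix.mul_smul, Matrix.mul_smul, Matrix.trace_smul, Matrix.trace_smul,
      Matrix.trace_mul_single, smul_eq_mul, smul_eq_mul]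
    have h4 : ρ c (ix 14) (ix 9) = -r ^ 2 := by
      rw [hρ, hcs, Subgroup.coe_mul, hsr]
      exact entry hvl
    rw [h4]
    exact mul_ne_zero (pow_ne_zero 2 hs9) (mul_ne_zero hμ (by
      simpa using pow_ne_zero 2 hr0))
  have hcj : ∀ g m : ↥(twistedD4 K q), w * g * w⁻¹ * (w * m * w⁻¹) * (w * g * w⁻¹)⁻¹ = w * (g * m * g⁻¹) * w⁻¹ := by
    intro g m; group
  obtain ⟨g, -, hg⟩ := prod_of_trace' (S := ⊤) (c := c) (d := d') ρ (by omega) r1 r2 htr
    ⟨w * y * w⁻¹, Subgroup.mem_top _, by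
      rw [hd', hcj, hyd, hz']; group⟩
    ⟨w * (y * y) * w⁻¹, Subgroup.mem_top _, by
      rw [hd', hcj, hyd2, hz', conj_pow]; group⟩
  refine ⟨g * w, fun k hk => hg k ?_⟩
  rw [← hk, hd']
  (with_reducible congr 2)
  group

/-- **The special pairs of `³D₄(q)`, own characteristic `p ≥ 5`.** -/
theorem mpair_only {p : ℕ} [Fact p.Prime] [CharP K p] (hp5 : 5 ≤ p) {c d : ↥(twistedD4 K q)}
    (hc : c ∈ RGD.Sup (X φ q) (RGD.Pos cs isCartan)) (hc' : c ∉ VJ cs isCartan (X φ q) {0})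
    (hd : ∀ g ∈ PJ cs isCartan (T K q) (X φ q) {0}, g * d * g⁻¹ ∈ RGD.Sup (X φ q) (RGD.Pos cs isCartan) ∧
      g * d * g⁻¹ ∉ VJ cs isCartan (X φ q) {1}) :
    MPair p (⊤ : Subgroup ↥(twistedD4 K q)) c d := by
  obtain ⟨g, hg⟩ := prod_only hK hφ cs hp5 hc hc' hd
  exact ⟨g, Subgroup.mem_top _, 1, 1, fun k => by simpa only [_root_.pow_one, _root_.ne_eq] using hg k⟩

end Main

end Cfsg.Agent.H106.MTwD4

private theorem dce_d19812eac050 : _root_.True := by
  try have : _root_.True := by simp only [_root_.Cfsg.Agent.H106.MTwD4.cf.eq_1]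
  try have : _root_.True := by simp only [_root_.Cfsg.Agent.H106.MTwD4.A9.eq_1]
  try have : _root_.True := by simp only [_root_.Cfsg.Agent.H106.MTwD4.cf.eq_2]
  try have : _root_.True := by simp only [_root_.Cfsg.Agent.H106.MTwD4.l1.eq_1]
  try have : _root_.True := by simp only [_root_.Cfsg.Agent.H106.MTwD4.cf.eq_def]
  exact _root_.True.intro
end

-- part: H461/T5/Conway
section
set_option linter.all false
open scoped Cfsg.Agent.FastGrp

/-!
# The certificate `wpair_of_cube` for subgroups of `Co0` (helper461)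

The conjugating element `gG` is the permutation `x ↦ 2 x` of the coordinates, an element of order 11 of `M22`.
-/

set_option autoImplicit false
set_option maxRecDepth 100000

namespace Cfsg.Agent.H461.T5

open Subgroup Cfsg Cfsg.Agent.SporadicA Cfsg.Agent.SporadicStructure.Co0Matrix Cfsg.Agent.CoOneType.CoEval
open Cfsg.Agent.LThreeCo1.Ev Cfsg.Agent.LThreeMB.Fix Cfsg.Agent.H573.Spor.Co0 Cfsg.Agent.H533.T5

/-- words of the representatives -/
def wr : ℕ → List ℕ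
  | 0 => [2]
  | 1 => [0]
  | t + 2 => List.replicate t 0 ++ [1]

/-- the word of the conjugate -/
def ws (j : ℕ) : List ℕ := [3] ++ wr j ++ [4]

/-- the check of the law for the pairs `i ≤ j` of representatives with first entry `i` -/
def chkR (M : ℕ → List (List ℤ)) (p i : ℕ) : Bool :=
  (List.range (p + 2)).all fun j =>
    bif Nat.blt j i then true
    else neB' M (wr i ++ ws j ++ (ws j ++ wr i)) (ws j ++ wr i ++ (wr i ++ ws j))

section Gen

variable {e : ℕ → Co0} {M : ℕ → List (List ℤ)}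

theorem Rp.word {p : ℕ} {r : Co0} (hr : Rp p (e 0) (e 1) (e 2) r) : ∃ i < p + 2, r = ((wr i).map e).prod := by
  rcases hr with rfl | rfl | ⟨t, ht, rfl⟩
  · exact ⟨0, by omega, by simp [wr]⟩
  · exact ⟨1, by omega, by simp [wr]⟩
  · exact ⟨t + 2, by omega, by simp [wr]⟩

theorem law_ne_le (hM : ∀ i, Rep (e i) (M i)) {p : ℕ} (h : ∀ i < p + 2, chkR M p i = true) (h34 : e 3 * e 4 = 1)
    {i j : ℕ} (hi : i < p + 2) (hj : j < p + 2) (hij : i ≤ j) :
    ((wr i).map e).prod * (e 3 * ((wr j).map e).prod * (e 3)⁻¹) * ((e 3 * ((wr j).map e).prod * (e 3)⁻¹) *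
      ((wr i).map e).prod) ≠ (e 3 * ((wr j).map e).prod * (e 3)⁻¹) * ((wr i).map e).prod * (((wr i).map e).prod *
      (e 3 * ((wr j).map e).prod * (e 3)⁻¹)) := by
  have h4 : (e 3)⁻¹ = e 4 := inv_eq_of_mul_eq_one_right h34
  have h1 := List.all_eq_true.1 (h i hi) j (List.mem_range.2 hj)
  have h0 : Nat.blt j i = false := by
    rw [← Bool.not_eq_true, Nat.blt_eq]
    omega
  rw [h0, cond_false] at h1
  have h2 := ne_of_neB' hM h1
  simp only [List.map_append, List.prod_append] at h2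
  have h3 : ((ws j).map e).prod = e 3 * ((wr j).map e).prod * (e 3)⁻¹ := by
    rw [h4, ws, List.map_append, List.map_append, List.prod_append, List.prod_append]
    simp
  rwa [h3] at h2

theorem law_ne (hM : ∀ i, Rep (e i) (M i)) {p : ℕ} (h : ∀ i < p + 2, chkR M p i = true) (h34 : e 3 * e 4 = 1) {r s : Co0}
    (hr : Rp p (e 0) (e 1) (e 2) r) (hs : Rp p (e 0) (e 1) (e 2) s) :
    r * (e 3 * s * (e 3)⁻¹) * ((e 3 * s * (e 3)⁻¹) * r) ≠ (e 3 * s * (e 3)⁻¹) * r * (r * (e 3 * s * (e 3)⁻¹)) ∨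
    r * ((e 3)⁻¹ * s * (e 3)⁻¹⁻¹) * (((e 3)⁻¹ * s * (e 3)⁻¹⁻¹) * r) ≠
      ((e 3)⁻¹ * s * (e 3)⁻¹⁻¹) * r * (r * ((e 3)⁻¹ * s * (e 3)⁻¹⁻¹)) := by
  obtain ⟨i, hi, rfl⟩ := Rp.word hr
  obtain ⟨j, hj, rfl⟩ := Rp.word hs
  rcases le_total i j with hij | hij
  · exact Or.inl (law_ne_le hM h h34 hi hj hij)
  · right
    have h1 := law_ne_le hM h h34 hj hi hij
    generalize ((wr i).map e).prod = r at h1 ⊢
    generalize ((wr j).map e).prod = s at h1 ⊢
    generalize e 3 = g at h1 ⊢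
    intro h2
    apply h1
    have e1 : s * (g * r * g⁻¹) * (g * r * g⁻¹ * s) =
        g * (g⁻¹ * s * g⁻¹⁻¹ * r * (r * (g⁻¹ * s * g⁻¹⁻¹))) * g⁻¹ := by group
    have e2 : g * r * g⁻¹ * s * (s * (g * r * g⁻¹)) =
        g * (r * (g⁻¹ * s * g⁻¹⁻¹) * (g⁻¹ * s * g⁻¹⁻¹ * r)) * g⁻¹ := by group
    rw [e1, e2, h2]

theorem Rp.map {G H : Type*} [Group G] [Group H] (φ : G →* H) {p : ℕ} {a b c r : G} (hr : Rp p a b c r) :
    Rp p (φ a) (φ b) (φ c) (φ r) := by
  rcases hr with rfl | rfl | ⟨t, ht, rfl⟩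
  · exact Or.inl rfl
  · exact Or.inr (Or.inl rfl)
  · exact Or.inr (Or.inr ⟨t, ht, by rw [map_mul, map_pow]⟩)

/-- **the pairs**, for a subgroup `X` of `Co₀` -/
theorem wpair_of_le {p : ℕ} [Fact p.Prime] (X : Subgroup (Equiv.Perm leechLattice)) (hX : X ≤ Co0)
    (h4 : ¬ p ^ 4 ∣ Nat.card X) (hM : ∀ i, Rep (e i) (M i)) (h : ∀ i < p + 2, chkR M p i = true) (h34 : e 3 * e 4 = 1)
    (m0 : (e 0).1 ∈ X) (m1 : (e 1).1 ∈ X) (m2 : (e 2).1 ∈ X) (m3 : (e 3).1 ∈ X) (ha : e 0 ^ p = 1) (hb : e 1 ^ p = 1)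
    (hc : e 2 ^ p = 1) (hc1 : e 2 ≠ 1) (hac : e 0 * e 2 = e 2 * e 0) (hbc : e 1 * e 2 = e 2 * e 1)
    (hab : e 0 * e 1 = e 1 * e 0 * e 2) {x y : X} (hx : orderOf x = p) (hy : orderOf y = p) :
    WPair p (⊤ : Subgroup X) x y := by
  have hfin : Finite X := by
    refine Nat.finite_of_card_ne_zero fun h => ?_
    rw [h] at h4
    exact h4 (dvd_zero _)
  have inj : Function.Injective (Subgroup.inclusion hX) := Subgroup.inclusion_injective hX
  refine wpair_of_cube h4 (a := ⟨_, m0⟩) (b := ⟨_, m1⟩) (c := ⟨_, m2⟩) (inj ?_) (inj ?_) (inj ?_) (fun hcon => hc1 ?_)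
    (inj ?_) (inj ?_) (inj ?_) (fun r s hr hs => ?_) hx hy
  · rw [map_pow, map_one]; exact ha
  · rw [map_pow, map_one]; exact hb
  · rw [map_pow, map_one]; exact hc
  · exact congrArg (Subgroup.inclusion hX) hcon
  · rw [map_mul, map_mul]; exact hac
  · rw [map_mul, map_mul]; exact hbc
  · rw [map_mul, map_mul, map_mul]; exact hab
  · rcases law_ne hM h h34 (Rp.map (Subgroup.inclusion hX) hr) (Rp.map (Subgroup.inclusion hX) hs) with h6 | h6
    · refine ⟨⟨_, m3⟩, fun hcon => h6 ?_⟩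
      have h5 := congrArg (Subgroup.inclusion hX) hcon
      simp only [map_mul, map_inv] at h5
      exact h5
    · refine ⟨⟨_, m3⟩⁻¹, fun hcon => h6 ?_⟩
      have h5 := congrArg (Subgroup.inclusion hX) hcon
      simp only [map_mul, map_inv] at h5
      exact h5

end Gen

/-! ### the conjugating element -/

def nG : ℕ := 0xc42108421084210842108421084210842108421084210c4210842108421086210842108421084210842108421084210842108421086210842108421084310842108421084210842108421084210842108421084310842108421084218842108421084210842108421084210842108421084218842108421084210c42108421084210842108421084210842108421084210c4210842108421086210842108421084210842108421084210842108421086210842108421084310842108421084210842108421084210842108421084310842108421084218842108421084210842108421084210842108421084218842108421084210c42108421084210842108421084210842108421084210c4210842108421086210842108421084210842108421084210842108421086210842108421084310842108421084210842108421084210842108421084310842108421084218842108421084210842108421084210842108421084218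
def nH : ℕ := 0xc4210842108421084210842108421084310842108421084210842108421084210c4210842108421084210842108421084310842108421084210842108421084210c4210842108421084210842108421084310842108421084210842108421084210c4210842108421084210842108421084310842108421084210842108421084210c4210842108421084210842108421084310842108421084210842108421084210c4210842108421084210842108421084310862108421084210842108421084210842188421084210842108421084210842108621084210842108421084210842108421884210842108421084210842108421086210842108421084210842108421084218842108421084210842108421084210862108421084210842108421084210842188421084210842108421084210842108621084210842108421084210842108421884210842108421084210842108421086210842108421084210842108421084218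

theorem okG : okN nG = true := by exact Cfsg.Agent.CoOneType.CoQ.okz_of (by decide +kernel)
theorem okH : okN nH = true := by exact Cfsg.Agent.CoOneType.CoQ.okz_of (by decide +kernel)

def gG : Co0 := mk (ok_of_okN okG)
theorem repG : Rep gG (dec nG) := rep_mk _
def gH : Co0 := mk (ok_of_okN okH)
theorem repH : Rep gH (dec nH) := rep_mk _

theorem gh : gG * gH = 1 := by
  have hM : ∀ i, Rep ((fun n : ℕ => if n = 0 then gG else gH) i) ((fun n : ℕ => if n = 0 then dec nG else dec nH) i) := by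
    intro i
    by_cases hi : i = 0
    · simp only [hi, if_true]; exact repG
    · simp only [hi, if_false]; exact repH
  have h := eq_of_eqB hM (w := [0, 1]) (w' := []) (by (delta Cfsg.Agent.LThreeCo1.Ev.eqB; rewrite [Cfsg.Agent.CoOneType.CoW.of_eq Cfsg.Agent.LThreeCo1.Ev.foldZ_eq]; decide +kernel))
  simpa using h

end Cfsg.Agent.H461.T5

private theorem dce_14b1a40dd5c6 : _root_.True := by
  try have : _root_.True := by simp only [_root_.Cfsg.Agent.H461.T5.wr.eq_2]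
  try have : _root_.True := by simp only [_root_.Cfsg.Agent.H461.T5.wr.eq_1]
  try have : _root_.True := by simp only [_root_.Cfsg.Agent.H461.T5.ws.eq_1]
  try have : _root_.True := by simp only [_root_.Cfsg.Agent.H461.T5.wr.eq_3]
  exact _root_.True.intro
end

-- part: H957/T5Sp4
section
prune_inst 0x34601550742212000000800462001c62fa00010200488c0004a10e000789a44040408820aa8025114802004c08300048115c0020424000000e200000011c00800000100440c10000420088000000400000000000000000000000000000000000000000000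
set_option linter.all false
open scoped Cfsg.Agent.FastGrp

-- part: H957/T5Sp1
section
/-!
# The pair predicate for symplectic groups (T5, row PSp)
-/

set_option autoImplicit false

namespace Cfsg.Agent.H957.T5S

open Cfsg.Agent.H957.T5V Cfsg.Agent.H957.T5Conf Cfsg.Agent.H957.T5Pairs
open Cfsg.Agent.H957.T5U (Res exists_res)
open Module

variable {F V : Type*} [Field F] [AddCommGroup V] [Module F V]
variable {B : LinearMap.BilinForm F V} {p : ℕ} {σ τ : F ≃+* F} {c d : Equiv.Perm V}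

/-- `g` is an isometry. -/
def Isom (B : LinearMap.BilinForm F V) (g : V ≃ₗ[F] V) : Prop := ∀ u v, B (g u) (g v) = B u v

theorem Isom.mul {g h : V ≃ₗ[F] V} (hg : Isom B g) (hh : Isom B h) : Isom B (g * h) := by
  intro u v
  change B (g (h u)) (g (h v)) = _
  rw [hg, hh]

theorem Isom.inv {g : V ≃ₗ[F] V} (hg : Isom B g) : Isom B g⁻¹ := by
  intro u v
  rw [← hg]
  change B (g (g.symm u)) (g (g.symm v)) = _
  rw [g.apply_symm_apply, g.apply_symm_apply]

/-- The pair predicate for the isometry group, powers allowed. -/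
def SP (B : LinearMap.BilinForm F V) (p : ℕ) (c d : Equiv.Perm V) : Prop :=
  ∃ g : V ≃ₗ[F] V, Isom B g ∧ ∃ i j : ℕ, ∀ k : ℕ,
    ¬ IsScal F ((c ^ i * (toA g * d * (toA g)⁻¹) ^ j) ^ p ^ k)

theorem SP.symm (hc : Semi σ c) (h : SP B p c d) : SP B p d c := by
  obtain ⟨g, hg, i, j, h⟩ := h
  refine ⟨g⁻¹, hg.inv, j, i, fun m hm => h m ?_⟩
  have h1 : (c ^ i * (toA g * d * (toA g)⁻¹) ^ j)
      = (toA g * (toA g⁻¹ * c * (toA g⁻¹)⁻¹) ^ i) * (d ^ j * (toA g⁻¹ * c * (toA g⁻¹)⁻¹) ^ i)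
        * (toA g * (toA g⁻¹ * c * (toA g⁻¹)⁻¹) ^ i)⁻¹ := by
    rw [map_inv, conj_pow, conj_pow]
    group
  rw [h1, conj_pow]
  exact isScal_conj ((semi_toA g).mul ((hc.conj g⁻¹).pow i)) hm

theorem SP.conj_right {t : V ≃ₗ[F] V} (ht : Isom B t) (h : SP B p c (toA t * d * (toA t)⁻¹)) :
    SP B p c d := by
  obtain ⟨s, hs, i, j, h⟩ := h
  refine ⟨s * t, hs.mul ht, i, j, ?_⟩
  have : toA (s * t) * d * (toA (s * t))⁻¹
      = toA s * (toA t * d * (toA t)⁻¹) * (toA s)⁻¹ := by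
    rw [map_mul]; group
  rwa [this]

section witt

variable [FiniteDimensional F V]

/-- Witt's lemma for families. -/
theorem witt_family (hB : B.Nondegenerate) (hA : B.IsAlt) {κ : Type*} [Finite κ] {a b : κ → V}
    (ha : LinearIndependent F a) (hb : LinearIndependent F b)
    (hab : ∀ i j, B (a i) (a j) = B (b i) (b j)) :
    ∃ g : V ≃ₗ[F] V, Isom B g ∧ ∀ i, g (a i) = b i := by
  let ba := Basis.span ha
  let bb := Basis.span hb
  let φ := ba.equiv bb (Equiv.refl κ)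
  have hba : ∀ i, (ba i : V) = a i := fun i => congrArg Subtype.val (Basis.span_apply ha i)
  have hbb : ∀ i, (bb i : V) = b i := fun i => congrArg Subtype.val (Basis.span_apply hb i)
  have hφ : ∀ i, φ (ba i) = bb i := fun i => by
    change ba.equiv bb (Equiv.refl κ) (ba i) = bb i
    rw [Basis.equiv_apply]
    rfl
  let ψ : Submodule.span F (Set.range a) →ₗ[F] V :=
    (Submodule.subtype (Submodule.span F (Set.range b))).comp φ.toLinearMap
  have key : (B.compl₁₂ ψ ψ) =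
      B.compl₁₂ (Submodule.subtype (Submodule.span F (Set.range a)))
        (Submodule.subtype (Submodule.span F (Set.range a))) := by
    refine LinearMap.ext_basis ba ba fun i j => ?_
    change B (φ (ba i) : V) (φ (ba j) : V) = B (ba i : V) (ba j : V)
    rw [hφ, hφ, hba, hba, hbb, hbb, hab]
  obtain ⟨g, hg, hgφ⟩ := Cfsg.Agent.S0749.result B hB hA _ _ φ (fun x x' =>
    LinearMap.congr_fun (LinearMap.congr_fun key x) x')
  refine ⟨g, hg, fun i => ?_⟩
  have h := hgφ (ba i)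
  rw [hφ, hba, hbb] at h
  exact h

theorem sp_of_family (hB : B.Nondegenerate) (hA : B.IsAlt) (hd : Semi τ d) {κ : Type*} [Finite κ]
    {a b : κ → V} (ha : LinearIndependent F a) (hb : LinearIndependent F b)
    (hab : ∀ i j, B (a i) (a j) = B (b i) (b j))
    (h : ∀ d' : Equiv.Perm V, Semi τ d' → ∀ g : V ≃ₗ[F] V, (∀ i, g (a i) = b i) →
      (∀ x, d' (g x) = g (d x)) → (∀ m : ℕ, ¬ IsScal F ((c * d') ^ p ^ m))) :
    SP B p c d := by
  obtain ⟨g, hg, hgab⟩ := witt_family hB hA ha hb hab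
  refine ⟨g, hg, 1, 1, fun m => ?_⟩
  rw [pow_one, pow_one]
  refine h _ (hd.conj g) g hgab (fun x => ?_) m
  rw [Equiv.Perm.mul_apply, Equiv.Perm.mul_apply, toA_inv_apply, toA_apply]

end witt

/-- `c` leaves the span of a family with Gram matrix `G` invariant and is not a scalar there. -/
def Gm (B : LinearMap.BilinForm F V) {k : ℕ} (G : Fin k → Fin k → F) (c : Equiv.Perm V) : Prop :=
  ∃ b : Fin k → V, LinearIndependent F b ∧ (∀ i j, B (b i) (b j) = G i j) ∧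
    (∀ w ∈ Submodule.span F (Set.range b), c w ∈ Submodule.span F (Set.range b)) ∧
    ¬ ∃ t : F, ∀ w ∈ Submodule.span F (Set.range b), c w = t • w

theorem isScal_conj_pow {g : V ≃ₗ[F] V} {m : ℕ} (h : IsScal F (d ^ m)) :
    IsScal F ((toA g * d * (toA g)⁻¹) ^ m) := by
  rw [conj_pow]
  exact isScal_conj (semi_toA g) h

theorem sp_of_gram [Finite F] [FiniteDimensional F V] (hB : B.Nondegenerate) (hA : B.IsAlt)
    {k : ℕ} (hk : 2 ≤ k) {G : Fin k → Fin k → F}
    (hG : ∀ b : Fin k → V, LinearIndependent F b → (∀ i j, B (b i) (b j) = G i j) →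
      ∀ g : Submodule.span F (Set.range b) ≃ₗ[F] Submodule.span F (Set.range b),
        LinearEquiv.det g = 1 → ∀ u v, B (g u : V) (g v : V) = B (u : V) (v : V))
    (hp : p.Prime) (hp5 : 5 ≤ p) (hpF : (p : F) ≠ 0) (hc : Semi σ c) (hd : Semi τ d)
    (hcp : IsScal F (c ^ p)) (hdp : IsScal F (d ^ p)) (h1 : Gm B G c) (h2 : Gm B G d) :
    SP B p c d := by
  have : Finite V := Module.finite_of_finite F
  obtain ⟨b, hb, hbG, hcb, hcn⟩ := h1
  obtain ⟨a, ha, haG, hda, hdn⟩ := h2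
  obtain ⟨t, ht, htab⟩ := witt_family hB hA ha hb (fun i j => by rw [haG, hbG])
  refine SP.conj_right ht ?_
  set W := Submodule.span F (Set.range b) with hW
  set W' := Submodule.span F (Set.range a) with hW'
  have hWW : W'.map (t : V →ₗ[F] V) = W := by
    rw [hW', Submodule.map_span, ← Set.range_comp]
    congr 1
    congr 1
    funext i
    exact htab i
  have hto : ∀ w ∈ W', t w ∈ W := fun w hw => by
    rw [← hWW]; exact ⟨w, hw, rfl⟩
  have hfrom : ∀ w ∈ W, ∃ w' ∈ W', t w' = w := fun w hw => by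
    rw [← hWW] at hw; exact hw
  set d' := toA t * d * (toA t)⁻¹ with hd'
  have hdt : ∀ x, d' (t x) = t (d x) := fun x => by
    rw [hd', Equiv.Perm.mul_apply, Equiv.Perm.mul_apply, toA_inv_apply, toA_apply]
  have hd'W : ∀ w ∈ W, d' w ∈ W := by
    intro w hw
    obtain ⟨w', hw', rfl⟩ := hfrom w hw
    rw [hdt]
    exact hto _ (hda _ hw')
  have hd'n : ¬ ∃ t : F, ∀ w ∈ W, d' w = t • w := by
    rintro ⟨s, hs⟩
    apply hdn
    refine ⟨s, fun w hw => t.injective ?_⟩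
    rw [← hdt, hs _ (hto w hw), map_smul]
  have hd's : Semi τ d' := hd.conj t
  have hd'p : IsScal F (d' ^ p) := isScal_conj_pow hdp
  obtain ⟨c0, hc0⟩ := exists_res (ι := ((↑) : W → V)) (x := c) Subtype.val_injective
    (fun v => ⟨⟨c v, hcb v v.2⟩, rfl⟩)
  obtain ⟨d0, hd0⟩ := exists_res (ι := ((↑) : W → V)) (x := d') Subtype.val_injective
    (fun v => ⟨⟨d' v, hd'W v v.2⟩, rfl⟩)
  have semi_res : ∀ {θ : F ≃+* F} {x : Equiv.Perm V} {x0 : Equiv.Perm W}, Semi θ x →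
      Res ((↑) : W → V) x x0 → Semi θ x0 := by
    intro θ x x0 hx h
    refine ⟨fun u v => Subtype.ext ?_, fun a u => Subtype.ext ?_⟩
    · rw [Submodule.coe_add, ← h, ← h, ← h, Submodule.coe_add, hx.add]
    · rw [Submodule.coe_smul, ← h, ← h, Submodule.coe_smul, hx.smul]
  have scal_res : ∀ {x : Equiv.Perm V} {x0 : Equiv.Perm W}, Res ((↑) : W → V) x x0 →
      IsScal F x → IsScal F x0 := by
    rintro x x0 h ⟨a, ha⟩
    exact ⟨a, fun v => Subtype.ext (by rw [← h, ha, Submodule.coe_smul])⟩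
  have ns_res : ∀ {x : Equiv.Perm V} {x0 : Equiv.Perm W}, Res ((↑) : W → V) x x0 →
      (¬ ∃ t : F, ∀ w ∈ W, x w = t • w) → ¬ IsScal F x0 := by
    rintro x x0 h hn ⟨a, ha⟩
    apply hn
    refine ⟨a, fun w hw => ?_⟩
    have := h ⟨w, hw⟩
    rw [ha] at this
    exact this
  have hdim : finrank F W = k := by rw [hW, finrank_span_eq_card hb, Fintype.card_fin]
  obtain ⟨g, hg, i, j, h⟩ := Cfsg.Agent.H957.T5Main.mp_main hp hp5 (by rw [hdim]; exact hk) hpF
    (semi_res hc hc0) (scal_res (hc0.pow p) hcp) (ns_res hc0 hcn) (semi_res hd's hd0)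
    (scal_res (hd0.pow p) hd'p) (ns_res hd0 hd'n)
  obtain ⟨s, hs, hsg⟩ := Cfsg.Agent.S0749.result B hB hA W W g (hG b hb hbG g hg)
  refine ⟨s, hs, i, j, fun m hm => h m ?_⟩
  have hres : Res ((↑) : W → V) (toA s) (toA g) := fun v => hsg v
  exact scal_res (((hc0.pow i).mul (((hres.mul hd0).mul hres.inv).pow j)).pow _) hm

/-- totally isotropic subspaces -/
theorem sp_ti [Finite F] [FiniteDimensional F V] (hB : B.Nondegenerate) (hA : B.IsAlt)
    {k : ℕ} (hk : 2 ≤ k) (hp : p.Prime) (hp5 : 5 ≤ p) (hpF : (p : F) ≠ 0) (hc : Semi σ c)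
    (hd : Semi τ d) (hcp : IsScal F (c ^ p)) (hdp : IsScal F (d ^ p))
    (h1 : Gm B (fun _ _ : Fin k => 0) c) (h2 : Gm B (fun _ _ : Fin k => 0) d) : SP B p c d := by
  refine sp_of_gram hB hA hk ?_ hp hp5 hpF hc hd hcp hdp h1 h2
  intro b _ hbG g _ u v
  have h0 : ∀ x ∈ Submodule.span F (Set.range b), ∀ y ∈ Submodule.span F (Set.range b),
      B x y = 0 := by
    intro x hx y hy
    induction hx using Submodule.span_induction with
    | mem x hx =>
      obtain ⟨i, rfl⟩ := hx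
      induction hy using Submodule.span_induction with
      | mem y hy =>
        obtain ⟨j, rfl⟩ := hy
        exact hbG i j
      | zero => exact map_zero _
      | add y y' _ _ h h' => rw [map_add, h, h', add_zero]
      | smul a y _ h => rw [map_smul, h, smul_zero]
    | zero => rw [map_zero, LinearMap.zero_apply]
    | add x x' _ _ h h' => rw [map_add, LinearMap.add_apply, h, h', add_zero]
    | smul a x _ h => rw [map_smul, LinearMap.smul_apply, h, smul_zero]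
  rw [h0 _ (g u).2 _ (g v).2, h0 _ u.2 _ v.2]

/-- The Gram matrix of a hyperbolic plane. -/
def hyp : Fin 2 → Fin 2 → F := ![![0, 1], ![-1, 0]]

/-- hyperbolic planes -/
theorem sp_plane [Finite F] [FiniteDimensional F V] (hB : B.Nondegenerate) (hA : B.IsAlt)
    (hp : p.Prime) (hp5 : 5 ≤ p) (hpF : (p : F) ≠ 0) (hc : Semi σ c)
    (hd : Semi τ d) (hcp : IsScal F (c ^ p)) (hdp : IsScal F (d ^ p))
    (h1 : Gm B hyp c) (h2 : Gm B hyp d) : SP B p c d := by
  refine sp_of_gram hB hA le_rfl ?_ hp hp5 hpF hc hd hcp hdp h1 h2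
  intro b hb hbG g hg
  let bb := Basis.span hb
  have hbb : ∀ i, (bb i : V) = b i := fun i => congrArg Subtype.val (Basis.span_apply hb i)
  have h0 : ∀ x, B x x = 0 := hA
  have hswap : ∀ x y, B x y = -B y x := fun x y => (LinearMap.IsAlt.neg hA y x).symm
  have hmat : ∀ j, (g (bb j) : V) = LinearMap.toMatrix bb bb (g : _ →ₗ[F] _) 0 j • b 0
      + LinearMap.toMatrix bb bb (g : _ →ₗ[F] _) 1 j • b 1 := by
    intro j
    have h3 := bb.sum_repr (g (bb j))
    rw [Fin.sum_univ_two] at h3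
    rw [← h3, Submodule.coe_add, Submodule.coe_smul, Submodule.coe_smul, hbb, hbb,
      LinearMap.toMatrix_apply, LinearMap.toMatrix_apply]
    simp only [_root_.Fin.isValue, _root_.LinearEquiv.coe_coe]
  have hdet : (LinearMap.toMatrix bb bb (g : _ →ₗ[F] _)).det = 1 := by
    rw [LinearMap.det_toMatrix, ← LinearEquiv.coe_det, hg]
    rfl
  rw [Matrix.det_fin_two] at hdet
  generalize LinearMap.toMatrix bb bb (g : _ →ₗ[F] _) = M at hmat hdet
  let ψ : Submodule.span F (Set.range b) →ₗ[F] V :=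
    (Submodule.subtype (Submodule.span F (Set.range b))).comp g.toLinearMap
  have key : (B.compl₁₂ ψ ψ) =
      B.compl₁₂ (Submodule.subtype (Submodule.span F (Set.range b)))
        (Submodule.subtype (Submodule.span F (Set.range b))) := by
    refine LinearMap.ext_basis bb bb fun i j => ?_
    change B (g (bb i) : V) (g (bb j) : V) = B (bb i : V) (bb j : V)
    have h01 : B (b 0) (b 1) = 1 := hbG 0 1
    have h10 : B (b 1) (b 0) = -1 := hbG 1 0
    have e : ∀ i j, B (g (bb i) : V) (g (bb j) : V) = M 0 i * M 1 j - M 1 i * M 0 j := by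
      intro i j
      rw [hmat, hmat]
      simp only [map_add, map_smul, LinearMap.add_apply, LinearMap.smul_apply, smul_eq_mul, h0,
        h01, h10]
      ring
    rw [e, hbb, hbb]
    fin_cases i <;> fin_cases j <;> simp only [Fin.zero_eta, Fin.mk_one, h0, h01, h10]
    · ring
    · linear_combination hdet
    · linear_combination -hdet
    · ring
  intro u v
  exact LinearMap.congr_fun (LinearMap.congr_fun key u) v

end Cfsg.Agent.H957.T5S
end

-- part: H957/T5Sp2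
section
/-!
# Values of an alternating form on the cyclic vectors of an isometry (T5, row PSp)
-/

set_option autoImplicit false

namespace Cfsg.Agent.H957.T5S

open Polynomial
open Cfsg.Agent.H957.T5U (exists_solve li_root)

variable {F V : Type} [Field F] [Fintype F] [AddCommGroup V] [Module F V]
variable {B : LinearMap.BilinForm F V} {f : Module.End F V} {j p : ℕ}

theorem add_pow_q {R : Type*} [CommRing R] [Algebra F R] (j : ℕ) (x y : R) :
    (x + y) ^ Fintype.card F ^ j = x ^ Fintype.card F ^ j + y ^ Fintype.card F ^ j := by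
  rcases subsingleton_or_nontrivial R with hR | hR
  · exact Subsingleton.elim _ _
  obtain ⟨r, hr⟩ := CharP.exists F
  obtain ⟨k, hrp, hk⟩ := FiniteField.card F r
  have : Fact r.Prime := ⟨hrp⟩
  have : CharP R r := charP_of_injective_algebraMap (algebraMap F R).injective r
  rw [hk, ← pow_mul]
  exact add_pow_char_pow x y r (k * j)

omit [Fintype F] in
theorem form_pow_left {N : ℕ} (hf : ∀ u v, B (f u) (f v) = B u v) (hN : f ^ (N + 1) = 1)
    (u v : V) (k : ℕ) : B ((f ^ k) u) v = B u ((f ^ (k * N)) v) := by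
  induction k generalizing u v with
  | zero => simp
  | succ k ih =>
    have h1 : ∀ x y, B (f x) y = B x ((f ^ N) y) := by
      intro x y
      rw [← hf x ((f ^ N) y)]
      congr 1
      have h2 : f ((f ^ N) y) = (f ^ (N + 1)) y := by rw [pow_succ']; rfl
      rw [h2, hN]; rfl
    rw [pow_succ']
    change B (f ((f ^ k) u)) v = _
    rw [h1, ih]
    congr 1
    rw [Nat.succ_mul, pow_add]
    rfl

/-- The adjoint of `a(f)` is `a(f) ^ N`. -/
theorem form_aeval (hf : ∀ u v, B (f u) (f v) = B u v)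
    (hN : f ^ (Fintype.card F ^ j + 1) = 1) (a : F[X]) (u v : V) :
    B (aeval f a u) v = B u (aeval f (a ^ Fintype.card F ^ j) v) := by
  induction a using Polynomial.induction_on' with
  | add a b ha hb =>
    rw [add_pow_q j, map_add, map_add, LinearMap.add_apply, LinearMap.add_apply, map_add,
      LinearMap.add_apply, map_add, ha, hb]
  | monomial k t =>
    have h1 : ∀ (s : F) (m : ℕ) (x : V), aeval f (C s * X ^ m) x = s • (f ^ m) x := by
      intro s m x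
      rw [map_mul, aeval_C, map_pow, aeval_X, Module.End.mul_apply, Module.algebraMap_end_apply]
    rw [← C_mul_X_pow_eq_monomial, mul_pow, ← C_pow, ← pow_mul, h1, h1,
      FiniteField.pow_card_pow, map_smul, map_smul, LinearMap.smul_apply, form_pow_left hf hN]

theorem form_aeval' (hA : B.IsAlt) (hf : ∀ u v, B (f u) (f v) = B u v)
    (hN : f ^ (Fintype.card F ^ j + 1) = 1) (a : F[X]) (u v : V) :
    B u (aeval f a v) = B (aeval f (a ^ Fintype.card F ^ j) u) v := by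
  rw [← LinearMap.IsAlt.neg hA, form_aeval hf hN, LinearMap.IsAlt.neg hA]

/-- The kernel of `P(f)` meets its orthogonal space trivially. -/
theorem ker_nondeg (hB : B.Nondegenerate) (hA : B.IsAlt) (hf : ∀ u v, B (f u) (f v) = B u v)
    (hN : f ^ (Fintype.card F ^ j + 1) = 1) (hpF : (p : F) ≠ 0) (hfp : f ^ p = 1)
    {P : F[X]} (hP : P ∣ X ^ p - 1) {z : V} (hPz : aeval f P z = 0)
    (hz : ∀ y, aeval f P y = 0 → B z y = 0) : z = 0 := by
  obtain ⟨Q, hQ⟩ := hP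
  have hcop : IsCoprime P Q := by
    have h := separable_X_pow_sub_C (1 : F) hpF one_ne_zero
    rw [C_1, hQ] at h
    exact h.isCoprime
  obtain ⟨A, R, hAB⟩ := hcop
  apply hB.1
  intro x
  have hPQ : aeval f (P * Q) = 0 := by
    rw [← hQ, map_sub, map_pow, aeval_X, map_one, hfp, sub_self]
  have hx : x = aeval f (P * A) x + aeval f (R * Q) x := by
    have := congrArg (fun r => aeval f r x) hAB
    simp only [map_add, LinearMap.add_apply, map_one, Module.End.one_apply] at this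
    rw [mul_comm P A]
    exact this.symm
  have h1 : aeval f P (aeval f (R * Q) x) = 0 := by
    rw [← Module.End.mul_apply, ← map_mul]
    rw [show P * (R * Q) = R * (P * Q) by ring, map_mul, hPQ, mul_zero]
    rfl
  have hPN : aeval f (P ^ Fintype.card F ^ j) z = 0 := by
    obtain ⟨m, hm⟩ : ∃ m, Fintype.card F ^ j = m + 1 := Nat.exists_eq_succ_of_ne_zero
      (pow_ne_zero _ Fintype.card_ne_zero)
    rw [hm, pow_succ, map_mul, Module.End.mul_apply, hPz, map_zero]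
  rw [hx, map_add, hz _ h1, add_zero, map_mul, Module.End.mul_apply, form_aeval' hA hf hN, hPN,
    map_zero, LinearMap.zero_apply]

/-- A vector with `B (f w) w ≠ 0`. -/
theorem exists_w (hB : B.Nondegenerate) (hA : B.IsAlt) (hf : ∀ u v, B (f u) (f v) = B u v)
    (hN : f ^ (Fintype.card F ^ j + 1) = 1) (hp : p.Prime) (hp2 : p ≠ 2) (hpF : (p : F) ≠ 0)
    (hfp : f ^ p = 1) {P : F[X]} (hP : P ∣ cyclotomic p F) {u : V} (hu : u ≠ 0)
    (hPu : aeval f P u = 0) : ∃ w, aeval f P w = 0 ∧ B (f w) w ≠ 0 := by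
  have : Fact p.Prime := ⟨hp⟩
  by_contra hcon
  push Not at hcon
  have hPd : P ∣ X ^ p - 1 := by
    rw [← cyclotomic_prime_mul_X_sub_one F p]
    exact hP.mul_right _
  have hfm : ∀ x, aeval f P x = 0 → aeval f P (f x) = 0 := by
    intro x hx
    have h1 : f x = aeval f (X : F[X]) x := by rw [aeval_X]
    rw [h1, ← Module.End.mul_apply, ← map_mul, mul_comm, map_mul, Module.End.mul_apply, hx,
      map_zero]
  have hpol : ∀ x, aeval f P x = 0 → ∀ y, aeval f P y = 0 → B (f x) y = B x (f y) := by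
    intro x hx y hy
    have h1 := hcon (x + y) (by rw [map_add, hx, hy, add_zero])
    rw [map_add f, map_add B, LinearMap.add_apply, map_add, map_add, hcon x hx, hcon y hy,
      zero_add, add_zero] at h1
    rw [← LinearMap.IsAlt.neg hA (f y) x]
    exact eq_neg_of_add_eq_zero_left h1
  have h2 : f (f u) - u = 0 := by
    refine ker_nondeg hB hA hf hN hpF hfp hPd ?_ ?_
    · rw [map_sub, hfm _ (hfm _ hPu), hPu, sub_self]
    · intro y hy
      rw [map_sub, LinearMap.sub_apply, hpol _ (hfm _ hPu) y hy, hf, sub_self]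
  have h3 : f (f u) = u := sub_eq_zero.1 h2
  have h4 : f u = u := by
    obtain ⟨k, hk⟩ := hp.odd_of_ne_two hp2
    have h5 : ∀ m : ℕ, (f ^ (2 * m)) u = u := by
      intro m
      induction m with
      | zero => simp
      | succ m ih =>
        rw [show 2 * (m + 1) = 2 * m + 2 by ring, pow_add, Module.End.mul_apply]
        have : (f ^ 2) u = u := by rw [pow_two]; exact h3
        rw [this, ih]
    have h6 : (f ^ p) u = u := by rw [hfp]; rfl
    rw [hk, pow_succ', Module.End.mul_apply, h5] at h6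
    exact h6
  have h5 : ∀ a : F[X], aeval f a u = (a.eval 1) • u := by
    intro a
    have h6 : ∀ k : ℕ, (f ^ k) u = u := by
      intro k
      induction k with
      | zero => rfl
      | succ k ih => rw [pow_succ', Module.End.mul_apply, ih, h4]
    induction a using Polynomial.induction_on' with
    | add a b ha hb => rw [map_add, LinearMap.add_apply, ha, hb, eval_add, add_smul]
    | monomial k t =>
      rw [aeval_monomial, Module.End.mul_apply, h6, eval_monomial, one_pow, mul_one,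
        Module.algebraMap_end_apply]
  rw [h5] at hPu
  have h6 : P.eval 1 = 0 := (smul_eq_zero.1 hPu).resolve_right hu
  obtain ⟨Q, hQ⟩ := hP
  have h7 := congrArg (eval 1) hQ
  rw [eval_mul, h6, zero_mul, eval_one_cyclotomic_prime] at h7
  exact hpF h7

omit [Fintype F] in
theorem exists_solve' {E : Type} [Field E] [Algebra F E] (ℓ : E →ₗ[F] F) {x0 : E}
    (h1 : ℓ x0 ≠ 0) {k : ℕ} {g : Fin k → E} (hg : LinearIndependent F g) (t : Fin k → F) :
    ∃ x : E, ∀ i, ℓ (g i * x) = t i := by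
  obtain ⟨x, hx⟩ := exists_solve (ℓ.comp (LinearMap.mulLeft F x0)) (by
    change ℓ (x0 * 1) ≠ 0
    rwa [mul_one]) hg t
  refine ⟨x0 * x, fun i => ?_⟩
  rw [← hx i]
  change _ = ℓ (x0 * (g i * x))
  congr 1
  ring

/-- The data lemma. -/
theorem data (hA : B.IsAlt) (hf : ∀ u v, B (f u) (f v) = B u v)
    (hN : f ^ (Fintype.card F ^ j + 1) = 1) {P : F[X]} (hP : Irreducible P) {w : V}
    (hPw : aeval f P w = 0) (hww : B (f w) w ≠ 0) (hd : 3 ≤ P.natDegree) (T1 T2 : F) :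
    ∃ v, aeval f P v = 0 ∧ B (f v) v = T1 ∧ B (f (f v)) v = T2 := by
  classical
  have : Fact (Irreducible P) := ⟨hP⟩
  have hw0 : w ≠ 0 := by
    rintro rfl
    exact hww (map_zero _)
  -- the annihilator of `w`
  have hann : ∀ a : F[X], aeval f a w = 0 → P ∣ a := by
    intro a ha
    by_contra hcon
    obtain ⟨A, B, hAB⟩ := (hP.coprime_iff_not_dvd (n := a)).2 hcon
    apply hw0
    have := congrArg (fun r => aeval f r w) hAB
    simp only [map_add, LinearMap.add_apply, map_one, Module.End.one_apply, map_mul,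
      Module.End.mul_apply, ha, hPw, map_zero, add_zero] at this
    exact this.symm
  have hker : ∀ a : F[X], P ∣ a → aeval f a w = 0 := by
    rintro _ ⟨b, rfl⟩
    rw [mul_comm, map_mul, Module.End.mul_apply, hPw, map_zero]
  -- the functional
  have hsurj : Function.Surjective (AdjoinRoot.mk P) := AdjoinRoot.mk_surjective
  let rep : AdjoinRoot P → F[X] := Function.surjInv hsurj
  have hrep : ∀ x, AdjoinRoot.mk P (rep x) = x := Function.surjInv_eq hsurj
  have hmk : ∀ a : F[X], aeval f (rep (AdjoinRoot.mk P a)) w = aeval f a w := by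
    intro a
    have h1 : AdjoinRoot.mk P (rep (AdjoinRoot.mk P a) - a) = 0 := by
      rw [map_sub, hrep, sub_self]
    have h2 := hker _ (AdjoinRoot.mk_eq_zero.1 h1)
    rw [map_sub, LinearMap.sub_apply] at h2
    exact sub_eq_zero.1 h2
  let ℓ : AdjoinRoot P →ₗ[F] F :=
    { toFun := fun x => B (aeval f (rep x) w) w
      map_add' := fun x y => by
        have := hmk (rep x + rep y)
        rw [map_add, hrep, hrep, map_add, LinearMap.add_apply] at this
        rw [this, map_add, LinearMap.add_apply]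
      map_smul' := fun c x => by
        have := hmk (c • rep x)
        rw [← AdjoinRoot.smul_mk, hrep, map_smul, LinearMap.smul_apply] at this
        rw [this, RingHom.id_apply, map_smul, LinearMap.smul_apply] }
  have hℓ : ∀ a : F[X], ℓ (AdjoinRoot.mk P a) = B (aeval f a w) w := by
    intro a
    change B (aeval f (rep (AdjoinRoot.mk P a)) w) w = _
    rw [hmk]
  set ρ := AdjoinRoot.root P with hρ
  have hℓρ : ℓ ρ ≠ 0 := by
    have := hℓ X
    rw [AdjoinRoot.mk_X, aeval_X] at this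
    rw [this]
    exact hww
  -- the involution
  let σE : AdjoinRoot P →+* AdjoinRoot P :=
    { toFun := fun x => x ^ Fintype.card F ^ j
      map_one' := one_pow _
      map_mul' := fun x y => mul_pow x y _
      map_zero' := zero_pow (pow_ne_zero _ Fintype.card_ne_zero)
      map_add' := fun x y => add_pow_q j x y }
  have hσE : ∀ x, σE x = x ^ Fintype.card F ^ j := fun _ => rfl
  have hσF : ∀ t : F, σE (algebraMap F _ t) = algebraMap F _ t := by
    intro t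
    rw [hσE, ← map_pow, FiniteField.pow_card_pow]
  have hroot : ρ ^ (Fintype.card F ^ j + 1) = 1 := by
    have h1 : P ∣ X ^ (Fintype.card F ^ j + 1) - 1 := by
      apply hann
      rw [map_sub, map_pow, aeval_X, hN, map_one, sub_self]
      rfl
    have h2 := AdjoinRoot.mk_eq_zero.2 h1
    rw [map_sub, map_pow, AdjoinRoot.mk_X, map_one] at h2
    exact sub_eq_zero.1 h2
  have hρ0 : ρ ≠ 0 := by
    intro h
    rw [h, zero_pow (by omega)] at hroot
    exact zero_ne_one hroot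
  have hσρ : σE ρ = ρ⁻¹ := by
    apply eq_inv_of_mul_eq_one_left
    rw [hσE, ← pow_succ, hroot]
  have hσρ' : σE ρ⁻¹ = ρ := by rw [map_inv₀, hσρ, inv_inv]
  have hσσ : ∀ x, σE (σE x) = x := by
    have h1 : ((σE.comp σE).comp (AdjoinRoot.mk P)) = AdjoinRoot.mk P := by
      apply Polynomial.ringHom_ext
      · intro a
        change σE (σE (AdjoinRoot.mk P (C a))) = _
        rw [AdjoinRoot.mk_C, ← AdjoinRoot.algebraMap_eq, hσF, hσF]
      · change σE (σE (AdjoinRoot.mk P X)) = _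
        rw [AdjoinRoot.mk_X, hσρ, hσρ']
    intro x
    obtain ⟨a, rfl⟩ := hsurj x
    exact RingHom.congr_fun h1 a
  -- independence
  have hli := li_root (P := P) (k := 3) hd
  have hli' : ∀ x y z : F, algebraMap F (AdjoinRoot P) x + algebraMap F _ y * ρ
      + algebraMap F _ z * ρ ^ 2 = 0 → x = 0 ∧ y = 0 ∧ z = 0 := by
    intro x y z h
    have h1 := Fintype.linearIndependent_iff.1 hli ![x, y, z] (by
      rw [Fin.sum_univ_three, ← h]
      simp [Algebra.smul_def, hρ])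
    exact ⟨h1 0, h1 1, h1 2⟩
  have hρ2 : ρ ^ 2 ≠ 1 := by
    intro h
    have := hli' (-1) 0 1 (by rw [h, map_neg, map_one, map_zero]; ring)
    exact one_ne_zero this.2.2
  have hσne : σE ≠ RingHom.id _ := by
    intro h
    apply hρ2
    have h1 := RingHom.congr_fun h ρ
    rw [hσρ, RingHom.id_apply] at h1
    rw [pow_two]
    nth_rw 1 [← h1]
    rw [inv_mul_cancel₀ hρ0]
  have hℓσ : ∀ x, ℓ (σE x) = -ℓ x := by
    intro x
    obtain ⟨a, rfl⟩ := hsurj x
    rw [hσE, ← map_pow, hℓ, hℓ, ← form_aeval' hA hf hN, LinearMap.IsAlt.neg hA]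
  have hρi : ρ⁻¹ * ρ = 1 := inv_mul_cancel₀ hρ0
  have hgli : LinearIndependent F ![ρ - ρ⁻¹, ρ ^ 2 - ρ⁻¹ ^ 2] := by
    rw [Fintype.linearIndependent_iff]
    intro g hg
    rw [Fin.sum_univ_two] at hg
    simp only [Matrix.cons_val_zero, Matrix.cons_val_one, Algebra.smul_def] at hg
    have h1 : ρ - ρ⁻¹ ≠ 0 := by
      intro h
      apply hρ2
      rw [sub_eq_zero] at h
      rw [pow_two]
      nth_rw 1 [h]
      exact hρi
    have h2 : (ρ - ρ⁻¹) * (algebraMap F (AdjoinRoot P) (g 1) + algebraMap F _ (g 0) * ρ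
        + algebraMap F _ (g 1) * ρ ^ 2) = 0 := by
      linear_combination ρ * hg + (algebraMap F _ (g 1) * (ρ⁻¹ * 1 - ρ)) * hρi
    obtain ⟨h3, h4, -⟩ := hli' _ _ _ ((mul_eq_zero.1 h2).resolve_left h1)
    intro i
    fin_cases i
    · exact h4
    · exact h3
  obtain ⟨z, hz⟩ := exists_solve' ℓ hℓρ hgli ![T1, T2]
  have hz1 : ℓ ((ρ - ρ⁻¹) * z) = T1 := hz 0
  have hz2 : ℓ ((ρ ^ 2 - ρ⁻¹ ^ 2) * z) = T2 := hz 1
  set y := z + σE z with hy
  have hσy : σE y = y := by rw [hy, map_add, hσσ, add_comm]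
  have hyk : ∀ k : ℕ, ℓ (ρ ^ k * y) = ℓ ((ρ ^ k - ρ⁻¹ ^ k) * z) := by
    intro k
    have h1 : ρ ^ k * y = ρ ^ k * z + σE (ρ⁻¹ ^ k * z) := by
      rw [map_mul, map_pow, hσρ', hy]
      ring
    rw [h1, map_add, hℓσ, sub_mul, map_sub, sub_eq_add_neg]
  -- the norm equation
  have hfin : Finite (AdjoinRoot P) := by
    have : FiniteDimensional F (AdjoinRoot P) :=
      (AdjoinRoot.powerBasis hP.ne_zero).finite
    exact Module.finite_of_finite F
  obtain ⟨b, hb⟩ : ∃ b, b * σE b = y := by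
    by_cases hy0 : y = 0
    · exact ⟨0, by rw [zero_mul, hy0]⟩
    · obtain ⟨b, -, hb⟩ := ClassicalGeometry.HermWitt.norm_surj σE hσne hσσ y hσy hy0
      exact ⟨b, hb⟩
  obtain ⟨β, rfl⟩ := hsurj b
  have hval : ∀ k : ℕ, B ((f ^ k) (aeval f β w)) (aeval f β w) = ℓ (ρ ^ k * y) := by
    intro k
    rw [form_aeval' hA hf hN, ← hb, hσE]
    have h1 : aeval f (β ^ Fintype.card F ^ j) ((f ^ k) (aeval f β w))
        = aeval f (X ^ k * (β * β ^ Fintype.card F ^ j)) w := by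
      rw [show X ^ k * (β * β ^ Fintype.card F ^ j) = β ^ Fintype.card F ^ j * (X ^ k * β) by ring,
        map_mul, map_mul, map_pow (aeval f) X, aeval_X, Module.End.mul_apply, Module.End.mul_apply]
    rw [h1, ← hℓ]
    congr 1
  refine ⟨aeval f β w, ?_, ?_, ?_⟩
  · rw [← Module.End.mul_apply, ← map_mul, mul_comm, map_mul, Module.End.mul_apply, hPw, map_zero]
  · have h1 := hval 1
    rw [hyk, pow_one, pow_one, pow_one, hz1] at h1
    exact h1
  · have h1 := hval 2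
    rw [hyk, hz2] at h1
    rw [← h1, pow_two]
    rfl

end Cfsg.Agent.H957.T5S
end

-- part: H957/T5Sp3
section
/-!
# Configurations and types of linear isometries of order `p` (T5, row PSp)
-/

set_option autoImplicit false

namespace Cfsg.Agent.H957.T5S

open Cfsg.Agent.H957.T5V Cfsg.Agent.H957.T5Conf Cfsg.Agent.H957.T5Pairs
open Cfsg.Agent.H957.T5U (exists_cyc_factor)
open Polynomial

variable {F V : Type} [Field F] [AddCommGroup V] [Module F V]
variable {B : LinearMap.BilinForm F V} {p : ℕ} {τ : F ≃+* F} {c d : Equiv.Perm V}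

/-- All data are realised. -/
def Dt (B : LinearMap.BilinForm F V) (c : Equiv.Perm V) : Prop :=
  ∀ T1 T2 : F, (T1 ≠ 0 ∨ T2 ≠ 0) → ∃ v, B (c v) v = T1 ∧ B (c (c v)) v = T2 ∧
    LinearIndependent F ![v, c v, c (c v)]

/-- Inputs of configuration R. -/
def RI (B : LinearMap.BilinForm F V) (d : Equiv.Perm V) : Prop :=
  ∃ u0 u1, d u1 = u1 ∧ B u1 u0 = 0 ∧ B u1 (d u0) = 0 ∧ B u0 (d u0) ≠ 0 ∧
    LinearIndependent F ![u1, u0, d u0]

theorem gram3 (hA : B.IsAlt) {a b : Fin 3 → V} (h01 : B (a 0) (a 1) = B (b 0) (b 1))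
    (h02 : B (a 0) (a 2) = B (b 0) (b 2)) (h12 : B (a 1) (a 2) = B (b 1) (b 2)) (i j : Fin 3) :
    B (a i) (a j) = B (b i) (b j) := by
  have h0 : ∀ x, B x x = 0 := hA
  have hs : ∀ x y, B x y = -B y x := fun x y => (LinearMap.IsAlt.neg hA y x).symm
  (revert i j; simp only [Fin.zero_eta, Fin.mk_one, Fin.reduceFinMk, h0, _root_.Fin.forall_fin_succ, Fin.isValue, _root_.Fin.succ_zero_eq_one, _root_.Fin.succ_one_eq_two, _root_.IsEmpty.forall_iff, _root_.and_true, _root_.true_and]) <;> (repeat' with_reducible apply And.intro)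
  · exact h01
  · exact h02
  · rw [hs, h01, ← hs]
  · exact h12
  · rw [hs, h02, ← hs]
  · rw [hs, h12, ← hs]

theorem sp_K [FiniteDimensional F V] (hB : B.Nondegenerate) (hA : B.IsAlt) (hpF : (p : F) ≠ 0)
    (hc : Semi (1 : F ≃+* F) c) (hd : Semi (1 : F ≃+* F) d) (hcB : ∀ u v, B (c u) (c v) = B u v)
    (hdB : ∀ u v, B (d u) (d v) = B u v) (h1 : Dt B c) (h2 : Dt B d) : SP B p c d := by
  obtain ⟨w, w1, w2, hw⟩ := h1 1 0 (Or.inl one_ne_zero)
  obtain ⟨u, u1, u2, hu⟩ := h2 (-1) (-1) (Or.inl (neg_ne_zero.2 one_ne_zero))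
  have hs : ∀ x y, B x y = -B y x := fun x y => (LinearMap.IsAlt.neg hA y x).symm
  have h0 : ∀ x, B x x = 0 := hA
  refine sp_of_family hB hA hd (a := ![u, d u, d (d u)]) (b := ![c (c w), c w, w + c w]) hu ?_
    (gram3 hA ?_ ?_ ?_) ?_
  · rw [li3_iff] at hw ⊢
    intro x y z h
    obtain ⟨h3, h4, h5⟩ := hw z (y + z) x (by rw [← h]; module)
    subst h3
    refine ⟨h5, ?_, rfl⟩
    rwa [add_zero] at h4
  · change B u (d u) = B (c (c w)) (c w)
    rw [hcB, w1, hs, u1, neg_neg]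
  · change B u (d (d u)) = B (c (c w)) (w + c w)
    rw [map_add, hcB, w1, w2, hs, u2, neg_neg, zero_add]
  · change B (d u) (d (d u)) = B (c w) (w + c w)
    rw [map_add, h0, w1, hdB, hs, u1, neg_neg, add_zero]
  · intro d' hd' g hg hgd m
    have e0 : g u = c (c w) := hg 0
    have e1 : g (d u) = c w := hg 1
    have e2 : g (d (d u)) = w + c w := hg 2
    refine not_scal_jordan (hc.mul hd') (v0 := c (c w)) (v1 := c w) ?_ ?_ ?_ (cast_pow_ne hpF m)
    · exact hw.ne_zero 2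
    · rw [Equiv.Perm.mul_apply]
      conv_lhs => rw [← e0, hgd, e1]
    · rw [Equiv.Perm.mul_apply]
      conv_lhs => rw [← e1, hgd, e2, hc.add]

theorem sp_R [FiniteDimensional F V] (hB : B.Nondegenerate) (hA : B.IsAlt) (hpF : (p : F) ≠ 0)
    (hc : Semi (1 : F ≃+* F) c) (hd : Semi τ d) (hcB : ∀ u v, B (c u) (c v) = B u v)
    (h1 : Dt B c) (h2 : RI B d) : SP B p c d := by
  obtain ⟨u0, u1, hu1, n0, n1, hβ, hu⟩ := h2
  obtain ⟨w, w1, w2, hw⟩ := h1 0 (-B u0 (d u0)) (Or.inr (neg_ne_zero.2 hβ))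
  have hs : ∀ x y, B x y = -B y x := fun x y => (LinearMap.IsAlt.neg hA y x).symm
  have h0 : ∀ x, B x x = 0 := hA
  refine sp_of_family hB hA hd (a := ![u1, u0, d u0]) (b := ![c w, c (c w) - c w, c w - w]) hu ?_
    (gram3 hA ?_ ?_ ?_) ?_
  · rw [li3_iff] at hw ⊢
    intro x y z h
    obtain ⟨h3, h4, h5⟩ := hw (-z) (x - y + z) y (by rw [← h]; module)
    have h3' : z = 0 := neg_eq_zero.1 h3
    subst h3' h5
    refine ⟨?_, rfl, rfl⟩
    simpa using h4
  · change B u1 u0 = B (c w) (c (c w) - c w)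
    rw [map_sub, h0, sub_zero, hcB, hs w, w1, n0, neg_zero]
  · change B u1 (d u0) = B (c w) (c w - w)
    rw [map_sub, h0, w1, n1, sub_zero]
  · change B u0 (d u0) = B (c (c w) - c w) (c w - w)
    rw [map_sub, map_sub, LinearMap.sub_apply, LinearMap.sub_apply, hcB, w1, w2, h0]
    ring
  · intro d' hd' g hg hgd m
    have e0 : g u1 = c w := hg 0
    have e1 : g u0 = c (c w) - c w := hg 1
    have e2 : g (d u0) = c w - w := hg 2
    have hne : c (c w) - c w ≠ 0 := by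
      intro h
      rw [li3_iff] at hw
      have := hw 0 (-1) 1 (by rw [← h]; module)
      exact one_ne_zero this.2.2
    refine not_scal_jordan (hc.mul hd') (v0 := c (c w) - c w) (v1 := c w) hne ?_ ?_
      (cast_pow_ne hpF m)
    · rw [Equiv.Perm.mul_apply]
      conv_lhs => rw [← e1, hgd, e2, hc.sub]
    · rw [Equiv.Perm.mul_apply]
      conv_lhs => rw [← e0, hgd, hu1, e0]
      rw [add_sub_cancel]

/-! ### Types of linear isometries -/

/-- Families spanning a given subspace. -/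
theorem gm_of_sub {k : ℕ} {G : Fin k → Fin k → F} {b : Fin k → V} (hb : LinearIndependent F b)
    (hG : ∀ i j, B (b i) (b j) = G i j) {W : Submodule F V}
    (hW : Submodule.span F (Set.range b) = W) (hcW : ∀ w ∈ W, c w ∈ W)
    (hn : ¬ ∃ t : F, ∀ w ∈ W, c w = t • w) : Gm B G c := by
  subst hW
  exact ⟨b, hb, hG, hcW, hn⟩

variable [Fintype F]

omit [AddCommGroup V] [Module F V] in
theorem natDegree_cyc (hp : p.Prime) (hpF : (p : F) ≠ 0)
    {P : F[X]} (hP : Irreducible P) (hd : P ∣ cyclotomic p F) :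
    P.natDegree = orderOf ((Fintype.card F : ℕ) : ZMod p) := by
  obtain ⟨r, hr⟩ := CharP.exists F
  obtain ⟨k, hrp, hk⟩ := FiniteField.card F r
  have : Fact r.Prime := ⟨hrp⟩
  have hcop : r.Coprime p := by
    rw [Nat.coprime_primes hrp hp]
    rintro rfl
    exact hpF (CharP.cast_eq_zero F r)
  rw [Polynomial.natDegree_of_dvd_cyclotomic_of_irreducible hk hcop hd hP, ← orderOf_units,
    ZMod.coe_unitOfCoprime, ← hk]

/-- The hypotheses on a linear element. -/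
structure LI1 (B : LinearMap.BilinForm F V) (p : ℕ) (c : Equiv.Perm V) : Prop where
  semi : Semi (1 : F ≃+* F) c
  form : ∀ u v, B (c u) (c v) = B u v
  cp : c ^ p = 1
  ne : c ≠ 1

omit [Fintype F] in
theorem LI1.get (h : LI1 B p c) : ∃ f : Module.End F V, (∀ v, f v = c v) ∧
    (∀ m v, (f ^ m) v = (c ^ m) v) ∧ (∀ u v, B (f u) (f v) = B u v) ∧ f ^ p = 1 ∧ f ≠ 1 := by
  obtain ⟨f, hf, -⟩ := exists_end h.semi
  refine ⟨(f : Module.End F V), hf, pow_end hf, ?_, ?_, ?_⟩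
  · intro u v
    change B (f u) (f v) = _
    rw [hf, hf, h.form]
  · refine LinearMap.ext fun v => ?_
    rw [pow_end hf, h.cp]
    rfl
  · intro h1
    apply h.ne
    ext1 v
    rw [← hf]
    exact LinearMap.congr_fun h1 v

/-- `p ∣ q - 1`. -/
theorem gm_split [FiniteDimensional F V] (hB : B.Nondegenerate) (hp : p.Prime) (hp2 : p ≠ 2)
    (hpq : p ∣ Fintype.card F - 1) (h : LI1 B p c) (hA : B.IsAlt) : Gm B hyp c := by
  have : Fact p.Prime := ⟨hp⟩
  obtain ⟨f, hf, hfm, hfB, hfp, hf1⟩ := h.get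
  obtain ⟨b, η, hb⟩ := Cfsg.Agent.H957.T5Lin.exists_eigenbasis (κ := Fin (Module.finrank F V))
    (by rw [Nat.card_eq_fintype_card]; exact hpq) one_ne_zero
    (f := f) (p := p) (by rw [hfp, one_pow, one_smul]) (Fintype.card_fin _)
  obtain ⟨i, hi⟩ : ∃ i, η i ≠ 1 := by
    by_contra hcon
    push Not at hcon
    apply hf1
    refine b.ext fun i => ?_
    rw [hb, hcon, one_smul]
    rfl
  obtain ⟨j, hj⟩ : ∃ j, B (b i) (b j) ≠ 0 := by
    by_contra hcon
    push Not at hcon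
    have h1 : B (b i) = 0 := b.ext fun j => by rw [hcon]; rfl
    exact b.ne_zero i (hB.1 _ fun y => by rw [h1]; rfl)
  have hij : η i * η j = 1 := by
    have h1 := hfB (b i) (b j)
    rw [hb, hb, map_smul, map_smul, LinearMap.smul_apply, smul_eq_mul, smul_eq_mul] at h1
    have h2 : (η i * η j - 1) * B (b i) (b j) = 0 := by linear_combination h1
    exact sub_eq_zero.1 ((mul_eq_zero.1 h2).resolve_right hj)
  have hpi : η i ^ p = 1 := by
    have h1 : ∀ m : ℕ, (f ^ m) (b i) = η i ^ m • b i := by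
      intro m
      induction m with
      | zero => simp
      | succ m ih =>
        rw [pow_succ', Module.End.mul_apply, ih, map_smul, hb, smul_smul, pow_succ]
    have h2 := h1 p
    rw [hfp] at h2
    have h3 : (η i ^ p - 1) • b i = 0 := by rw [sub_smul, one_smul, ← h2, Module.End.one_apply,
      sub_self]
    exact sub_eq_zero.1 ((smul_eq_zero.1 h3).resolve_right (b.ne_zero i))
  have hne : η i ≠ η j := by
    intro h1
    apply hi
    rw [← h1] at hij
    obtain ⟨k, hk⟩ := hp.odd_of_ne_two hp2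
    rw [hk, pow_succ, pow_mul, pow_two, hij, one_pow, one_mul] at hpi
    exact hpi
  set s := B (b i) (b j) with hs
  have hspan : ∀ w ∈ Submodule.span F (Set.range ![s⁻¹ • b i, b j]),
      ∃ x y : F, w = x • b i + y • b j := by
    intro w hw
    induction hw using Submodule.span_induction with
    | mem w hw =>
      obtain ⟨k, rfl⟩ := hw
      fin_cases k
      · exact ⟨s⁻¹, 0, by simp⟩
      · exact ⟨0, 1, by simp⟩
    | zero => exact ⟨0, 0, by simp⟩
    | add w w' _ _ h h' =>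
      obtain ⟨x, y, rfl⟩ := h
      obtain ⟨x', y', rfl⟩ := h'
      exact ⟨x + x', y + y', by module⟩
    | smul a w _ h =>
      obtain ⟨x, y, rfl⟩ := h
      exact ⟨a * x, a * y, by module⟩
  have hmem1 : b i ∈ Submodule.span F (Set.range ![s⁻¹ • b i, b j]) := by
    have h1 : s⁻¹ • b i ∈ Submodule.span F (Set.range ![s⁻¹ • b i, b j]) :=
      Submodule.subset_span ⟨0, rfl⟩
    have h2 := Submodule.smul_mem _ s h1
    rwa [smul_smul, mul_inv_cancel₀ hj, one_smul] at h2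
  have hmem2 : b j ∈ Submodule.span F (Set.range ![s⁻¹ • b i, b j]) :=
    Submodule.subset_span ⟨1, rfl⟩
  have h0 : ∀ x, B x x = 0 := hA
  have hsw : ∀ x y, B x y = -B y x := fun x y => (LinearMap.IsAlt.neg hA y x).symm
  have hbij : i ≠ j := by
    rintro rfl
    exact hne rfl
  refine ⟨![s⁻¹ • b i, b j], ?_, ?_, ?_, ?_⟩
  · rw [li2_iff]
    intro x y hxy
    have h1 := congrArg (fun v => B v (b j)) hxy
    have h2 := congrArg (fun v => B (b i) v) hxy
    simp only [map_add, map_smul, LinearMap.add_apply, LinearMap.smul_apply, smul_eq_mul, h0,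
      ← hs, map_zero, LinearMap.zero_apply, mul_zero, add_zero, zero_add] at h1 h2
    rw [inv_mul_cancel₀ hj, mul_one] at h1
    exact ⟨h1, (mul_eq_zero.1 h2).resolve_right hj⟩
  · intro k l
    fin_cases k <;> fin_cases l <;> simp only [Fin.zero_eta, Fin.mk_one, hyp,
      Matrix.cons_val_zero, Matrix.cons_val_one, h0]
    · rw [map_smul, LinearMap.smul_apply, ← hs, smul_eq_mul, inv_mul_cancel₀ hj]
    · rw [map_smul, hsw, ← hs, smul_eq_mul, mul_neg, inv_mul_cancel₀ hj]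
  · intro w hw
    obtain ⟨x, y, rfl⟩ := hspan w hw
    rw [← hf, map_add, map_smul, map_smul, hb, hb]
    exact Submodule.add_mem _ (Submodule.smul_mem _ _ (Submodule.smul_mem _ _ hmem1))
      (Submodule.smul_mem _ _ (Submodule.smul_mem _ _ hmem2))
  · rintro ⟨t, ht⟩
    have h1 := ht _ hmem1
    have h2 := ht _ hmem2
    rw [← hf, hb] at h1 h2
    have e1 : (η i - t) • b i = 0 := by rw [sub_smul, h1, sub_self]
    have e2 : (η j - t) • b j = 0 := by rw [sub_smul, h2, sub_self]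
    have e3 := sub_eq_zero.1 ((smul_eq_zero.1 e1).resolve_right (b.ne_zero i))
    have e4 := sub_eq_zero.1 ((smul_eq_zero.1 e2).resolve_right (b.ne_zero j))
    exact hne (e3.trans e4.symm)

end Cfsg.Agent.H957.T5S
end

-- part: H957/T5Sp4
section
/-!
# Types of linear isometries of order `p` by the order of `q` modulo `p` (T5, row PSp)
-/

set_option autoImplicit false

namespace Cfsg.Agent.H957.T5S

open Cfsg.Agent.H957.T5V Cfsg.Agent.H957.T5Conf Cfsg.Agent.H957.T5Pairs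
open Cfsg.Agent.H957.T5U (exists_cyc_factor)
open Cfsg.Agent.H957.InvU (blk mem_blk blk_inv self_mem_blk aeval_blk blk_irr finrank_blk)
open Polynomial

variable {F V : Type} [Field F] [AddCommGroup V] [Module F V]
variable {B : LinearMap.BilinForm F V} {p : ℕ} {τ : F ≃+* F} {c d : Equiv.Perm V}

theorem li3_of_irr {f : Module.End F V} {P : F[X]} (hirr : Irreducible P) {v : V}
    (hPv : aeval f P v = 0) (hv0 : v ≠ 0) (h3 : 3 ≤ P.natDegree) :
    LinearIndependent F ![v, f v, f (f v)] := by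
  rw [li3_iff]
  intro x y z h
  let R : F[X] := C x + C y * X + C z * X ^ 2
  have hR : aeval f R v = 0 := by
    rw [← h]
    simp only [R, map_add, map_mul, aeval_C, aeval_X, LinearMap.add_apply,
      Module.End.mul_apply, Module.algebraMap_end_apply, pow_two]
  have hdvd : P ∣ R := by
    by_contra hcon
    obtain ⟨A, B, hAB⟩ := (hirr.coprime_iff_not_dvd (n := R)).2 hcon
    apply hv0
    have := congrArg (fun r => aeval f r v) hAB
    simp only [map_add, LinearMap.add_apply, map_one, Module.End.one_apply, map_mul,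
      Module.End.mul_apply, hR, hPv, map_zero, add_zero] at this
    exact this.symm
  have hdeg : R.degree < P.degree := by
    rw [Polynomial.degree_eq_natDegree hirr.ne_zero]
    have h4 : R.degree ≤ 2 := by
      have : R = C z * X ^ 2 + C y * X + C x := by simp only [R]; ring
      rw [this]
      exact degree_quadratic_le
    exact lt_of_le_of_lt h4 (by exact_mod_cast (show 2 < P.natDegree by omega))
  have hR0 : R = 0 := eq_zero_of_dvd_of_degree_lt hdvd hdeg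
  refine ⟨?_, ?_, ?_⟩
  · have := congrArg (fun r => coeff r 0) hR0
    simpa [R] using this
  · have := congrArg (fun r => coeff r 1) hR0
    simpa [R, coeff_X, coeff_C] using this
  · have := congrArg (fun r => coeff r 2) hR0
    simpa [R, coeff_X, coeff_C] using this

theorem dvd_of_even {q : ℕ} (hp : p.Prime) {k : ℕ} (hk : 0 < k)
    (he : orderOf (q : ZMod p) = 2 * k) : p ∣ q ^ k + 1 := by
  have : Fact p.Prime := ⟨hp⟩
  rw [← ZMod.natCast_eq_zero_iff]
  push_cast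
  have h1 : ((q : ZMod p) ^ k) ^ 2 = 1 := by
    rw [← pow_mul, mul_comm, ← he, pow_orderOf_eq_one]
  have h2 : (q : ZMod p) ^ k ≠ 1 := by
    intro h
    have := Nat.le_of_dvd hk (orderOf_dvd_of_pow_eq_one h)
    omega
  have h3 : ((q : ZMod p) ^ k - 1) * ((q : ZMod p) ^ k + 1) = 0 := by linear_combination h1
  exact (mul_eq_zero.1 h3).resolve_left (sub_ne_zero.2 h2)

variable [Fintype F]

/-- `orderOf q = 2`. -/
theorem gm_two [FiniteDimensional F V] (hB : B.Nondegenerate) (hA : B.IsAlt) (hp : p.Prime)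
    (hp2 : p ≠ 2) (hpF : (p : F) ≠ 0) (he : orderOf ((Fintype.card F : ℕ) : ZMod p) = 2)
    (h : LI1 B p c) : Gm B hyp c := by
  obtain ⟨f, hf, hfm, hfB, hfp, hf1⟩ := h.get
  obtain ⟨P, hP, hPd, u, hu, hPu⟩ := exists_cyc_factor hp hfp hf1
  have hdeg : P.natDegree = 2 := (natDegree_cyc hp hpF hP hPd).trans he
  obtain ⟨m, hm⟩ := dvd_of_even hp one_pos he
  obtain ⟨w, hPw, hww⟩ := exists_w (j := 1) hB hA hfB (by rw [hm, pow_mul, hfp, one_pow]) hp hp2
    hpF hfp hPd hu hPu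
  have hw0 : w ≠ 0 := by
    rintro rfl
    exact hww (map_zero _)
  have h0 : ∀ x, B x x = 0 := hA
  have hsw : ∀ x y, B x y = -B y x := fun x y => (LinearMap.IsAlt.neg hA y x).symm
  set s := B (f w) w with hs
  have hli : LinearIndependent F ![s⁻¹ • f w, w] := by
    rw [li2_iff]
    intro x y hxy
    have h1 := congrArg (fun v => B v w) hxy
    have h2 := congrArg (fun v => B (f w) v) hxy
    simp only [map_add, map_smul, LinearMap.add_apply, LinearMap.smul_apply, smul_eq_mul, h0,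
      ← hs, map_zero, LinearMap.zero_apply, mul_zero, add_zero, zero_add] at h1 h2
    rw [inv_mul_cancel₀ hww, mul_one] at h1
    exact ⟨h1, (mul_eq_zero.1 h2).resolve_right hww⟩
  refine gm_of_sub hli ?_ (W := blk f w) ?_ (fun v hv => by rw [← hf]; exact blk_inv hv) ?_
  · intro k l
    fin_cases k <;> fin_cases l <;> simp only [Fin.zero_eta, Fin.mk_one, hyp,
      Matrix.cons_val_zero, Matrix.cons_val_one, h0]
    · rw [map_smul, LinearMap.smul_apply, ← hs, smul_eq_mul, inv_mul_cancel₀ hww]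
    · rw [map_smul, hsw, ← hs, smul_eq_mul, mul_neg, inv_mul_cancel₀ hww]
  · apply Submodule.eq_of_le_of_finrank_eq
    · rw [Submodule.span_le]
      rintro _ ⟨k, rfl⟩
      fin_cases k
      · exact Submodule.smul_mem _ _ (blk_inv self_mem_blk)
      · exact self_mem_blk
    · rw [finrank_span_eq_card hli, Fintype.card_fin, finrank_blk hP hPw hw0, hdeg]
  · rintro ⟨t, ht⟩
    have h1 := ht w self_mem_blk
    apply hww
    rw [hs, hf, h1, map_smul, LinearMap.smul_apply, h0, smul_zero]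

/-- `orderOf q` is odd and at least three. -/
theorem gm_odd [FiniteDimensional F V] (hA : B.IsAlt) (hp : p.Prime)
    (hpF : (p : F) ≠ 0) {e : ℕ} (he : orderOf ((Fintype.card F : ℕ) : ZMod p) = e)
    (heo : Odd e) (he3 : 3 ≤ e) (h : LI1 B p c) : Gm B (fun _ _ : Fin e => 0) c := by
  obtain ⟨f, hf, hfm, hfB, hfp, hf1⟩ := h.get
  obtain ⟨P, hP, hPd, w, hw, hPw⟩ := exists_cyc_factor hp hfp hf1
  have hdeg : P.natDegree = e := (natDegree_cyc hp hpF hP hPd).trans he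
  have hfin : Module.finrank F (blk f w) = e := by rw [finrank_blk hP hPw hw, hdeg]
  have h0 : ∀ x, B x x = 0 := hA
  have hsw : ∀ x y, B x y = -B y x := fun x y => (LinearMap.IsAlt.neg hA y x).symm
  -- the radical
  let R : Submodule F V :=
    { carrier := {u | u ∈ blk f w ∧ ∀ v ∈ blk f w, B u v = 0}
      add_mem' := fun {a b} ha hb => ⟨Submodule.add_mem _ ha.1 hb.1, fun v hv => by
        rw [map_add, LinearMap.add_apply, ha.2 v hv, hb.2 v hv, add_zero]⟩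
      zero_mem' := ⟨Submodule.zero_mem _, fun v _ => by rw [map_zero]; rfl⟩
      smul_mem' := fun a u hu => ⟨Submodule.smul_mem _ _ hu.1, fun v hv => by
        rw [map_smul, LinearMap.smul_apply, hu.2 v hv, smul_zero]⟩ }
  have hpw : ∀ m v, v ∈ blk f w → (f ^ m) v ∈ blk f w := by
    intro m
    induction m with
    | zero => intro v hv; exact hv
    | succ m ih => intro v hv; rw [pow_succ']; exact blk_inv (ih v hv)
  have hRf : ∀ u ∈ R, f u ∈ R := by
    rintro u ⟨hu, hu'⟩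
    refine ⟨blk_inv hu, fun v hv => ?_⟩
    have h1 : v = f ((f ^ (p - 1)) v) := by
      have h2 : f ((f ^ (p - 1)) v) = (f ^ (p - 1 + 1)) v := by rw [pow_succ']; rfl
      rw [h2, Nat.sub_add_cancel hp.pos, hfp]
      rfl
    rw [h1, hfB]
    exact hu' _ (hpw _ _ hv)
  have hTI : ∀ u ∈ blk f w, ∀ v ∈ blk f w, B u v = 0 := by
    rcases blk_irr hP hPw hRf (fun u hu => hu.1) with hR | hR
    · exfalso
      have hFrm : Cfsg.Agent.H951.Frm (RingHom.id F) (-1 : F) (fun u v => B u v) :=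
        { add_left := fun u v w => by rw [map_add, LinearMap.add_apply]
          smul_left := fun a u v => by rw [map_smul, LinearMap.smul_apply, smul_eq_mul]
          herm := fun u v => by rw [hsw v u, neg_one_mul, RingHom.id_apply]
          sigma_sq := fun a => rfl
          eps_ne := neg_ne_zero.2 one_ne_zero }
      have h1 := Cfsg.Agent.H951.even_finrank_of_alt hFrm h0 (U := blk f w) (by
        intro u hu hu0
        by_contra hcon
        push Not at hcon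
        have : u ∈ R := ⟨hu, hcon⟩
        rw [hR, Submodule.mem_bot] at this
        exact hu0 this)
      rw [hfin] at h1
      exact (Nat.not_even_iff_odd.2 heo) h1
    · intro u hu
      rw [← hR] at hu
      exact hu.2
  let b := Module.finBasisOfFinrankEq F (blk f w) hfin
  have hli : LinearIndependent F (fun i => (b i : V)) :=
    b.linearIndependent.map' (blk f w).subtype (Submodule.ker_subtype _)
  refine gm_of_sub hli (fun i j => hTI _ (b i).2 _ (b j).2) (W := blk f w) ?_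
    (fun v hv => by rw [← hf]; exact blk_inv hv) ?_
  · apply Submodule.eq_of_le_of_finrank_eq
    · rw [Submodule.span_le]
      rintro _ ⟨k, rfl⟩
      exact (b k).2
    · rw [finrank_span_eq_card hli, Fintype.card_fin, hfin]
  · rintro ⟨t, ht⟩
    have h1 := ht w self_mem_blk
    rw [← hf] at h1
    have h2 := li3_of_irr hP hPw hw (by rw [hdeg]; exact he3)
    rw [li3_iff] at h2
    have h3 := h2 (-t) 1 0 (by rw [h1]; module)
    exact one_ne_zero h3.2.1

/-- `orderOf q` is even and at least four. -/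
theorem dt_even (hB : B.Nondegenerate) (hA : B.IsAlt) (hp : p.Prime)
    (hp2 : p ≠ 2) (hpF : (p : F) ≠ 0) {k : ℕ} (hk : 2 ≤ k)
    (he : orderOf ((Fintype.card F : ℕ) : ZMod p) = 2 * k) (h : LI1 B p c) : Dt B c := by
  obtain ⟨f, hf, hfm, hfB, hfp, hf1⟩ := h.get
  obtain ⟨P, hP, hPd, u, hu, hPu⟩ := exists_cyc_factor hp hfp hf1
  have hdeg : P.natDegree = 2 * k := (natDegree_cyc hp hpF hP hPd).trans he
  obtain ⟨m, hm⟩ := dvd_of_even hp (by omega) he
  have hN : f ^ (Fintype.card F ^ k + 1) = 1 := by rw [hm, pow_mul, hfp, one_pow]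
  obtain ⟨w, hPw, hww⟩ := exists_w (j := k) hB hA hfB hN hp hp2 hpF hfp hPd hu hPu
  intro T1 T2 hT
  obtain ⟨v, hPv, h1, h2⟩ := data hA hfB hN hP hPw hww (by omega) T1 T2
  have hv0 : v ≠ 0 := by
    rintro rfl
    rw [map_zero] at h1 h2
    rcases hT with hT | hT
    · exact hT h1.symm
    · exact hT h2.symm
  have h3 := li3_of_irr hP hPv hv0 (by omega)
  simp only [hf] at h1 h2 h3
  exact ⟨v, h1, h2, h3⟩

end Cfsg.Agent.H957.T5S
end

private theorem dce_c7735b755a8f : _root_.True := by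
  try have : _root_.True := by simp only [_root_.Cfsg.Agent.H957.T5S.hyp.eq_1]
  exact _root_.True.intro
end

-- part: H862/T5/LevPair
section
set_option linter.all false
open scoped Cfsg.Agent.FastGrp

/-!
# Own characteristic pairs through sections of Levi subgroups (helper862)

`f : J ↪ I` a connected subdiagram, `HL f = ⟨X x | x supported on J⟩` perfect, `T` commutative:
* `mpair_of_levi`, `spair_of_levi` : `NT c (f i)`, `NT d (f j)` and the middle (strong) row of `HL f / Z` give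
  `MPair p ⊤ c d` (`SPair p ⊤ c d`);
* `card_lt` : `|HL f / Z| < |Y|` if the subdiagram is proper.
-/

set_option autoImplicit false
set_option linter.unusedSectionVars false

namespace Cfsg.Agent.H862.T5.LevPair

open CoxeterSystem Cfsg.Agent.ChevalleyStructure.CoxeterGeom Cfsg.Agent.Tits.Roots Cfsg.Agent.Tits.Core
  Cfsg.Agent.Tits.RootComb Cfsg.Agent.Tits.Exchange Cfsg.Agent.Nodes.Reps Cfsg.Agent.Nodes.BNOf
  Cfsg.Agent.Nodes.StabComb Cfsg.Agent.Nodes.Bruhat Cfsg.Agent.Nodes.OppDec Cfsg.Agent.Nodes.LeviDec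
  Cfsg.Agent.Nodes.RGDLib Cfsg.Agent.Nodes.SubComb Cfsg.Agent.Nodes.Sub Cfsg.Agent.GenExc
  Cfsg.Agent.H798.T5Geo Cfsg.Agent.H957.T5M Cfsg.Agent.H533.T5

variable {I W Y : Type*} [Fintype I] [DecidableEq I] [Group W] [Group Y] {M : CoxeterMatrix I}
  {cs : CoxeterSystem M W} {A : I → I → ℤ} {h : IsCartan M A} {p : ℕ} {T : Subgroup Y} {n : I → Y}
  {X : (I → ℤ) → Subgroup Y} {J : Type*} [Fintype J] [DecidableEq J] (f : J ↪ I)

theorem LR_eq (cs : CoxeterSystem M W) (h : IsCartan M A) : LR cs h f = RootsJ cs h (Set.range f) := by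
  ext x
  constructor
  · rintro ⟨h1, h2⟩
    exact ⟨h1, fun k hk => h2 k fun j hj => hk ⟨j, hj⟩⟩
  · rintro ⟨h1, h2⟩
    refine ⟨h1, fun k hk => h2 k ?_⟩
    rintro ⟨j, hj⟩
    exact hk j hj

theorem HL_le_LJ : HL cs h X f ≤ LJ cs h T X (Set.range f) := by
  unfold HL
  rw [LR_eq]
  exact le_sup_right

variable (R : RGD cs h p T n X)

include R in
theorem HL_le_norm : HL cs h X f ≤ Subgroup.normalizer (VJ cs h X (Set.range f) : Set Y) :=
  (HL_le_LJ f).trans (LJ_le_normalizer_VJ R _)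

/-- `⟨X x | x ∈ J⟩ V_J` -/
def OL (cs : CoxeterSystem M W) (h : IsCartan M A) (X : (I → ℤ) → Subgroup Y) (f : J ↪ I) : Subgroup Y :=
  HL cs h X f ⊔ VJ cs h X (Set.range f)

theorem OL_le_PJ : OL cs h X f ≤ PJ cs h T X (Set.range f) :=
  sup_le ((HL_le_LJ f).trans LJ_le_PJ) VJ_le_PJ

theorem U_le_OL : RGD.Sup X (RGD.Pos cs h) ≤ OL cs h X f := by
  refine RGD.Sup_le fun x hx => ?_
  rcases mem_PosJ_or_NotJ (Set.range f) hx.1 hx.2 with h1 | h1
  · refine le_trans (X_le_HL f ?_) le_sup_left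
    rw [LR_eq]
    exact PosJ_subset _ h1
  · exact (RGD.le_Sup (S := NotJ cs h (Set.range f)) h1).trans le_sup_right

include R in
theorem mem_OL {o : Y} : o ∈ OL cs h X f ↔ ∃ l ∈ HL cs h X f, ∃ v ∈ VJ cs h X (Set.range f), o = l * v := by
  constructor
  · intro ho
    have h2 : o ∈ ((HL cs h X f ⊔ VJ cs h X (Set.range f) : Subgroup Y) : Set Y) := ho
    rw [Subgroup.coe_mul_of_left_le_normalizer_right _ _ (HL_le_norm f R)] at h2
    obtain ⟨l, hl, v, hv, rfl⟩ := h2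
    exact ⟨l, hl, v, hv, rfl⟩
  · rintro ⟨l, hl, v, hv, rfl⟩
    exact mul_mem (Subgroup.mem_sup_left hl) (Subgroup.mem_sup_right hv)

include R in
/-- The projection of `OL` onto `HL`. -/
theorem exists_proj [Finite W] : ∃ π : ↥(OL cs h X f) →* ↥(HL cs h X f),
    Function.Surjective π ∧
      ∀ (l : Y) (hl : l ∈ HL cs h X f) (v : Y) (hv : v ∈ VJ cs h X (Set.range f)) (ho : l * v ∈ OL cs h X f),
        π ⟨l * v, ho⟩ = ⟨l, hl⟩ := by
  obtain ⟨π, h1, h2⟩ := Cfsg.Agent.H53.HC.exists_projL R (Set.range f)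
  have key : ∀ (l : Y) (hl : l ∈ HL cs h X f) (v : Y) (hv : v ∈ VJ cs h X (Set.range f))
      (ho : l * v ∈ OL cs h X f), (π ⟨l * v, OL_le_PJ f ho⟩ : Y) = l := by
    intro l hl v hv ho
    have e : (⟨l * v, OL_le_PJ f ho⟩ : ↥(PJ cs h T X (Set.range f))) =
        ⟨l, LJ_le_PJ (HL_le_LJ f hl)⟩ * ⟨v, VJ_le_PJ hv⟩ := rfl
    rw [e, map_mul, h1 l (HL_le_LJ f hl), h2 v hv, mul_one]
  have hmem : ∀ o : ↥(OL cs h X f), (π ⟨o, OL_le_PJ f o.2⟩ : Y) ∈ HL cs h X f := by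
    rintro ⟨o, ho⟩
    obtain ⟨l, hl, v, hv, rfl⟩ := (mem_OL f R).1 ho
    rw [key l hl v hv ho]
    exact hl
  refine ⟨{ toFun := fun o => ⟨π ⟨o, OL_le_PJ f o.2⟩, hmem o⟩
            map_one' := ?_
            map_mul' := ?_ }, ?_, ?_⟩
  · apply Subtype.ext
    have e : (⟨((1 : ↥(OL cs h X f)) : Y), OL_le_PJ f (1 : ↥(OL cs h X f)).2⟩ : ↥(PJ cs h T X (Set.range f))) = 1 := rfl
    show ((π _ : ↥(LJ cs h T X (Set.range f))) : Y) = 1
    rw [e, map_one]; rfl
  · intro a b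
    apply Subtype.ext
    have e : (⟨((a * b : ↥(OL cs h X f)) : Y), OL_le_PJ f (a * b).2⟩ : ↥(PJ cs h T X (Set.range f))) =
      ⟨a, OL_le_PJ f a.2⟩ * ⟨b, OL_le_PJ f b.2⟩ := rfl
    show ((π _ : ↥(LJ cs h T X (Set.range f))) : Y) = _
    rw [e, map_mul]; rfl
  · rintro ⟨l, hl⟩
    have ho : l * 1 ∈ OL cs h X f := mul_mem (Subgroup.mem_sup_left hl) (one_mem _)
    refine ⟨⟨l * 1, ho⟩, Subtype.ext ?_⟩
    exact key l hl 1 (one_mem _) ho
  · intro l hl v hv ho
    exact Subtype.ext (key l hl v hv ho)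

include R in
/-- **The section** `HL f / Z`, acting on itself by conjugation. -/
theorem exists_section [Finite W] [Finite Y] [Nonempty J] [Fact p.Prime] (hn : ∀ j, n (f j) ∈ HL cs h X f)
    (hconn : ∀ S : Set J, S.Nonempty → S ≠ Set.univ → ∃ a ∈ S, ∃ b, b ∉ S ∧ M (f a) (f b) ≠ 2)
    (hT : ∀ a ∈ T, ∀ b ∈ T, a * b = b * a) (hperf : ∀ x ∈ LR cs h f, X x ≤ ⁅HL cs h X f, HL cs h X f⁆) :
    ∃ Φ : ↥(OL cs h X f) →* MulAut (↥(HL cs h X f) ⧸ Subgroup.center ↥(HL cs h X f)),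
      (MulAut.conj : (↥(HL cs h X f) ⧸ Subgroup.center ↥(HL cs h X f)) →* MulAut _).range ≤
        ((⊤ : Subgroup Y).subgroupOf (OL cs h X f)).map Φ ∧
      ∀ (c : Y) (hc : c ∈ RGD.Sup X (RGD.Pos cs h)) (i : J), c ∉ VJ cs h X {f i} → Φ ⟨c, U_le_OL f hc⟩ ≠ 1 := by
  have : Finite (leviMatrix f M).Group := finite_WL (cs := cs) (h := h) f
  have R' := rgd_HL f R hn
  have hZT := center_le_T R' (G1_HL_top f) hconn (solvable_T f hT) (perfect_HL f hperf)
  have hq : Cfsg.IsQuasisimple ↥(HL cs h X f) := isQuasisimple_HL f R hn hconn hT hperf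
  obtain ⟨π, hs, hπ⟩ := exists_proj f R
  set Z := Subgroup.center ↥(HL cs h X f) with hZ
  set S := ↥(HL cs h X f) ⧸ Z with hS
  have hsimp : IsSimpleGroup S := hq.2
  have hcen : Subgroup.center S = ⊥ := by
    rcases (inferInstance : (Subgroup.center S).Normal).eq_bot_or_eq_top with h1 | h1
    · exact h1
    · exfalso
      have h2 : commutator S = ⊥ := by
        rw [commutator_def, Subgroup.commutator_eq_bot_iff_le_centralizer]
        rw [← h1]
        exact Subgroup.center_le_centralizer _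
      have h3 : commutator S = ⊤ := by
        have h4 : commutator ↥(HL cs h X f) = ⊤ := perfect_HL f hperf
        have h5 := congrArg (Subgroup.map (QuotientGroup.mk' Z)) h4
        rw [map_commutator_eq, MonoidHom.range_eq_top.2 (QuotientGroup.mk'_surjective Z),
          Subgroup.map_top_of_surjective _ (QuotientGroup.mk'_surjective Z)] at h5
        exact h5
      rw [h2] at h3
      exact bot_ne_top h3
  let Φ : ↥(OL cs h X f) →* MulAut S := (MulAut.conj : S →* MulAut S).comp ((QuotientGroup.mk' Z).comp π)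
  refine ⟨Φ, ?_, ?_⟩
  · rintro _ ⟨s, rfl⟩
    obtain ⟨x, rfl⟩ := QuotientGroup.mk'_surjective Z s
    obtain ⟨o, rfl⟩ := hs x
    exact ⟨o, by simp, rfl⟩
  · intro c hc1 i hc2
    obtain ⟨l, hl, v, hv, rfl⟩ := (mem_OL f R).1 (U_le_OL f hc1)
    have hp1 : IsPGroup p (Subgroup.zpowers (l * v)) := R.isPGroup_Upos.to_le (by
      rw [Subgroup.zpowers_le]; exact hc1)
    obtain ⟨m, hm⟩ := (IsPGroup.iff_orderOf.1 hp1) ⟨l * v, Subgroup.mem_zpowers _⟩
    rw [← Subgroup.orderOf_coe] at hm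
    change orderOf (l * v) = p ^ m at hm
    set o : ↥(OL cs h X f) := ⟨l * v, U_le_OL f hc1⟩ with ho
    have hoo : orderOf o = p ^ m := by rw [← Subgroup.orderOf_coe]; exact hm
    intro h1
    have h2 : (QuotientGroup.mk' Z) (π o) ∈ Subgroup.center S := by
      rw [Subgroup.mem_center_iff]
      intro s
      have h3 : (MulAut.conj ((QuotientGroup.mk' Z) (π o)) : MulAut S) s = s := by
        have h4 : MulAut.conj ((QuotientGroup.mk' Z) (π o)) = (1 : MulAut S) := h1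
        rw [h4]; rfl
      rw [MulAut.conj_apply, mul_inv_eq_iff_eq_mul] at h3
      exact h3.symm
    rw [hcen, Subgroup.mem_bot] at h2
    have h3 : π o ∈ Z := (QuotientGroup.eq_one_iff _).1 h2
    have h4 := hZT h3
    rw [Subgroup.mem_subgroupOf] at h4
    have h5 : π o = ⟨l, hl⟩ := hπ l hl v hv _
    have h6 : orderOf (π o) ∣ p ^ m := by rw [← hoo]; exact orderOf_map_dvd π o
    have h7 : orderOf (⟨((π o : ↥(HL cs h X f)) : Y), h4⟩ : T) ∣ Nat.card T := orderOf_dvd_natCard _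
    rw [← Subgroup.orderOf_coe] at h7
    change orderOf ((π o : ↥(HL cs h X f)) : Y) ∣ Nat.card T at h7
    rw [Subgroup.orderOf_coe] at h7
    have h8 : orderOf (π o) = 1 :=
      Nat.eq_one_of_dvd_coprimes (Nat.Coprime.pow_right m R.tcop) h7 h6
    rw [orderOf_eq_one_iff, h5] at h8
    have h9 : l = 1 := congrArg Subtype.val h8
    apply hc2
    rw [h9, one_mul]
    exact H798.T5Root.V_anti (by rintro _ rfl; exact ⟨i, rfl⟩) hv

include R in
/-- **The section argument.** -/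
theorem mpair_of_levi [Finite W] [Finite Y] [Nonempty J] [Fact p.Prime] (hn : ∀ j, n (f j) ∈ HL cs h X f)
    (hconn : ∀ S : Set J, S.Nonempty → S ≠ Set.univ → ∃ a ∈ S, ∃ b, b ∉ S ∧ M (f a) (f b) ≠ 2)
    (hT : ∀ a ∈ T, ∀ b ∈ T, a * b = b * a) (hperf : ∀ x ∈ LR cs h f, X x ≤ ⁅HL cs h X f, HL cs h X f⁆)
    (hrow : MRow p (↥(HL cs h X f) ⧸ Subgroup.center ↥(HL cs h X f)))
    {c d : Y} {i j : J} (hc : NT cs h X c (f i)) (hd : NT cs h X d (f j)) : MPair p (⊤ : Subgroup Y) c d := by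
  obtain ⟨g, hc1, hc2⟩ := hc
  obtain ⟨g', hd1, hd2⟩ := hd
  refine MPair.conj_left (s := g) (Subgroup.mem_top _) (MPair.conj_right (s := g') (Subgroup.mem_top _) ?_)
  generalize g * c * g⁻¹ = c at hc1 hc2
  generalize g' * d * g'⁻¹ = d at hd1 hd2
  obtain ⟨Φ, hΦ, hne⟩ := exists_section f R hn hconn hT hperf
  have key : ∀ (c : Y) (hc1 : c ∈ RGD.Sup X (RGD.Pos cs h)) (i : J), c ∉ VJ cs h X {f i} →
      ∃ a : ℕ, orderOf (Φ (⟨c, U_le_OL f hc1⟩ ^ a)) = p := by
    intro c hc1 i hc2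
    have hp1 : IsPGroup p (Subgroup.zpowers c) := R.isPGroup_Upos.to_le (by
      rw [Subgroup.zpowers_le]; exact hc1)
    obtain ⟨m, hm⟩ := (IsPGroup.iff_orderOf.1 hp1) ⟨c, Subgroup.mem_zpowers _⟩
    rw [← Subgroup.orderOf_coe] at hm
    change orderOf c = p ^ m at hm
    set o : ↥(OL cs h X f) := ⟨c, U_le_OL f hc1⟩ with ho
    have hoo : orderOf o = p ^ m := by rw [← Subgroup.orderOf_coe]; exact hm
    have hne := hne c hc1 i hc2
    have h1 : orderOf (Φ o) ∣ p ^ m := by rw [← hoo]; exact orderOf_map_dvd Φ o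
    obtain ⟨k, -, hk⟩ := (Nat.dvd_prime_pow (Fact.out : p.Prime)).1 h1
    have hk1 : 1 ≤ k := by
      rcases Nat.eq_zero_or_pos k with h2 | h2
      · rw [h2, pow_zero, orderOf_eq_one_iff] at hk
        exact absurd hk hne
      · exact h2
    refine ⟨p ^ (k - 1), ?_⟩
    rw [map_pow, orderOf_pow' _ (pow_ne_zero _ (Fact.out : p.Prime).ne_zero), hk]
    rw [Nat.gcd_eq_right (pow_dvd_pow p (by omega)), Nat.pow_div (by omega) (Fact.out : p.Prime).pos]
    rw [show k - (k - 1) = 1 by omega, pow_one]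
  obtain ⟨a, ha⟩ := key c hc1 i hc2
  obtain ⟨b, hb⟩ := key d hd1 j hd2
  have h1 := hrow _ _ ha hb
  have h2 := MPair.of_section (M := OL cs h X f) (S := (⊤ : Subgroup Y)) Φ hΦ h1
  exact MPair.of_pow a b h2

include R in
/-- **The section argument**, strong pairs. -/
theorem spair_of_levi [Finite W] [Finite Y] [Nonempty J] [Fact p.Prime] (hn : ∀ j, n (f j) ∈ HL cs h X f)
    (hconn : ∀ S : Set J, S.Nonempty → S ≠ Set.univ → ∃ a ∈ S, ∃ b, b ∉ S ∧ M (f a) (f b) ≠ 2)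
    (hT : ∀ a ∈ T, ∀ b ∈ T, a * b = b * a) (hperf : ∀ x ∈ LR cs h f, X x ≤ ⁅HL cs h X f, HL cs h X f⁆)
    (hrow : SRow p (↥(HL cs h X f) ⧸ Subgroup.center ↥(HL cs h X f)))
    {c d : Y} (hcp : orderOf c = p) (hdp : orderOf d = p) {i j : J} (hc : NT cs h X c (f i))
    (hd : NT cs h X d (f j)) : SPair p (⊤ : Subgroup Y) c d := by
  have ho : ∀ g c : Y, orderOf (g * c * g⁻¹) = orderOf c := fun g c => by
    rw [← MulAut.conj_apply]
    exact MulEquiv.orderOf_eq (MulAut.conj g) c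
  obtain ⟨g, hc1, hc2⟩ := hc
  obtain ⟨g', hd1, hd2⟩ := hd
  refine SPair.conj_left (s := g) (Subgroup.mem_top _) (SPair.conj_right (s := g') (Subgroup.mem_top _) ?_)
  rw [← ho g c] at hcp
  rw [← ho g' d] at hdp
  generalize g * c * g⁻¹ = c at hc1 hc2 hcp
  generalize g' * d * g'⁻¹ = d at hd1 hd2 hdp
  obtain ⟨Φ, hΦ, hne⟩ := exists_section f R hn hconn hT hperf
  have key : ∀ (c : Y) (hc1 : c ∈ RGD.Sup X (RGD.Pos cs h)) (i : J), c ∉ VJ cs h X {f i} → orderOf c = p →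
      orderOf (Φ ⟨c, U_le_OL f hc1⟩) = p := by
    intro c hc1 i hc2 hcp
    have h1 : orderOf (Φ ⟨c, U_le_OL f hc1⟩) ∣ p := by
      have h2 := orderOf_map_dvd Φ (⟨c, U_le_OL f hc1⟩ : ↥(OL cs h X f))
      rwa [← Subgroup.orderOf_coe, hcp] at h2
    rcases (Nat.dvd_prime (Fact.out : p.Prime)).1 h1 with h2 | h2
    · exact absurd (orderOf_eq_one_iff.1 h2) (hne c hc1 i hc2)
    · exact h2
  have h1 := hrow _ _ (key c hc1 i hc2 hcp) (key d hd1 j hd2 hdp)
  have h2 := SPair.of_section (Fact.out : p.Prime) (M := OL cs h X f) (S := (⊤ : Subgroup Y)) Φ hΦ h1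
  exact h2

include R in
/-- The section is smaller than the group. -/
theorem card_lt [Finite W] [Finite Y] {k : I} (hk : ∀ j, f j ≠ k) :
    Nat.card (↥(HL cs h X f) ⧸ Subgroup.center ↥(HL cs h X f)) < Nat.card Y := by
  have h1 : Nat.card (↥(HL cs h X f) ⧸ Subgroup.center ↥(HL cs h X f)) ≤ Nat.card ↥(HL cs h X f) :=
    Nat.card_le_card_of_surjective _ (QuotientGroup.mk'_surjective _)
  refine lt_of_le_of_lt h1 ?_
  obtain ⟨u, hu, hu1⟩ := exists_ne_one R k
  have hkJ : k ∉ Set.range f := by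
    rintro ⟨j, hj⟩
    exact hk j hj
  have hV : u ∈ VJ cs h X (Set.range f) := RGD.le_Sup (S := NotJ cs h (Set.range f)) (sr_mem_NotJ hkJ) hu
  have h2 : u ∉ HL cs h X f := fun h3 => hu1 (eq_one_of_mem_LJ_of_mem_VJ R (HL_le_LJ f h3) hV)
  refine lt_of_le_of_ne (Nat.le_of_dvd Nat.card_pos (Subgroup.card_subgroup_dvd_card _)) fun h3 => h2 ?_
  rw [(Subgroup.card_eq_iff_eq_top _).1 h3]
  exact Subgroup.mem_top _

end Cfsg.Agent.H862.T5.LevPair
end

-- part: H536/T5/SpTools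
section
set_option linter.all false
open scoped Cfsg.Agent.FastGrp

/-!
# The weak rows `(HN, 5)` and `(B, 5)` (helper536, task T5-SP4)
-/

set_option autoImplicit false

namespace Cfsg.Agent.H536.T5

open Subgroup Cfsg Cfsg.Agent.H533.T5

universe u

/-- a finite simple group of composite order is not commutative -/
theorem not_comm_of_card {K : Type*} [Group K] [Finite K] [IsSimpleGroup K] (h : ¬ (Nat.card K).Prime) :
    ¬ IsMulCommutative K := by
  intro hc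
  let _ : CommGroup K := { ‹Group K› with mul_comm := hc.is_comm.comm }
  exact h IsSimpleGroup.prime_card

/-- pairs along an isomorphism -/
theorem wpair_equiv {G H : Type*} [Group G] [Group H] {p : ℕ} (e : G ≃* H) {x y : G}
    (h : WPair p (⊤ : Subgroup H) (e x) (e y)) : WPair p (⊤ : Subgroup G) x y := by
  refine WPair.of_hom e.toMonoidHom ?_ h
  rw [← MonoidHom.range_eq_map, MonoidHom.range_eq_top.2 e.surjective]

/-- a row from the pairs in a model, and the automorphisms of odd order -/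
theorem wrow_of_model {K H : Type*} [Group K] [Finite K] [IsSimpleGroup K] [Group H] {p : ℕ} (hp : p.Prime) (hp2 : p ≠ 2)
    (hcard : ¬ (Nat.card K).Prime) (hinn : Cfsg.Agent.BpSpor.Inn.OddInn K) (e : K ≃* H)
    (h : ∀ x y : H, orderOf x = p → orderOf y = p → WPair p (⊤ : Subgroup H) x y) : WRow p K := by
  refine WRow.of_inner (not_comm_of_card hcard) (fun a ha => ?_) (fun x y hx hy => wpair_equiv e (h _ _ ?_ ?_))
  · obtain ⟨g, rfl⟩ := hinn p hp hp2 a ha
    exact ⟨g, rfl⟩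
  · rw [MulEquiv.orderOf_eq, hx]
  · rw [MulEquiv.orderOf_eq, hy]

/-- **the row `(HN, 5)`** -/
theorem hn (K : Type u) [Group K] [Finite K] [IsSimpleGroup K] (h : Spor.IsoHN K) : WRow 5 K := by
  obtain ⟨e⟩ := h
  refine wrow_of_model (by norm_num) (by norm_num) ?_ (BpSpor.Inn.OddInn.congr e (BpSpor.Inn.of_index Cfsg.Agent.KFacts.HN.out_index)) e
    fun x y hx hy => wpair hx hy
  rw [Nat.card_congr e.toEquiv, card_HN]
  norm_num

/-- the pairs of `B` from the subgroup `HN` of index prime to 5 -/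
theorem pairs_b {B : Type*} [Group B] (hB : Nat.card B = 4154781481226426191177580544000000) (f : Spor.HN →* B)
    (hf : Function.Injective f) {x y : B} (hx : orderOf x = 5) (hy : orderOf y = 5) : WPair 5 (⊤ : Subgroup B) x y := by
  have : Fact (Nat.Prime 5) := ⟨Nat.prime_five⟩
  have hfin : Finite B := Nat.finite_of_card_ne_zero (by rw [hB]; norm_num)
  have h1 : Nat.card f.range = 273030912000000 := by
    rw [← card_HN]
    exact (Nat.card_congr (MonoidHom.ofInjective hf).toEquiv).symm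
  have h2 := Subgroup.card_mul_index f.range
  rw [h1, hB] at h2
  have h3 : f.range.index = 15217256723027853312 := by omega
  let e : f.range ≃* Spor.HN := (MonoidHom.ofInjective hf).symm
  refine WPair.of_sylow (K := f.range) (by rw [h3]; norm_num) (fun a b ha hb => wpair_equiv e (wpair ?_ ?_)) hx hy
  · rw [MulEquiv.orderOf_eq, ha]
  · rw [MulEquiv.orderOf_eq, hb]

/-- the row `(B, 5)` from the embedding -/
theorem row_b {K B : Type*} [Group K] [Finite K] [IsSimpleGroup K] [Group B] (e : K ≃* B)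
    (hB : Nat.card B = 4154781481226426191177580544000000) (f : Spor.HN →* B) (hf : Function.Injective f)
    (hinn : Cfsg.Agent.BpSpor.Inn.OddInn K) : WRow 5 K := by
  refine wrow_of_model (by norm_num) (by norm_num) ?_ hinn e fun x y hx hy => pairs_b hB f hf hx hy
  rw [Nat.card_congr e.toEquiv, hB]
  norm_num

end Cfsg.Agent.H536.T5
end

-- part: H536/T5/MRow
section
set_option linter.all false
open scoped Cfsg.Agent.FastGrp

-- part: H536/T5/DataC
section
/-!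
# The Harada–Norton group: pairs of conjugate elements of order 5, checked in the 133-dimensional representation (helper536)
-/

set_option autoImplicit false
set_option maxRecDepth 100000

namespace Cfsg.Agent.H536.T5

open Cfsg.Agent.HN.XWords (V)

namespace DataC

open Cfsg.Agent.Lib.PackMat Cfsg.Agent.Lib.PackMatGroup Cfsg.Agent.Lib.PackMatMul Cfsg.Agent.HN.RepData
open Cfsg.Agent.HN.Rep (L LG gens rho)
open Cfsg.Agent.HN Cfsg.Agent.H536.T5.Prog

/-- the straight line program -/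
def prog : List (ℕ × List ℕ) := [
  (4, [4]),
  (5, [3, 5, 3, 3, 1, 3, 1, 3, 3, 5, 4, 2, 4, 4, 5]),
  (6, [5, 9, 5, 9, 5, 6, 8, 5, 5, 5, 6]),
  (1, [0, 1, 0, 6]),
  (4, [6, 8, 6, 4, 6, 6, 6, 5, 7, 7, 8, 6, 8, 4, 6, 8, 5]),
  (7, [7, 6, 7, 7, 5]),
  (6, [8, 6, 9, 9, 10, 8, 10, 6, 8]),
  (2, [9, 2, 10]),
  (0, [0, 0]),
  (0, [0]),
  (0, [0]),
  (5, [13, 5, 14]),
  (0, [0, 0]),
  (0, [0]),
  (0, [0]),
  (8, [15, 8, 16]),
  (0, [0, 0]),
  (0, [0]),
  (0, [0]),
  (15, [19, 15, 20]),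
  (0, [0, 0]),
  (0, [0]),
  (0, [0])]

/-- the equalities -/
def es : List (ℕ × ℕ) := [(12, 22), (8, 22), (4, 22), (0, 22)]

/-- the inequalities -/
def ns : List (ℕ × ℕ) := [(15, 22), (11, 22), (7, 22), (3, 22)]

/-- the steps after the first five -/
def P2 : List (ℕ × List ℕ) := [
  (7, [7, 6, 7, 7, 5]),
  (6, [8, 6, 9, 9, 10, 8, 10, 6, 8]),
  (2, [9, 2, 10]),
  (0, [0, 0]),
  (0, [0]),
  (0, [0]),
  (5, [13, 5, 14]),
  (0, [0, 0]),
  (0, [0]),
  (0, [0]),
  (8, [15, 8, 16]),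
  (0, [0, 0]),
  (0, [0]),
  (0, [0]),
  (15, [19, 15, 20]),
  (0, [0, 0]),
  (0, [0]),
  (0, [0])]

set_option Elab.async false in
theorem chk2 : checkS C P2 es ns DataB.LB = true := by (rewrite [show @Cfsg.Agent.Lib.PackMatMul.checkS = delta% @Cfsg.Agent.Lib.PackMatMul.checkS from by delta Cfsg.Agent.Lib.PackMatMul.checkS; rfl, Cfsg.Agent.Lib.PackCol.withM_col]; decide +kernel)

theorem prog_eq : prog = DataB.P1 ++ P2 := by decide

theorem sound : (∀ q ∈ es, (runG prog LG).getD q.1 1 = (runG prog LG).getD q.2 1) ∧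
    (∀ q ∈ ns, (runG prog LG).getD q.1 1 ≠ (runG prog LG).getD q.2 1) := by
  rw [prog_eq, Cut.runG_append]
  exact checkS_sound (good_of_check Rep.good) DataB.base chk2 (by decide)

/-- the results in the presented group -/
noncomputable def R (i : ℕ) : Cfsg.Spor.HN := (runG prog gens).getD i 1

theorem rho_R (i : ℕ) : rho (R i) = (runG prog LG).getD i 1 := by
  unfold R
  rw [← Rep.gens_map, runG_map, List.getD_eq_getElem?_getD, List.getD_eq_getElem?_getD, List.getElem?_map]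
  cases (runG prog gens)[i]? with
  | none => simp
  | some b => simp

theorem mul_evG (g : Cfsg.Spor.HN) (w : List ℕ) :
    g * evG (runG prog gens) w = w.foldl (fun g j => g * R j) g := by
  induction w generalizing g with
  | nil => rw [evG_nil, mul_one]; rfl
  | cons i w ih => rw [evG_cons, ← mul_assoc, ih]; rfl

/-- the steps -/
theorem st (k i : ℕ) (w : List ℕ) (hk : k < prog.length) (h : wordAt prog k = i :: w) :
    R k = w.foldl (fun g j => g * R j) (R i) := by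
  rw [← mul_evG]
  exact runG_word prog gens hk h

/-- the words in the letters -/
theorem sw (k : ℕ) (w : List ℕ) (hk : k < prog.length) (h : wordAt prog k = w.map (· + 23)) : R k = V w := by
  have e : R k = evG (runG prog gens) (w.map (· + 23)) := runG_word prog gens hk h
  rw [e, V]
  refine evG_shift (fun c => ?_) w
  rw [add_comm]
  exact runG_getD_add prog gens c

/-- the letters -/
theorem lt (k : ℕ) : R (23 + k) = gens.getD k 1 := runG_getD_add prog gens k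


theorem eqn [IsSimpleGroup Cfsg.Spor.HN] (i j : ℕ) (h : (i, j) ∈ es) : R i = R j :=
  A12Group.rho_injective (by rw [rho_R, rho_R]; exact sound.1 (i, j) h)

theorem neq (i j : ℕ) (h : (i, j) ∈ ns) : R i ≠ R j := fun e =>
  sound.2 (i, j) h (by rw [← rho_R, ← rho_R, e])

theorem v_id : R 22 = V [4, 4] := sw 22 [4, 4] (by decide) (by decide)
theorem v_G1 : R 21 = V g1w := sw 21 g1w (by decide) (by decide)
theorem v_G2 : R 20 = V g2w := sw 20 g2w (by decide) (by decide)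
theorem v_w1 : R 18 = V zw := sw 18 zw (by decide) (by decide)
theorem v_w2 : R 17 = V w2w := sw 17 w2w (by decide) (by decide)
theorem v_w3 : R 16 = V w3w := sw 16 w3w (by decide) (by decide)
theorem s_a : R 19 = aa := by
  have e : R 19 = R 21 * R 20 * R 21 * R 20 * R 26 := st 19 21 [20, 21, 20, 26] (by decide) (by decide)
  have e3 : R 26 = V [3] := by rw [lt 3]; exact (mul_one _).symm
  rw [e, v_G1, v_G2, e3]; rfl

theorem one : R 22 = 1 := by
  rw [v_id]
  change _ * (_ * 1) = 1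
  rw [mul_one]; exact XWords.zz

theorem prd_w1_w1 [IsSimpleGroup Cfsg.Spor.HN] : Prd (V zw) (V zw) := by
  have e : R 15 = R 18 * R 25 * R 18 * R 26 := st 15 18 [25, 18, 26] (by decide) (by decide)
  have hg : R 25 * (R 26) = 1 := by rw [lt 2, lt 3]; exact mul_inv_cancel _
  have e2 : V zw * (R 25) * V zw * (R 26) = R 15 := by rw [← v_w1, e]
  refine ⟨R 25, R 26, hg, ?_, ?_⟩
  · rw [e2, ← one]; exact neq 15 22 (by decide)
  · have h3 : R 14 = R 15 * R 15 * R 15 := st 14 15 [15, 15] (by decide) (by decide)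
    have h6 : R 13 = R 14 * R 14 := st 13 14 [14] (by decide) (by decide)
    have h12 : R 12 = R 13 * R 13 := st 12 13 [13] (by decide) (by decide)
    rw [e2]; exact pow12 h3 h6 h12 (by rw [eqn 12 22 (by decide), one])
theorem prd_w2_w2 [IsSimpleGroup Cfsg.Spor.HN] : Prd (V w2w) (V w2w) := by
  have e : R 11 = R 17 * R 25 * R 17 * R 26 := st 11 17 [25, 17, 26] (by decide) (by decide)
  have hg : R 25 * (R 26) = 1 := by rw [lt 2, lt 3]; exact mul_inv_cancel _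
  have e2 : V w2w * (R 25) * V w2w * (R 26) = R 11 := by rw [← v_w2, e]
  refine ⟨R 25, R 26, hg, ?_, ?_⟩
  · rw [e2, ← one]; exact neq 11 22 (by decide)
  · have h3 : R 10 = R 11 * R 11 * R 11 := st 10 11 [11, 11] (by decide) (by decide)
    have h6 : R 9 = R 10 * R 10 := st 9 10 [10] (by decide) (by decide)
    have h12 : R 8 = R 9 * R 9 := st 8 9 [9] (by decide) (by decide)
    rw [e2]; exact pow12 h3 h6 h12 (by rw [eqn 8 22 (by decide), one])
theorem prd_w3_w3 [IsSimpleGroup Cfsg.Spor.HN] : Prd (V w3w) (V w3w) := by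
  have e : R 7 = R 16 * R 23 * R 16 * R 24 := st 7 16 [23, 16, 24] (by decide) (by decide)
  have hg : R 23 * (R 24) = 1 := by rw [lt 0, lt 1]; exact mul_inv_cancel _
  have e2 : V w3w * (R 23) * V w3w * (R 24) = R 7 := by rw [← v_w3, e]
  refine ⟨R 23, R 24, hg, ?_, ?_⟩
  · rw [e2, ← one]; exact neq 7 22 (by decide)
  · have h3 : R 6 = R 7 * R 7 * R 7 := st 6 7 [7, 7] (by decide) (by decide)
    have h6 : R 5 = R 6 * R 6 := st 5 6 [6] (by decide) (by decide)
    have h12 : R 4 = R 5 * R 5 := st 4 5 [5] (by decide) (by decide)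
    rw [e2]; exact pow12 h3 h6 h12 (by rw [eqn 4 22 (by decide), one])
theorem prd_a_a [IsSimpleGroup Cfsg.Spor.HN] : Prd (aa) (aa) := by
  have e : R 3 = R 19 * R 23 * R 19 * R 24 := st 3 19 [23, 19, 24] (by decide) (by decide)
  have hg : R 23 * (R 24) = 1 := by rw [lt 0, lt 1]; exact mul_inv_cancel _
  have e2 : aa * (R 23) * aa * (R 24) = R 3 := by rw [← s_a, e]
  refine ⟨R 23, R 24, hg, ?_, ?_⟩
  · rw [e2, ← one]; exact neq 3 22 (by decide)
  · have h3 : R 2 = R 3 * R 3 * R 3 := st 2 3 [3, 3] (by decide) (by decide)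
    have h6 : R 1 = R 2 * R 2 := st 1 2 [2] (by decide) (by decide)
    have h12 : R 0 = R 1 * R 1 := st 0 1 [1] (by decide) (by decide)
    rw [e2]; exact pow12 h3 h6 h12 (by rw [eqn 0 22 (by decide), one])

end DataC

end Cfsg.Agent.H536.T5
end

-- part: H536/T5/MRow
section
/-!
# The middle rows `(HN, 5)` and `(B, 5)` (helper536, for S2275)

`MPair 5 ⊤ x y` for all elements `x`, `y` of order 5 of `HN`: explicit products of order 12 or 8, no hypotheses.
-/

set_option autoImplicit false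
set_option maxRecDepth 100000

namespace Cfsg.Agent.H536.T5

open Cfsg.Agent.HN.XWords (V)
open Subgroup Cfsg Cfsg.Agent.H533.T5 Cfsg.Agent.H957.T5M

universe u

section gen

variable {G : Type*} [Group G]

theorem mpair_of_prd {x y : G} (h : Prd x y) : MPair 5 (⊤ : Subgroup G) x y := by
  obtain ⟨g, g', hg, h1, h24⟩ := h
  have hg' : g' = g⁻¹ := (inv_eq_of_mul_eq_one_right hg).symm
  subst hg'
  refine ⟨g, mem_top g, 1, 1, fun k hk => h1 ?_⟩
  have e : x ^ 1 * (g * y * g⁻¹) ^ 1 = x * g * y * g⁻¹ := by rw [pow_one, pow_one]; group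
  rw [e] at hk
  have hcop : Nat.gcd 24 (5 ^ k) = 1 := Nat.Coprime.pow_right k (by norm_num)
  have h2 := orderOf_dvd_of_pow_eq_one h24
  have h3 := orderOf_dvd_of_pow_eq_one hk
  have h4 := Nat.dvd_gcd h2 h3
  rw [hcop, Nat.dvd_one, orderOf_eq_one_iff] at h4
  exact h4

/-- the pairs from the representatives -/
theorem mpair_of_rep {x y r s : G} (h1 : RepOf x r) (h2 : RepOf y s) (h : MPair 5 (⊤ : Subgroup G) r s) :
    MPair 5 (⊤ : Subgroup G) x y := by
  obtain ⟨g, i, rfl⟩ := h1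
  obtain ⟨k, j, rfl⟩ := h2
  exact MPair.of_pow i j (MPair.conj_left (mem_top g) (MPair.conj_right (mem_top k) h))

/-- pairs along an isomorphism -/
theorem mpair_equiv {G H : Type*} [Group G] [Group H] {p : ℕ} (e : G ≃* H) {x y : G}
    (h : MPair p (⊤ : Subgroup H) (e x) (e y)) : MPair p (⊤ : Subgroup G) x y := by
  refine MPair.of_hom e.toMonoidHom ?_ h
  rw [← MonoidHom.range_eq_map, MonoidHom.range_eq_top.2 e.surjective]

/-- all pairs of a subgroup of index prime to `p` give all pairs of the group -/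
theorem mpair_of_sylow [Finite G] {p : ℕ} [Fact p.Prime] {K : Subgroup G} (hK : ¬ p ∣ K.index)
    (h : ∀ x y : K, orderOf x = p → orderOf y = p → MPair p (⊤ : Subgroup K) x y) {x y : G}
    (hx : orderOf x = p) (hy : orderOf y = p) : MPair p (⊤ : Subgroup G) x y := by
  obtain ⟨g, hg⟩ := exists_conj_mem_of_index hK hx
  obtain ⟨k, hk⟩ := exists_conj_mem_of_index hK hy
  have ho : ∀ (a z : G), orderOf (a * z * a⁻¹) = orderOf z := by
    intro a z
    have : a * z * a⁻¹ = MulAut.conj a z := by simp [MulAut.conj_apply]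
    rw [this]
    exact orderOf_injective (MulAut.conj a).toMonoidHom (MulAut.conj a).injective z
  have h1 := h ⟨_, hg⟩ ⟨_, hk⟩ (by rw [← Subgroup.orderOf_coe]; simp only; rw [ho, hx])
    (by rw [← Subgroup.orderOf_coe]; simp only; rw [ho, hy])
  have h2 := (h1.of_injective K.subtype K.subtype_injective).mono le_top
  exact MPair.conj_left (mem_top _) (MPair.conj_right (mem_top _) h2)

/-- a row from the pairs in a model, and the automorphisms of odd order -/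
theorem mrow_of_model {K H : Type*} [Group K] [Finite K] [IsSimpleGroup K] [Group H] {p : ℕ} (hp : p.Prime) (hp2 : p ≠ 2)
    (hcard : ¬ (Nat.card K).Prime) (hinn : Cfsg.Agent.BpSpor.Inn.OddInn K) (e : K ≃* H)
    (h : ∀ x y : H, orderOf x = p → orderOf y = p → MPair p (⊤ : Subgroup H) x y) : MRow p K := by
  refine MRow.of_inner (not_comm_of_card hcard) (fun a ha => ?_) (fun x y hx hy => mpair_equiv e (h _ _ ?_ ?_))
  · obtain ⟨g, rfl⟩ := hinn p hp hp2 a ha
    exact ⟨g, rfl⟩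
  · rw [MulEquiv.orderOf_eq, hx]
  · rw [MulEquiv.orderOf_eq, hy]

end gen

/-- **all pairs of elements of order 5 of `HN`** -/
theorem mpair {x y : Spor.HN} (hx : orderOf x = 5) (hy : orderOf y = 5) : MPair 5 (⊤ : Subgroup Spor.HN) x y := by
  have := Cfsg.Agent.S1701.result.1
  obtain ⟨r, hr, hxr⟩ := exists_rep hx
  obtain ⟨s, hs, hys⟩ := exists_rep hy
  refine mpair_of_rep hxr hys ?_
  rcases hr with rfl | rfl | rfl | rfl <;> rcases hs with rfl | rfl | rfl | rfl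
  · exact mpair_of_prd DataC.prd_w1_w1
  · exact mpair_of_prd DataB.prd_w1_w2
  · exact mpair_of_prd DataB.prd_w1_w3
  · exact mpair_of_prd DataB.prd_w1_a
  · exact (mpair_of_prd DataB.prd_w1_w2).symm
  · exact mpair_of_prd DataC.prd_w2_w2
  · exact mpair_of_prd DataB.prd_w2_w3
  · exact mpair_of_prd DataB.prd_w2_a
  · exact (mpair_of_prd DataB.prd_w1_w3).symm
  · exact (mpair_of_prd DataB.prd_w2_w3).symm
  · exact mpair_of_prd DataC.prd_w3_w3
  · exact mpair_of_prd DataB.prd_w3_a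
  · exact (mpair_of_prd DataB.prd_w1_a).symm
  · exact (mpair_of_prd DataB.prd_w2_a).symm
  · exact (mpair_of_prd DataB.prd_w3_a).symm
  · exact mpair_of_prd DataC.prd_a_a

/-- **the middle row `(HN, 5)`** -/
theorem mrow_hn {K : Type u} [Group K] [Finite K] [IsSimpleGroup K] (h : Spor.IsoHN K) : MRow 5 K := by
  obtain ⟨e⟩ := h
  refine mrow_of_model (by norm_num) (by norm_num) ?_ (BpSpor.Inn.OddInn.congr e (BpSpor.Inn.of_index Cfsg.Agent.KFacts.HN.out_index)) e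
    fun x y hx hy => mpair hx hy
  rw [Nat.card_congr e.toEquiv, card_HN]
  norm_num

/-- the pairs of `B` from the subgroup `HN` of index prime to 5 -/
theorem mpairs_b {B : Type*} [Group B] (hB : Nat.card B = 4154781481226426191177580544000000) (f : Spor.HN →* B)
    (hf : Function.Injective f) {x y : B} (hx : orderOf x = 5) (hy : orderOf y = 5) : MPair 5 (⊤ : Subgroup B) x y := by
  have : Fact (Nat.Prime 5) := ⟨Nat.prime_five⟩
  have hfin : Finite B := Nat.finite_of_card_ne_zero (by rw [hB]; norm_num)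
  have h1 : Nat.card f.range = 273030912000000 := by
    rw [← card_HN]
    exact (Nat.card_congr (MonoidHom.ofInjective hf).toEquiv).symm
  have h2 := Subgroup.card_mul_index f.range
  rw [h1, hB] at h2
  have h3 : f.range.index = 15217256723027853312 := by omega
  let e : f.range ≃* Spor.HN := (MonoidHom.ofInjective hf).symm
  refine mpair_of_sylow (K := f.range) (by rw [h3]; norm_num) (fun a b ha hb => mpair_equiv e (mpair ?_ ?_)) hx hy
  · rw [MulEquiv.orderOf_eq, ha]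
  · rw [MulEquiv.orderOf_eq, hb]

/-- the middle row `(B, 5)` from the embedding -/
theorem mrow_b_of {K B : Type*} [Group K] [Finite K] [IsSimpleGroup K] [Group B] (e : K ≃* B)
    (hB : Nat.card B = 4154781481226426191177580544000000) (f : Spor.HN →* B) (hf : Function.Injective f)
    (hinn : Cfsg.Agent.BpSpor.Inn.OddInn K) : MRow 5 K := by
  refine mrow_of_model (by norm_num) (by norm_num) ?_ hinn e fun x y hx hy => mpairs_b hB f hf hx hy
  rw [Nat.card_congr e.toEquiv, hB]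
  norm_num

end Cfsg.Agent.H536.T5
end
end

-- part: H862/T5/E6Pair
section
set_option linter.all false
open scoped Cfsg.Agent.FastGrp

/-!
# `²E₆(q)` in its own characteristic: the inner pairs (helper862)

* `mpair_of_NT` : elements acting non-trivially on panels of the types `1`, `2` (either of them) form a middle pair,
  given the middle rows of the smaller simple groups (the section of the Levi subgroup of the nodes `1`, `2`);
* `mpair_inner` : all pairs of non-trivial `p`-elements.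
-/

set_option autoImplicit false
set_option linter.unusedSectionVars false

universe u

namespace Cfsg.Agent.H862.T5.E6Pair

open CoxeterSystem Cfsg.Agent.ChevalleyStructure.CoxeterGeom Cfsg.Agent.Tits.Roots Cfsg.Agent.Tits.Core
  Cfsg.Agent.Tits.RootComb Cfsg.Agent.Nodes.Comb Cfsg.Agent.Nodes.Reps Cfsg.Agent.Nodes.BNOf
  Cfsg.Agent.Nodes.RGDTwE6 Cfsg.Agent.Nodes.RGDLib Cfsg.Agent.Nodes.SubComb Cfsg.Agent.Nodes.Sub
  Cfsg.Agent.Nodes.Bruhat Cfsg.Agent.Nodes.StabComb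
open Cfsg.Lie Cfsg.Agent.ChevalleyStructure Cfsg.Agent.GenExc Cfsg.Agent.GenExc.TwE
open Cfsg.Agent.UGT.U2.FOne.TwESix
open Cfsg.Agent.H798.T5Geo Cfsg.Agent.H957.T5M Cfsg.Agent.H533.T5 Cfsg.Agent.H862.T5.LevPair

variable {K : Type} [Field K] [Fintype K] {q : ℕ} {φ : K →+* K} (hφ : ∀ x, φ x = x ^ q)
  (hK : Fintype.card K = q ^ 2) {W : Type*} [Group W] (cs : CoxeterSystem CoxeterMatrix.F₄ W)

include hK in
theorem frob_two (t : K) : (t ^ q) ^ q = t := by
  rw [← pow_mul, ← pow_two, ← hK]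
  exact FiniteField.pow_card t

include hK in
theorem le_q {p : ℕ} [Fact p.Prime] [CharP K p] (hp5 : 5 ≤ p) : 5 ≤ q := by
  have h1 : p ∣ q := by
    have h2 : p ∣ Fintype.card K := by
      obtain ⟨k, -, hk⟩ := FiniteField.card K p
      rw [hk]
      exact dvd_pow_self p k.ne_zero
    rw [hK] at h2
    exact (Fact.out : p.Prime).dvd_of_dvd_pow h2
  have h3 : 0 < q := by
    rcases Nat.eq_zero_or_pos q with h4 | h4
    · rw [h4] at hK
      exact absurd hK Fintype.card_ne_zero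
    · exact h4
  exact hp5.trans (Nat.le_of_dvd h3 h1)

include hφ hK in
/-- **Pairs of elements acting on panels of the middle types**, `p ≥ 5`. -/
theorem mpair_of_NT {p : ℕ} [Fact p.Prime] [CharP K p] (hp5 : 5 ≤ p)
    (hlt : ∀ (L : Type u) [Group L] [Finite L], IsSimpleGroup L → ¬ IsMulCommutative L →
      Nat.card L < Nat.card ↥(twistedE6 K q) → MRow p L)
    {c d : ↥(twistedE6 K q)} {i j : Fin 2} (hc : NT cs isCartan (X φ q) c (f2 i))
    (hd : NT cs isCartan (X φ q) d (f2 j)) : MPair p (⊤ : Subgroup ↥(twistedE6 K q)) c d := by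
  have hqq := frob_two hK
  have hW : Finite W := Cfsg.Agent.KFacts.TwESix.Comb.finiteW cs
  have hq3 : 3 ≤ q := by
    have := le_q hK hp5
    omega
  have R := rgd cs hφ hqq p
  refine mpair_of_levi f2 R (nn_mem_HL hφ hqq cs f2) sub2.conn' (fun a ha b hb => comm_T ha hb)
    (perf hφ hqq sub2 cs hq3 hK perf2) ?_ hc hd
  have hqs := sub2.isQuasisimple hφ hqq cs p hq3 hK perf2
  have hcard := card_lt f2 R (k := 0) (by decide)
  set S := ↥(HL cs isCartan (X φ q) f2) ⧸ Subgroup.center ↥(HL cs isCartan (X φ q) f2) with hS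
  have hs : IsSimpleGroup S := hqs.2
  have hna : ¬ IsMulCommutative S := by
    intro hcomm
    have h2 : commutator S = ⊥ := by
      rw [commutator_def, Subgroup.commutator_eq_bot_iff_le_centralizer]
      intro x _
      rw [Subgroup.mem_centralizer_iff]
      intro y _
      exact hcomm.is_comm.comm y x
    have h3 : commutator S = ⊤ := by
      have h4 : commutator ↥(HL cs isCartan (X φ q) f2) = ⊤ := hqs.1.commutator_eq_top
      have h5 := congrArg (Subgroup.map (QuotientGroup.mk' (Subgroup.center ↥(HL cs isCartan (X φ q) f2)))) h4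
      rw [map_commutator_eq, MonoidHom.range_eq_top.2 (QuotientGroup.mk'_surjective _),
        Subgroup.map_top_of_surjective _ (QuotientGroup.mk'_surjective _)] at h5
      exact h5
    rw [h2] at h3
    exact bot_ne_top h3
  have e : ULift.{u} S ≃* S := MulEquiv.ulift
  have hsu : IsSimpleGroup (ULift.{u} S) := e.isSimpleGroup
  refine Cfsg.Agent.H897.T5Sub.MRow.congr e (hlt (ULift.{u} S) hsu ?_ ?_)
  · intro h1
    apply hna
    exact ⟨⟨fun a b => by
      have := h1.is_comm.comm (e.symm a) (e.symm b)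
      rw [← map_mul, ← map_mul] at this
      exact e.symm.injective this⟩⟩
  · rw [Nat.card_congr e.toEquiv]
    exact hcard

end Cfsg.Agent.H862.T5.E6Pair
end

-- part: H798/T5Asm
section
prune_inst 0x15203100142210000018859271201c46f40004b200488c008ce10e4006806c6229c588613c2005135210884900390048114c002002200000002004000001000000801204f0c98000600096000000400000000000000000000000000000000000000000000
set_option linter.all false
open scoped Cfsg.Agent.FastGrp

-- part: H798/T5Line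
section
/-!
T5, defining characteristic (helper798): the rank one row. `p2_line` : two permutations `f₁`, `f₂` of order `p ≥ 5` of
the projective line over a finite field of characteristic `p`, permuting the root groups, are a middle pair for the
group generated by the root groups.
-/

set_option autoImplicit false
set_option linter.unusedSectionVars false
set_option maxHeartbeats 400000

namespace Cfsg.Agent.H798.T5Line

open Cfsg.Agent.FixBN Cfsg.Agent.FixBN.RankOneL2 Cfsg.Agent.H14.CycLine Cfsg.Agent.H957.T5M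
open Cfsg.Agent.H957.T5V (MP IsScal toA)
open Module

variable {F : Type*} [Field F]

/-- the determinant form -/
def om (v w : F × F) : F := v.1 * w.2 - v.2 * w.1

/-- `T` preserves the determinant form -/
def Om (T : (F × F) ≃+ (F × F)) : Prop := ∀ v w, om (T v) (T w) = om v w

/-- the lifts of the elements of `psl2 F` may be chosen of determinant one -/
theorem lift_psl2 {g : Equiv.Perm (Option F)} (hg : g ∈ psl2 F) :
    ∃ T : (F × F) ≃+ (F × F), Om T ∧ Lift g (RingEquiv.refl F) T := by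
  unfold psl2 at hg
  induction hg using Subgroup.closure_induction with
  | mem x hx =>
    rcases hx with ⟨a, rfl⟩ | rfl
    · refine ⟨_, fun v w => ?_, lift_tr a⟩
      show (v.1 + a * v.2) * w.2 - v.2 * (w.1 + a * w.2) = v.1 * w.2 - v.2 * w.1
      ring
    · refine ⟨_, fun v w => ?_, lift_ni⟩
      show (-v.2) * w.1 - v.1 * (-w.2) = v.1 * w.2 - v.2 * w.1
      ring
  | one => exact ⟨_, fun _ _ => rfl, Lift.one⟩
  | mul x y _ _ hx hy =>
    obtain ⟨T, hT, hx⟩ := hx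
    obtain ⟨S, hS, hy⟩ := hy
    refine ⟨_, fun v w => ?_, hx.mul hy⟩
    show om (T (S v)) (T (S w)) = _
    rw [hT, hS]
  | inv x _ hx =>
    obtain ⟨T, hT, hx⟩ := hx
    refine ⟨_, fun v w => ?_, hx.inv⟩
    rw [← hT, T.apply_symm_apply, T.apply_symm_apply]

theorem exists_lift (h2 : (2 : F) ≠ 0) {c : Equiv.Perm (Option F)} (hc : c ∈ famStab (lineFam F)) :
    ∃ φ T, Lift c φ T := by
  have hne : c none ≠ c (some 0) := fun h => by
    have := c.injective h
    exact absurd this (by simp)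
  obtain ⟨k, hk, h0, h1⟩ := exists_psl2 hne
  obtain ⟨φ, T, hT⟩ := exists_lift_fix h2 (c := k⁻¹ * c) (mul_mem (inv_mem (psl2_le_famStab hk)) hc)
    (by rw [Equiv.Perm.mul_apply, ← h0]; exact k.symm_apply_apply _)
    (by rw [Equiv.Perm.mul_apply, ← h1]; exact k.symm_apply_apply _)
  obtain ⟨S, -, hS⟩ := lift_psl2 hk
  have := hS.mul hT
  rw [mul_inv_cancel_left] at this
  exact ⟨_, _, this⟩

theorem om_smul (a b : F) (v w : F × F) : om (a • v) (b • w) = a * b * om v w := by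
  show a * v.1 * (b * w.2) - a * v.2 * (b * w.1) = a * b * (v.1 * w.2 - v.2 * w.1)
  ring

/-- every linear map of determinant one is the lift of an element of `psl2 F` -/
theorem exists_of_sl {T : (F × F) ≃ₗ[F] (F × F)} (hT : om (T (1, 0)) (T (0, 1)) = 1) :
    ∃ m ∈ psl2 F, Lift m (RingEquiv.refl F) T.toAddEquiv := by
  have h10 : T (1, 0) ≠ 0 := by
    intro h; rw [h] at hT; simp only [om, _root_.Prod.fst_zero, _root_.MulZeroClass.zero_mul, _root_.Prod.snd_zero, _root_.sub_self, _root_.zero_ne_one] at hT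
  have h01 : T (0, 1) ≠ 0 := by
    intro h; rw [h] at hT; simp [om] at hT
  have hne : pt (T (1, 0)) ≠ pt (T (0, 1)) := by
    intro h
    obtain ⟨a, ha⟩ := exists_of_pt_eq h10 h01 h
    rw [ha] at hT
    have : om (T (1, 0)) (a • T (1, 0)) = 0 := by
      show (T (1, 0)).1 * (a * (T (1, 0)).2) - (T (1, 0)).2 * (a * (T (1, 0)).1) = 0
      ring
    rw [this] at hT
    exact zero_ne_one hT
  obtain ⟨k, hk, h0, h1⟩ := exists_psl2 hne
  obtain ⟨S, hSo, hS⟩ := lift_psl2 hk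
  have e10 : pt ((1, 0) : F × F) = none := pt_zero 1
  have e01 : pt ((0, 1) : F × F) = some 0 := by rw [pt_ne 0 one_ne_zero, zero_div]
  obtain ⟨a, ha⟩ := exists_of_pt_eq h10 (map_ne_zero' S (v := ((1, 0) : F × F)) (by simp)) (by
    rw [← hS.act _ (by simp), e10, h0])
  obtain ⟨b, hb⟩ := exists_of_pt_eq h01 (map_ne_zero' S (v := ((0, 1) : F × F)) (by simp)) (by
    rw [← hS.act _ (by simp), e01, h1])
  have hab : a * b = 1 := by
    have h3 := hSo (1, 0) (0, 1)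
    rw [ha, hb, om_smul, hT, mul_one] at h3
    rw [h3]; simp [om]
  have ha0 : a ≠ 0 := left_ne_zero_of_mul_eq_one hab
  refine ⟨k * dil a⁻¹, mul_mem hk (dil_mem _), ?_, ?_⟩
  · intro c v
    exact T.map_smul c v
  · rintro ⟨x, y⟩ hv
    have hTv : T (x, y) = x • T (1, 0) + y • T (0, 1) := by
      rw [← T.map_smul, ← T.map_smul, ← T.map_add]
      simp
    have hSv : S (a⁻¹ * x, a * y) = T (x, y) := by
      have h3 : ((a⁻¹ * x, a * y) : F × F) = (a⁻¹ * x) • ((1, 0) : F × F) + (a * y) • ((0, 1) : F × F) := by simp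
      rw [h3, map_add, hS.semi, hS.semi, ha, hb, hTv]
      simp only [RingEquiv.refl_apply, smul_smul]
      congr 2
      · field_simp
      · rw [mul_right_comm, hab, one_mul]
    show (k * dil a⁻¹) (pt (x, y)) = pt (T (x, y))
    rw [← hSv, Equiv.Perm.mul_apply]
    have hne2 : ((a⁻¹ * x, a * y) : F × F) ≠ 0 := by
      intro h
      apply hv
      rw [Prod.mk_eq_zero] at h ⊢
      exact ⟨(mul_eq_zero.1 h.1).resolve_left (inv_ne_zero ha0), (mul_eq_zero.1 h.2).resolve_left ha0⟩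
    rw [← hS.act _ hne2]
    congr 1
    by_cases hy : y = 0
    · subst hy
      rw [pt_zero, mul_zero, pt_zero, dil_none' (inv_ne_zero ha0)]
    · rw [pt_ne _ hy, pt_ne _ (mul_ne_zero ha0 hy), dil_some' (inv_ne_zero ha0)]
      congr 1
      field_simp

theorem om_of_det {T : (F × F) ≃ₗ[F] (F × F)} (hT : LinearEquiv.det T = 1) : om (T (1, 0)) (T (0, 1)) = 1 := by
  have h1 : LinearMap.det (T : (F × F) →ₗ[F] (F × F)) = 1 := by
    rw [← LinearEquiv.coe_det, hT, Units.val_one]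
  rw [← LinearMap.det_toMatrix (Basis.finTwoProd F), Matrix.det_fin_two] at h1
  simp only [LinearMap.toMatrix_apply] at h1
  simp only [_root_.Fin.isValue, _root_.Module.Basis.finTwoProd_zero, _root_.LinearEquiv.coe_coe, _root_.Module.Basis.coe_finTwoProd_repr, _root_.Nat.succ_eq_add_one, _root_.Nat.reduceAdd, _root_.Matrix.cons_val_zero, _root_.Module.Basis.finTwoProd_one, _root_.Matrix.cons_val_one, _root_.Matrix.cons_val_fin_one] at h1
  show (T (1, 0)).1 * (T (0, 1)).2 - (T (1, 0)).2 * (T (0, 1)).1 = 1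
  linear_combination h1

/-- powers of lifts -/
theorem Lift.pow {c : Equiv.Perm (Option F)} {φ : F ≃+* F} {T : (F × F) ≃+ (F × F)} (h : Lift c φ T) (n : ℕ) :
    ∃ ψ S, Lift (c ^ n) ψ S ∧ ∀ v, S v = (T.toEquiv ^ n : Equiv.Perm (F × F)) v := by
  induction n with
  | zero => exact ⟨_, _, by rw [pow_zero]; exact Lift.one, fun v => rfl⟩
  | succ n ih =>
    obtain ⟨ψ, S, h1, h2⟩ := ih
    refine ⟨_, _, by rw [pow_succ]; exact h1.mul h, fun v => ?_⟩
    rw [pow_succ]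
    exact h2 (T v)

theorem semi_of {c : Equiv.Perm (Option F)} {φ : F ≃+* F} {T : (F × F) ≃+ (F × F)} (h : Lift c φ T) :
    Cfsg.Agent.H957.T5V.Semi φ (T.toEquiv : Equiv.Perm (F × F)) := ⟨fun v w => T.map_add v w, h.semi⟩

theorem isScal_of {φ : F ≃+* F} {T : (F × F) ≃+ (F × F)} (h : Lift 1 φ T) :
    IsScal F (T.toEquiv : Equiv.Perm (F × F)) := by
  obtain ⟨⟨a, -, ha⟩, -⟩ := h.scalar
  exact ⟨a, ha⟩

theorem eq_one_of_isScal {c : Equiv.Perm (Option F)} {φ : F ≃+* F} {T : (F × F) ≃+ (F × F)} (h : Lift c φ T)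
    (hs : IsScal F (T.toEquiv : Equiv.Perm (F × F))) : c = 1 := by
  obtain ⟨a, ha⟩ := hs
  ext y
  obtain ⟨v, hv, rfl⟩ := pt_surj y
  have ha0 : a ≠ 0 := by
    rintro rfl
    apply map_ne_zero' T hv
    have := ha v
    rwa [zero_smul] at this
  have h1 : T v = a • v := ha v
  rw [h.act v hv, h1, pt_smul ha0]
  rfl

/-- **The rank one row**, own characteristic. -/
theorem p2_line [Finite F] {p : ℕ} [Fact p.Prime] [CharP F p] (hp5 : 5 ≤ p) {f₁ f₂ : Equiv.Perm (Option F)}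
    (h₁ : f₁ ∈ famStab (lineFam F)) (h₂ : f₂ ∈ famStab (lineFam F)) (o₁ : f₁ ^ p = 1) (o₂ : f₂ ^ p = 1)
    (n₁ : f₁ ≠ 1) (n₂ : f₂ ≠ 1) : MPair p (⨆ y, lineFam F y) f₁ f₂ := by
  have h2 : (2 : F) ≠ 0 := H194.MOwn.two_ne hp5
  obtain ⟨φ₁, T₁, hT₁⟩ := exists_lift h2 h₁
  obtain ⟨φ₂, T₂, hT₂⟩ := exists_lift h2 h₂
  have key : ∀ {f : Equiv.Perm (Option F)} {φ : F ≃+* F} {T : (F × F) ≃+ (F × F)}, Lift f φ T → f ^ p = 1 →
      IsScal F ((T.toEquiv : Equiv.Perm (F × F)) ^ p) := by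
    intro f φ T hT ho
    obtain ⟨ψ, S, h3, h4⟩ := Lift.pow hT p
    rw [ho] at h3
    obtain ⟨a, ha⟩ := isScal_of h3
    exact ⟨a, fun v => by rw [← h4]; exact ha v⟩
  have hfr : 2 ≤ finrank F (F × F) := by
    rw [finrank_prod, finrank_self]
  obtain ⟨g, hg, i, j, h5⟩ := H194.MOwn.mp_own (p := p) (V := F × F) hp5 hfr (semi_of hT₁) (key hT₁ o₁)
    (fun h => n₁ (eq_one_of_isScal hT₁ h)) (semi_of hT₂) (key hT₂ o₂) (fun h => n₂ (eq_one_of_isScal hT₂ h))
  obtain ⟨m, hm, hmg⟩ := exists_of_sl (om_of_det hg)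
  refine ⟨m, by rw [iSup_lineFam]; exact hm, i, j, fun k hk => h5 k ?_⟩
  obtain ⟨ψ₁, S₁, a1, b1⟩ := Lift.pow hT₁ i
  obtain ⟨ψ₂, S₂, a2, b2⟩ := Lift.pow ((hmg.mul hT₂).mul hmg.inv) j
  obtain ⟨ψ₃, S₃, a3, b3⟩ := Lift.pow (a1.mul a2) (p ^ k)
  rw [hk] at a3
  obtain ⟨a, ha⟩ := isScal_of a3
  refine ⟨a, fun v => ?_⟩
  rw [← ha v]
  show _ = S₃ v
  rw [b3]
  have e1 : ((S₂.trans S₁).toEquiv : Equiv.Perm (F × F)) = (T₁.toEquiv : Equiv.Perm (F × F)) ^ i *
      (toA g * (T₂.toEquiv : Equiv.Perm (F × F)) * (toA g)⁻¹) ^ j := by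
    apply Equiv.ext
    intro w
    have e2 : (toA g * (T₂.toEquiv : Equiv.Perm (F × F)) * (toA g)⁻¹) =
        ((g.toAddEquiv.symm.trans (T₂.trans g.toAddEquiv)).toEquiv : Equiv.Perm (F × F)) := by
      apply Equiv.ext
      intro z
      rfl
    rw [Equiv.Perm.mul_apply, e2]
    have h6 := b2 w
    have h7 := b1 (S₂ w)
    show S₁ (S₂ w) = _
    rw [h7, h6]
  rw [e1]

end Cfsg.Agent.H798.T5Line
end

-- part: H798/T5Pan
section
/-!
T5, defining characteristic (helper798): panels.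

* `P2 p fam` : two permutations of order `p` permuting the family are a middle pair; `P2.map`, `p2_pan`;
* `Act E x θ` : the action `θ` of the automorphism `x` on the chambers, type preserving; `TP E x i` : `x` acts
  non-trivially on a panel of type `i` of a fixed chamber; `TP.mpair` : a common type.
-/

set_option autoImplicit false
set_option linter.unusedSectionVars false
set_option maxHeartbeats 400000

namespace Cfsg.Agent.H798.T5Pan

open Cfsg Subgroup Cfsg.Agent.LieExceptional.BNPairCore Cfsg.Agent.Tits.Core Cfsg.Agent.Tits.Core.Bldg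
  Cfsg.Agent.Tits.OfBN Cfsg.Agent.Schreier.BNSch Cfsg.Agent.Tits.OppRes Cfsg.Agent.FixBN.OfBN
open Cfsg.Agent.FixBN (Sys Split famStab mem_famStab lineFam FieldNode)
open Cfsg.Agent.FixOdd (Tw)
open Cfsg.Agent.H460.Typed Cfsg.Agent.H460.Pan Cfsg.Agent.H460.EllC Cfsg.Agent.H460.PanL
  Cfsg.Agent.H185.TypedTw Cfsg.Agent.H460.EllPan Cfsg.Agent.H460.Engine
open Cfsg.Agent.H957.T5M

section Row

variable {Om Om' : Type*}

/-- two permutations of order `p` permuting the family are a middle pair -/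
def P2 (p : ℕ) (fam : Om → Subgroup (Equiv.Perm Om)) : Prop :=
  ∀ f₁ ∈ famStab fam, ∀ f₂ ∈ famStab fam, f₁ ^ p = 1 → f₂ ^ p = 1 → f₁ ≠ 1 → f₂ ≠ 1 → MPair p (⨆ y, fam y) f₁ f₂

theorem P2.map {p : ℕ} (e : Om ≃ Om') {U : Om → Subgroup (Equiv.Perm Om)}
    {U' : Om' → Subgroup (Equiv.Perm Om')} (hU : ∀ y g, g ∈ U y ↔ e.permCongr g ∈ U' (e y)) (h : P2 p U) :
    P2 p U' := by
  set F : Equiv.Perm Om ≃* Equiv.Perm Om' := e.permCongrHom with hF
  have hfa : ∀ g, F g = e.permCongr g := fun g => rfl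
  have hcy : ∀ (c : Equiv.Perm Om) y, (F c) (e y) = e (c y) := fun c y => by
    show e (c (e.symm (e y))) = e (c y)
    rw [e.symm_apply_apply]
  have hst : ∀ f, F f ∈ famStab U' → f ∈ famStab U := by
    intro f hf y g
    have := hf (e y) (F g)
    rwa [hcy, ← map_mul, ← map_inv, ← map_mul, hfa, hfa, ← hU, ← hU] at this
  have hsup : (⨆ y, U y).map F.toMonoidHom ≤ ⨆ y, U' y := by
    rw [Subgroup.map_le_iff_le_comap]
    refine iSup_le fun y g hg => ?_
    rw [Subgroup.mem_comap]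
    exact Subgroup.mem_iSup_of_mem (e y) ((hU y g).1 hg)
  intro f₁' h1 f₂' h2 o1 o2 n1 n2
  obtain ⟨f₁, rfl⟩ := F.surjective f₁'
  obtain ⟨f₂, rfl⟩ := F.surjective f₂'
  have hone : ∀ f : Equiv.Perm Om, F f = 1 ↔ f = 1 := fun f => by
    rw [← map_one F, F.injective.eq_iff]
  have := h f₁ (hst _ h1) f₂ (hst _ h2) (by rwa [← map_pow, hone] at o1) (by rwa [← map_pow, hone] at o2)
    (fun h3 => n1 ((hone _).2 h3)) (fun h3 => n2 ((hone _).2 h3))
  exact (this.of_injective F.toMonoidHom F.injective).mono hsup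

end Row

variable {K : Type*} [Group K] [Finite K] {ℓ : ℕ} [Fact ℓ.Prime] {l : ℕ} {M : CoxeterMatrix (Fin l)} {Q : Fin l → ℕ}

/-- the panels over fields, in the defining characteristic -/
theorem p2_pan (E : Eng ℓ K M Q) (h5 : 5 ≤ ℓ) {i : Fin l} (h : FNode E.P E.U (E.e i : K) (Q i)) (x : K ⧸ E.P.B) :
    P2 ℓ (E.sys.fam i x) := by
  induction x using QuotientGroup.induction_on with
  | _ g =>
  obtain ⟨V, Nd, F, _, _, hQ, ⟨N⟩⟩ := h
  have hch : CharP F ℓ := by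
    -- `F` embeds in a group of exponent a power of `ℓ`
    obtain ⟨r, hr⟩ := CharP.exists F
    have hrp : r.Prime := CharP.char_is_prime F r
    have h1 : ∀ (n : ℕ) (a : F), N.x (n • a) = (N.x a) ^ n := by
      intro n a
      induction n with
      | zero => rw [zero_smul, pow_zero]; exact N.x_zero
      | succ n ih => rw [succ_nsmul, N.add, ih, pow_succ]
    obtain ⟨n, hn⟩ := E.S.isP ⟨N.x 1, N.mem 1⟩
    have h2 : (N.x 1) ^ ℓ ^ n = 1 := by simpa only [_root_.SubmonoidClass.mk_pow, _root_.OneMemClass.coe_one] using congrArg Subtype.val hn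
    rw [← h1] at h2
    have h3 : ((ℓ ^ n : ℕ) : F) = 0 := by
      rw [← nsmul_one]
      exact N.ne _ (by rw [h2]; exact one_mem _)
    rw [CharP.cast_eq_zero_iff F r] at h3
    have h4 := (Nat.prime_dvd_prime_iff_eq hrp Fact.out).1 (hrp.dvd_of_dvd_pow h3)
    rwa [← h4]
  exact P2.map _ (H14.CycNode.iso_mk E.S E.e E.cs E.hcs i Nd N g fun y f => Iff.rfl)
    (fun f₁ h1 f₂ h2 => T5Line.p2_line h5 h1 h2)

variable {E : Eng ℓ K M Q}

/-- the action of an automorphism on the chambers, type preserving -/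
structure Act (E : Eng ℓ K M Q) (x : MulAut K) (θ : Equiv.Perm (K ⧸ E.P.B)) : Prop where
  smul : ∀ (k : K) a, θ (k • a) = x k • θ a
  iso : ∀ a b, E.Δ.δ (θ a) (θ b) = E.Δ.δ a b

theorem Act.one : Act E 1 1 := ⟨fun _ _ => rfl, fun _ _ => rfl⟩

theorem Act.mul {x y : MulAut K} {θ η : Equiv.Perm (K ⧸ E.P.B)} (hx : Act E x θ) (hy : Act E y η) :
    Act E (x * y) (θ * η) where
  smul k a := by
    rw [Equiv.Perm.mul_apply, hy.smul, hx.smul]
    rfl
  iso a b := by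
    rw [Equiv.Perm.mul_apply, Equiv.Perm.mul_apply, hx.iso, hy.iso]

theorem Act.pow {x : MulAut K} {θ : Equiv.Perm (K ⧸ E.P.B)} (hx : Act E x θ) (n : ℕ) : Act E (x ^ n) (θ ^ n) := by
  induction n with
  | zero => rw [pow_zero, pow_zero]; exact Act.one
  | succ n ih => rw [pow_succ, pow_succ]; exact ih.mul hx

theorem Act.inner (g : K) : Act E (MulAut.conj g) (MulAction.toPerm g) where
  smul k a := by
    show g • (k • a) = (g * k * g⁻¹) • (g • a)
    simp only [smul_smul]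
    congr 1
    group
  iso a b := E.sys.iso g a b

theorem Act.inv {x : MulAut K} {θ : Equiv.Perm (K ⧸ E.P.B)} (hx : Act E x θ) : Act E x⁻¹ θ⁻¹ where
  smul k a := by
    rw [Equiv.Perm.inv_eq_iff_eq, hx.smul]
    show k • a = x (x⁻¹ k) • θ (θ⁻¹ a)
    have h1 : x (x⁻¹ k) = k := x.apply_symm_apply k
    have h2 : θ (θ⁻¹ a) = a := θ.apply_symm_apply a
    rw [h1, h2]
  iso a b := by
    have h2 : ∀ a, θ (θ⁻¹ a) = a := fun a => θ.apply_symm_apply a
    rw [← hx.iso, h2, h2]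

theorem Act.eq_one {θ : Equiv.Perm (K ⧸ E.P.B)} (h : Act E 1 θ) : θ = 1 :=
  E.perm_eq_one fun k c => h.smul k c

theorem Act.pow_eq_one {x : MulAut K} {θ : Equiv.Perm (K ⧸ E.P.B)} (hx : Act E x θ) {n : ℕ} (h : x ^ n = 1) :
    θ ^ n = 1 := by
  have := hx.pow n
  rw [h] at this
  exact this.eq_one

theorem Act.of_tw {t : Tw E.Δ K} (hσ : ∀ i, t.σ i = i) : Act E t.τ t.θ where
  smul k a := t.θ_smul k a
  iso a b := by rw [t.δ_θ, φ_eq hσ]

/-- the restriction to a panel -/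
theorem Act.mem_pan {x : MulAut K} {θ : Equiv.Perm (K ⧸ E.P.B)} (hx : Act E x θ) {c : K ⧸ E.P.B} (hc : θ c = c)
    (i : Fin l) (z : K ⧸ E.P.B) : z ∈ E.Δ.Pan i c ↔ θ z ∈ E.Δ.Pan i c := by
  rw [E.Δ.Pan_eq_Res, mem_Res, mem_Res]
  have h1 := hx.iso c z
  rw [hc] at h1
  rw [h1]

theorem Act.famStab {x : MulAut K} {θ : Equiv.Perm (K ⧸ E.P.B)} (hx : Act E x θ) {c : K ⧸ E.P.B} {i : Fin l}
    {f : Equiv.Perm (E.Δ.Pan i c)} (hf : ∀ z, (f z : K ⧸ E.P.B) = θ z) : f ∈ famStab (E.sys.fam i c) := by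
  have hfi : ∀ z, ((f⁻¹) z : K ⧸ E.P.B) = θ⁻¹ z := by
    intro z
    have h1 : f (f⁻¹ z) = z := f.apply_symm_apply z
    have h2 := congrArg Subtype.val h1
    rw [hf] at h2
    rw [Equiv.Perm.eq_inv_iff_eq]
    exact h2
  refine mem_famStab_of_forward ?_
  intro z g hg
  obtain ⟨u, hu, hgu⟩ := hg
  have hk : ∀ a : E.Δ.Pan i c, ((f * g * f⁻¹) a : K ⧸ E.P.B) = x u • (a : K ⧸ E.P.B) := by
    intro a
    rw [Equiv.Perm.mul_apply, Equiv.Perm.mul_apply, hf, hgu, hx.smul, hfi]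
    congr 1
    exact θ.apply_symm_apply _
  obtain ⟨n, hn⟩ := (E.sys.isP z) ⟨u, hu⟩
  have hn' : u ^ ℓ ^ n = 1 := by simpa only [_root_.SubmonoidClass.mk_pow, _root_.OneMemClass.coe_one] using congrArg Subtype.val hn
  have hgn : g ^ ℓ ^ n = 1 := by
    ext a
    rw [pow_smul_eq hgu, hn', one_smul]
    rfl
  have hwn : (f * g * f⁻¹) ^ ℓ ^ n = 1 := by
    rw [conj_pow, hgn, mul_one, mul_inv_cancel]
  have hgz : g z = z := Subtype.ext (by rw [hgu, E.sys.fix z u hu])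
  have hwz : (f * g * f⁻¹) (f z) = f z := by
    rw [Equiv.Perm.mul_apply, Equiv.Perm.mul_apply]
    have : f⁻¹ (f z) = z := f.symm_apply_apply z
    rw [this, hgz]
  obtain ⟨v, hv, h⟩ := exists_U_of_pElem E.sys hk hwz hwn
  exact ⟨v, hv, h⟩

/-- **Two automorphisms acting non-trivially on a panel of a common fixed chamber.** -/
theorem mpair_pan {x y : MulAut K} {θ η : Equiv.Perm (K ⧸ E.P.B)} (hx : Act E x θ) (hy : Act E y η)
    (ox : x ^ ℓ = 1) (oy : y ^ ℓ = 1) {c : K ⧸ E.P.B} (hxc : θ c = c) (hyc : η c = c) {i : Fin l}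
    (hnx : ∃ z ∈ E.Δ.Pan i c, θ z ≠ z) (hny : ∃ z ∈ E.Δ.Pan i c, η z ≠ z) (hP : P2 ℓ (E.sys.fam i c)) :
    MPair ℓ (MulAut.conj : K →* MulAut K).range x y := by
  let f₁ : Equiv.Perm (E.Δ.Pan i c) := θ.subtypePerm fun z => (hx.mem_pan hxc i z).symm
  let f₂ : Equiv.Perm (E.Δ.Pan i c) := η.subtypePerm fun z => (hy.mem_pan hyc i z).symm
  have hf₁ : ∀ z, (f₁ z : K ⧸ E.P.B) = θ z := fun z => rfl
  have hf₂ : ∀ z, (f₂ z : K ⧸ E.P.B) = η z := fun z => rfl
  have o1 : f₁ ^ ℓ = 1 := by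
    ext z
    rw [restr_pow hf₁, hx.pow_eq_one ox]
    rfl
  have o2 : f₂ ^ ℓ = 1 := by
    ext z
    rw [restr_pow hf₂, hy.pow_eq_one oy]
    rfl
  have n1 : f₁ ≠ 1 := by
    obtain ⟨z, hz, h⟩ := hnx
    intro h1
    apply h
    have := hf₁ ⟨z, hz⟩
    rw [h1] at this
    exact this.symm
  have n2 : f₂ ≠ 1 := by
    obtain ⟨z, hz, h⟩ := hny
    intro h1
    apply h
    have := hf₂ ⟨z, hz⟩
    rw [h1] at this
    exact this.symm
  obtain ⟨m, hm, a, b, h⟩ := hP f₁ (hx.famStab hf₁) f₂ (hy.famStab hf₂) o1 o2 n1 n2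
  obtain ⟨k, hk⟩ := (iSup_le fun z => fam_le_ActG E.sys z) hm
  have hki : ∀ z, ((m⁻¹) z : K ⧸ E.P.B) = k⁻¹ • (z : K ⧸ E.P.B) := by
    intro z
    rw [eq_inv_smul_iff, ← hk]
    congr 1
    exact m.apply_symm_apply z
  refine ⟨MulAut.conj k, ⟨k, rfl⟩, a, b, fun n hn => h n ?_⟩
  have h1 := ((hx.pow a).mul ((((Act.inner k).mul hy).mul (Act.inner k).inv).pow b)).pow_eq_one hn
  have h2 : ∀ z, ((m * f₂ * m⁻¹) z : K ⧸ E.P.B) =
      (MulAction.toPerm k * η * (MulAction.toPerm k)⁻¹ : Equiv.Perm (K ⧸ E.P.B)) z := by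
    intro z
    rw [Equiv.Perm.mul_apply, Equiv.Perm.mul_apply, hk, hf₂, hki]
    rfl
  have h3 : ∀ z, ((f₁ ^ a * (m * f₂ * m⁻¹) ^ b) z : K ⧸ E.P.B) =
      (θ ^ a * (MulAction.toPerm k * η * (MulAction.toPerm k)⁻¹) ^ b : Equiv.Perm (K ⧸ E.P.B)) z := by
    intro z
    rw [Equiv.Perm.mul_apply, restr_pow hf₁, restr_pow h2]
    rfl
  ext z
  rw [restr_pow h3, h1]
  rfl

/-- `x` acts non-trivially on a panel of type `i` of a fixed chamber -/
def TP (E : Eng ℓ K M Q) (x : MulAut K) (i : Fin l) : Prop :=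
  ∃ θ, Act E x θ ∧ ∃ c, θ c = c ∧ ∃ z ∈ E.Δ.Pan i c, θ z ≠ z

/-- **A common type.** -/
theorem TP.mpair (h5 : 5 ≤ ℓ) {i : Fin l} (hF : FNode E.P E.U (E.e i : K) (Q i)) {x y : MulAut K} (hx : TP E x i)
    (hy : TP E y i) (ox : x ^ ℓ = 1) (oy : y ^ ℓ = 1) : MPair ℓ (MulAut.conj : K →* MulAut K).range x y := by
  obtain ⟨θ, hθ, c, hc, z, hz, hz'⟩ := hx
  obtain ⟨η, hη, d, hd, w, hw, hw'⟩ := hy
  obtain ⟨g, rfl⟩ : ∃ g : K, g • d = c := by
    obtain ⟨a, rfl⟩ := QuotientGroup.mk_surjective c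
    obtain ⟨b, rfl⟩ := QuotientGroup.mk_surjective d
    exact ⟨a * b⁻¹, by rw [smul_mk, inv_mul_cancel_right]⟩
  refine MPair.conj_right (s := MulAut.conj g) ⟨g, rfl⟩ ?_
  have h1 : Act E (MulAut.conj g * y * (MulAut.conj g)⁻¹) (MulAction.toPerm g * η * (MulAction.toPerm g)⁻¹) :=
    ((Act.inner g).mul hη).mul (Act.inner g).inv
  have h2 : ∀ a, (MulAction.toPerm g * η * (MulAction.toPerm g)⁻¹ : Equiv.Perm (K ⧸ E.P.B)) (g • a) = g • η a := by
    intro a
    rw [Equiv.Perm.mul_apply, Equiv.Perm.mul_apply]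
    have : (MulAction.toPerm g)⁻¹ (g • a) = a := (MulAction.toPerm g).symm_apply_apply a
    rw [this]
    rfl
  refine mpair_pan hθ h1 ox ?_ hc (by rw [h2, hd]) ⟨z, hz, hz'⟩ ⟨g • w, ?_, ?_⟩ (p2_pan E h5 hF _)
  · rw [conj_pow, oy, mul_one, mul_inv_cancel]
  · have h3 := (Act.inner (E := E) g).iso d w
    rw [E.Δ.Pan_eq_Res, mem_Res] at hw ⊢
    rw [← h3] at hw
    exact hw
  · rw [h2]
    intro h3
    exact hw' (MulAction.injective g h3)

end Cfsg.Agent.H798.T5Pan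
end

-- part: H798/T5Tp
section
/-!
T5, defining characteristic (helper798): automorphisms and panels.

* `exists_eng_of` : the engine of a root group datum; `tp_of_NT` : inner automorphisms;
* `tp_of_diag` : an automorphism fixing the frame and moving an element of `X α_i`; `TP.conj_all`;
* `tp_of_ntau` : outer automorphisms act non-trivially on panels of all types.
-/

set_option autoImplicit false
set_option linter.unusedSectionVars false
set_option maxHeartbeats 400000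

namespace Cfsg.Agent.H798.T5Tp

open Cfsg CoxeterSystem Cfsg.Agent.ChevalleyStructure.CoxeterGeom Cfsg.Agent.Tits.Roots Cfsg.Agent.Tits.Core
  Cfsg.Agent.Tits.Core.Bldg
  Cfsg.Agent.Tits.OfBN Cfsg.Agent.Schreier.BNSch Cfsg.Agent.Tits.OppRes Cfsg.Agent.FixBN.OfBN
  Cfsg.Agent.Tits.RootComb Cfsg.Agent.Nodes.Comb Cfsg.Agent.Nodes.Reps Cfsg.Agent.Nodes.BNOf
  Cfsg.Agent.Nodes.StabComb Cfsg.Agent.Nodes.Bruhat Cfsg.Agent.Nodes.OppDec Cfsg.Agent.Nodes.LeviDec
  Cfsg.Agent.LieExceptional.BNPairCore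
open Cfsg.Agent.FixBN (Sys Split)
open Cfsg.Agent.FixOdd (Tw)
open Cfsg.Agent.H460.Typed Cfsg.Agent.H460.EllC Cfsg.Agent.H460.PanL
  Cfsg.Agent.H185.TypedTw Cfsg.Agent.H460.EllPan Cfsg.Agent.H460.Engine
open Cfsg.Agent.H694 (PJ_sub mem_PJ)
open Cfsg.Agent.KFacts.RgdAut Cfsg.Agent.KFacts.RgdDiag Cfsg.Agent.KFacts.RgdField Cfsg.Agent.KFacts.RgdNodes
open Cfsg.Agent.H798.T5Geo Cfsg.Agent.H798.T5Pan

variable {K : Type*} [Group K] [Finite K] {ℓ : ℕ} [Fact ℓ.Prime] {l : ℕ} {M : CoxeterMatrix (Fin l)} {Q : Fin l → ℕ}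
  {A : Fin l → Fin l → ℤ} {h : IsCartan M A} {T : Subgroup K} {n : Fin l → K}
  {X : (Fin l → ℤ) → Subgroup K} [Finite M.Group]

/-- **The engine of a root group datum.** -/
theorem exists_eng_of [IsSimpleGroup K] (R : RGD M.toCoxeterSystem h ℓ T n X)
    (hgen : RGD.B M.toCoxeterSystem h T X ⊔ NN M.toCoxeterSystem R.nsys = ⊤) (hT : Group.IsSolvable T)
    (hn : ∀ i, FNode (R.bnPair hgen) (RGD.Sup X (RGD.Pos M.toCoxeterSystem h)) (n i) (Q i)) (h2 : 1 ≤ l) :
    ∃ E : Eng ℓ K M Q, E.P.B = RGD.B M.toCoxeterSystem h T X ∧ (∀ i, (E.e i : K) = n i) ∧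
      ∀ i, FNode E.P E.U (E.e i : K) (Q i) := by
  have hne : (R.bnPair hgen).S.Nonempty := ⟨n ⟨0, h2⟩, ⟨0, h2⟩, rfl⟩
  have hcore := Cfsg.Agent.Tits.OfBN.normalCore_eq_bot (R.bnPair hgen) hne
  obtain ⟨hN, cs', hcs, hWP, hS⟩ := OddHalf.Table.AutRGD.exists_setup R hgen hcore
  exact ⟨⟨R.bnPair hgen, _, hS, hN, OddHalf.Table.AutRGD.eS R hgen, cs', hcs, hWP, sol_B R hgen hT hS, hcore,
    fun i => (hn i).lnode⟩, rfl, fun _ => rfl, hn⟩

variable (R : RGD M.toCoxeterSystem h ℓ T n X) {E : Eng ℓ K M Q} (hB : E.P.B = RGD.B M.toCoxeterSystem h T X)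
  (he : ∀ i, (E.e i : K) = n i)

/-- the chambers of a panel -/
theorem mem_pan (i : Fin l) (g : K) : (QuotientGroup.mk (g * (E.e i : K)) : K ⧸ E.P.B) ∈
    E.Δ.Pan i (QuotientGroup.mk g) := by
  rw [E.Δ.Pan_eq_Res, mem_Res, bldg_δ_mk, inv_mul_cancel_left, ← _root_.Cfsg.Agent.H694.mem_PJ E.e E.cs E.hcs, PJ_singleton]
  exact mem_parabolic_self E.P _

include R hB he

/-- **Inner automorphisms.** -/
theorem tp_of_NT {c : K} {i : Fin l} (hc : NT M.toCoxeterSystem h X c i) : TP E (MulAut.conj c) i := by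
  obtain ⟨g, h1, h2⟩ := hc
  refine ⟨_, Act.inner c, QuotientGroup.mk g⁻¹, ?_, QuotientGroup.mk (g⁻¹ * (E.e i : K)), mem_pan i g⁻¹, ?_⟩
  · show c • (QuotientGroup.mk g⁻¹ : K ⧸ E.P.B) = _
    rw [smul_mk_eq, inv_inv, hB]
    exact RGD.U_le_B h1
  · intro h3
    have h4 : c • (QuotientGroup.mk (g⁻¹ * (E.e i : K)) : K ⧸ E.P.B) = QuotientGroup.mk (g⁻¹ * (E.e i : K)) := h3
    rw [smul_mk_eq, hB, he] at h4
    apply h2
    have h5 : Rp M.toCoxeterSystem R.nsys (M.toCoxeterSystem.simple i) (n i)⁻¹ := by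
      have := (rp_simple M.toCoxeterSystem R.nsys i).inv
      rwa [M.toCoxeterSystem.inv_simple] at this
    refine mem_V_of_conj R h5 (a := i) ?_ h1 ?_
    · rw [rep_simple_sr]
      exact neg_nonpos.2 (sr_nonneg i)
    · have e : (n i)⁻¹ * (g * c * g⁻¹) * (n i)⁻¹⁻¹ = (g⁻¹ * n i)⁻¹ * c * (g⁻¹ * n i) := by group
      rwa [e]

/-- **Automorphisms fixing the frame.** -/
theorem tp_of_diag {φ : MulAut K} (D : _root_.Cfsg.Agent.KFacts.RgdDiag.Diag T X φ 1) (hA : ∀ σ : Equiv.Perm (Fin l), (∀ i j, M (σ i) (σ j) = M i j) →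
    σ ^ ℓ = 1 → σ = 1) (hφ : φ ^ ℓ = 1) {i : Fin l} {x : K} (hx : x ∈ X (sr i)) (hφx : φ x ≠ x) : TP E φ i := by
  obtain ⟨t, ht, hp⟩ := E.exists_t φ
  have hθ := hp ℓ hφ
  have hσ : ∀ i, t.σ i = i := fun i => by
    rw [hA t.σ (E.sigma_M t) (E.sigma_pow hθ)]; rfl
  have hact : Act E φ t.θ := by
    have := Act.of_tw (E := E) (t := t) hσ
    rwa [ht] at this
  have hX : ∀ z, IsRoot M.toCoxeterSystem h z → ∀ y, φ y ∈ X z ↔ y ∈ X z := by
    intro z hz y
    have := D.root_comp R (fun _ _ => rfl) hz y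
    exact this
  have hBB : ∀ b ∈ E.P.B, φ b ∈ E.P.B := by
    intro b hb
    rw [hB] at hb ⊢
    have h1 : RGD.B M.toCoxeterSystem h T X ≤ (RGD.B M.toCoxeterSystem h T X).comap φ.toMonoidHom := by
      refine sup_le (fun y hy => ?_) (RGD.Sup_le fun z hz y hy => ?_)
      · exact RGD.T_le_B ((D.tor y).2 hy)
      · exact RGD.U_le_B (RGD.le_Sup (S := RGD.Pos M.toCoxeterSystem h) hz ((hX z hz.1 y).2 hy))
    exact h1 hb
  have hc : t.θ (QuotientGroup.mk 1) = QuotientGroup.mk 1 := by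
    refine (_root_.Cfsg.Agent.H460.Engine.fixed_iff t 1).2 fun b hb => ?_
    rw [H459.Gallery.cx_one, ht]
    exact hBB b hb
  refine ⟨t.θ, hact, QuotientGroup.mk 1, hc, QuotientGroup.mk (1 * (x * n i)), ?_, ?_⟩
  · rw [E.Δ.Pan_eq_Res, mem_Res, bldg_δ_mk, inv_mul_cancel_left, ← _root_.Cfsg.Agent.H694.mem_PJ E.e E.cs E.hcs, PJ_singleton, ← he i]
    refine mul_mem (B_le_parabolic E.P _ ?_) (mem_parabolic_self E.P _)
    rw [hB]
    exact RGD.X_le_B (isRoot_sr _ h i) (sr_nonneg i) hx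
  · rw [theta_mk_of_fixed hc, H459.Gallery.cx_one, ht]
    intro h1
    have h2 := mk_eq.1 h1.symm
    have h3 : Rp M.toCoxeterSystem R.nsys (M.toCoxeterSystem.simple i) (φ (n i)) := D.rp (R := R) i
    have h4 : (n i)⁻¹ * φ (n i) ∈ T := by
      have := (rp_simple M.toCoxeterSystem R.nsys i).inv.mul h3
      rw [inv_mul_cancel] at this
      exact this.mem_of_one
    have h5 : (n i)⁻¹ * (x⁻¹ * φ x) * (n i)⁻¹⁻¹ ∈ RGD.B M.toCoxeterSystem h T X := by
      rw [hB] at h2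
      have e : (n i)⁻¹ * (x⁻¹ * φ x) * (n i)⁻¹⁻¹ = (1 * (x * n i))⁻¹ * (1 * φ (x * n i)) * ((n i)⁻¹ * φ (n i))⁻¹ := by
        rw [map_mul]; group
      rw [e]
      exact mul_mem h2 (inv_mem (RGD.T_le_B h4))
    have h6 := eq_one_of_conj_mem_B R (i := i) (mul_mem (inv_mem hx) ((hX _ (isRoot_sr _ h i) x).2 hx))
      (by
        have := (rp_simple M.toCoxeterSystem R.nsys i).inv
        rwa [M.toCoxeterSystem.inv_simple] at this) h5
    exact hφx (inv_mul_eq_one.1 h6).symm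

omit R hB he in
omit [Finite M.Group] in
/-- conjugation by arbitrary automorphisms -/
theorem TP.conj_all {φ : MulAut K} (hφ : ∀ i, TP E φ i) (e : MulAut K) : ∀ i, TP E (e * φ * e⁻¹) i := by
  intro i
  obtain ⟨t, ht, -⟩ := E.exists_t e
  obtain ⟨j, hj⟩ := t.σ.surjective i
  obtain ⟨θ, hθ, c, hc, z, hz, hz'⟩ := hφ j
  have hinv : ∀ a, t.θ (t.θ⁻¹ a) = a := fun a => t.θ.apply_symm_apply a
  have hinv' : ∀ a, t.θ⁻¹ (t.θ a) = a := fun a => t.θ.symm_apply_apply a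
  refine ⟨t.θ * θ * t.θ⁻¹, ⟨fun k a => ?_, fun a b => ?_⟩, t.θ c, ?_, t.θ z, ?_, ?_⟩
  · have h1 : t.θ⁻¹ (k • a) = (e⁻¹ k) • t.θ⁻¹ a := by
      rw [Equiv.Perm.inv_eq_iff_eq, t.θ_smul, hinv, ht]
      have : e (e⁻¹ k) = k := e.apply_symm_apply k
      rw [this]
    show t.θ (θ (t.θ⁻¹ (k • a))) = (e * φ * e⁻¹) k • t.θ (θ (t.θ⁻¹ a))
    rw [h1, hθ.smul, t.θ_smul, ht]
    rfl
  · show E.Δ.δ (t.θ (θ (t.θ⁻¹ a))) (t.θ (θ (t.θ⁻¹ b))) = _
    rw [t.δ_θ, hθ.iso, ← t.δ_θ, hinv, hinv]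
  · show t.θ (θ (t.θ⁻¹ (t.θ c))) = _
    rw [hinv', hc]
  · rw [← hj]
    rcases hz with hz | hz
    · left; rw [hz]
    · right
      show E.Δ.δ (t.θ c) (t.θ z) = _
      rw [t.δ_θ, hz, t.φ_simple]
  · show t.θ (θ (t.θ⁻¹ (t.θ z))) ≠ _
    rw [hinv']
    exact fun h1 => hz' (t.θ.injective h1)

/-- **Outer automorphisms.** -/
theorem tp_of_ntau {F : Fin l → Type*} [∀ i, Field (F i)] {x : ∀ i, F i → K} {χ : ∀ i, K → F i}
    (C : ∀ i, Coord T (X (sr i)) (x i) (χ i)) (hA : ∀ σ : Equiv.Perm (Fin l), (∀ i j, M (σ i) (σ j) = M i j) →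
      σ ^ ℓ = 1 → σ = 1) {φ : MulAut K} (hφ : φ ^ ℓ = 1) {τ : ∀ i, F i ≃+* F i} (D : NTau T X χ φ τ)
    (hτ : ∀ i, τ i ≠ 1) : ∀ i, TP E φ i := by
  intro i
  by_contra hno
  have h1 : ∀ a, φ (x i a) = x i a := by
    intro a
    by_contra hne
    exact hno (tp_of_diag R hB he D.diag hA hφ (((C i).mem _).2 ⟨a, rfl⟩) hne)
  apply hτ i
  have h2 : ∀ t ∈ T, τ i (χ i t) = χ i t := by
    intro t ht
    have h3 := congrArg φ ((C i).act t ht 1)
    rw [map_mul, map_mul, map_inv, h1, h1, (C i).act _ ((D.diag.tor t).2 ht)] at h3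
    have h4 := (C i).inj h3
    rw [mul_one, mul_one, D.char i t ht] at h4
    exact h4
  ext y
  have h3 : y ∈ AddSubgroup.closure (χ i '' (T : Set K)) := by rw [(C i).span]; trivial
  show τ i y = y
  induction h3 using AddSubgroup.closure_induction with
  | mem y hy =>
    obtain ⟨t, ht, rfl⟩ := hy
    exact h2 t ht
  | zero => exact map_zero _
  | add a b _ _ ha hb => rw [map_add, ha, hb]
  | neg a _ ha => rw [map_neg, ha]

end Cfsg.Agent.H798.T5Tp
end

-- part: H798/T5Asm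
section
/-!
T5, defining characteristic (helper798): assembly.

* `mrow_of`, `wrow_of` : `MRow` / `WRow` from common types for pairs of inner elements, and outer elements of all types;
* `nt_all_of_conn` : simply laced connected diagrams.
-/

set_option autoImplicit false
set_option linter.unusedSectionVars false
set_option maxHeartbeats 400000

namespace Cfsg.Agent.H798.T5Asm

open Cfsg CoxeterSystem Cfsg.Agent.ChevalleyStructure.CoxeterGeom Cfsg.Agent.Tits.Roots Cfsg.Agent.Tits.Core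
  Cfsg.Agent.Tits.Core.Bldg
  Cfsg.Agent.Tits.OfBN Cfsg.Agent.Schreier.BNSch Cfsg.Agent.Tits.OppRes Cfsg.Agent.FixBN.OfBN
  Cfsg.Agent.Tits.RootComb Cfsg.Agent.Nodes.Comb Cfsg.Agent.Nodes.Reps Cfsg.Agent.Nodes.BNOf
  Cfsg.Agent.Nodes.StabComb Cfsg.Agent.Nodes.Bruhat Cfsg.Agent.Nodes.OppDec Cfsg.Agent.Nodes.LeviDec
  Cfsg.Agent.LieExceptional.BNPairCore
open Cfsg.Agent.H460.Typed Cfsg.Agent.H460.EllC Cfsg.Agent.H460.PanL
  Cfsg.Agent.H185.TypedTw Cfsg.Agent.H460.EllPan Cfsg.Agent.H460.Engine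
open Cfsg.Agent.H533.T5 Cfsg.Agent.H957.T5M
open Cfsg.Agent.H798.T5Geo Cfsg.Agent.H798.T5Pan Cfsg.Agent.H798.T5Tp

section Asm

variable {K : Type*} [Group K] [Finite K] {ℓ : ℕ} [Fact ℓ.Prime] {l : ℕ} {M : CoxeterMatrix (Fin l)} {Q : Fin l → ℕ}
  {A : Fin l → Fin l → ℤ} {h : IsCartan M A} {T : Subgroup K} {n : Fin l → K}
  {X : (Fin l → ℤ) → Subgroup K} [Finite M.Group]

omit [Finite K] [Finite M.Group] in
/-- the kernel of `conj` -/
theorem exists_of_inner [IsSimpleGroup K] (hc : ∃ a b : K, a * b ≠ b * a) {c : MulAut K}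
    (hi : ∃ g : K, c = MulAut.conj g) (ho : orderOf c = ℓ) :
    ∃ x : K, c = MulAut.conj x ∧ x ^ ℓ = 1 ∧ x ≠ 1 := by
  obtain ⟨x, rfl⟩ := hi
  have hp : ℓ.Prime := Fact.out
  refine ⟨x, rfl, ?_, ?_⟩
  · have h1 : MulAut.conj (x ^ ℓ) = 1 := by rw [map_pow, ← ho, pow_orderOf_eq_one]
    have h2 : x ^ ℓ ∈ Subgroup.center K := by
      rw [Subgroup.mem_center_iff]
      intro g
      have h3 : x ^ ℓ * g * (x ^ ℓ)⁻¹ = g := by
        have := congrArg (fun f : MulAut K => f g) h1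
        rwa [MulAut.conj_apply, MulAut.one_apply] at this
      calc g * x ^ ℓ = x ^ ℓ * g * (x ^ ℓ)⁻¹ * x ^ ℓ := by rw [h3]
        _ = x ^ ℓ * g := by group
    rcases (inferInstance : (Subgroup.center K).Normal).eq_bot_or_eq_top with h3 | h3
    · rwa [h3, Subgroup.mem_bot] at h2
    · exfalso
      obtain ⟨a, b, hab⟩ := hc
      apply hab
      have : b ∈ Subgroup.center K := h3 ▸ Subgroup.mem_top b
      exact Subgroup.mem_center_iff.1 this a
  · rintro rfl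
    rw [map_one, orderOf_one] at ho
    exact hp.one_lt.ne ho

variable (R : RGD M.toCoxeterSystem h ℓ T n X) {E : Eng ℓ K M Q} (hB : E.P.B = RGD.B M.toCoxeterSystem h T X)
  (he : ∀ i, (E.e i : K) = n i)

include R hB he

/-- a common type -/
theorem mpair_of_TP (h5 : 5 ≤ ℓ) (hF : ∀ i, FNode E.P E.U (E.e i : K) (Q i)) {c d : MulAut K} (hc : c ^ ℓ = 1)
    (hd : d ^ ℓ = 1) {i : Fin l} (hci : TP E c i) (hdi : TP E d i) : MPair ℓ (MulAut.conj : K →* MulAut K).range c d :=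
  hci.mpair h5 (hF i) hdi hc hd

/-- **The middle row.** -/
theorem mrow_of [IsSimpleGroup K] [Nonempty (Fin l)] (hcc : ∃ a b : K, a * b ≠ b * a)
    (hG : GG M.toCoxeterSystem h T X = ⊤) (h5 : 5 ≤ ℓ)
    (hF : ∀ i, FNode E.P E.U (E.e i : K) (Q i))
    (hin : ∀ x y : K, x ^ ℓ = 1 → y ^ ℓ = 1 → x ≠ 1 → y ≠ 1 →
      (∃ i, NT M.toCoxeterSystem h X x i ∧ NT M.toCoxeterSystem h X y i) ∨
        MPair ℓ (MulAut.conj : K →* MulAut K).range (MulAut.conj x) (MulAut.conj y))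
    (hout : ∀ c : MulAut K, orderOf c = ℓ → (∃ g : K, c = MulAut.conj g) ∨ ∀ i, TP E c i) : MRow ℓ K := by
  obtain ⟨i0⟩ := (inferInstance : Nonempty (Fin l))
  have pw : ∀ {c : MulAut K}, orderOf c = ℓ → c ^ ℓ = 1 := fun {c} hc => by rw [← hc, pow_orderOf_eq_one]
  have hNT : ∀ x : K, x ^ ℓ = 1 → x ≠ 1 → ∃ i, NT M.toCoxeterSystem h X x i := by
    intro x hx hx1
    refine exists_NT R hG ?_ hx1
    rw [IsPGroup.iff_card]
    refine ⟨1, ?_⟩
    rw [Nat.card_zpowers, pow_one, orderOf_eq_prime hx hx1]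
  intro c d hc hd
  rcases hout c hc with hc1 | hc1
  · obtain ⟨x, rfl, hx, hx1⟩ := exists_of_inner hcc hc1 hc
    rcases hout d hd with hd1 | hd1
    · obtain ⟨y, rfl, hy, hy1⟩ := exists_of_inner hcc hd1 hd
      rcases hin x y hx hy hx1 hy1 with ⟨i, h1, h2⟩ | h1
      · exact mpair_of_TP R hB he h5 hF (pw hc) (pw hd) (tp_of_NT R hB he h1) (tp_of_NT R hB he h2)
      · exact h1
    · obtain ⟨i, hi⟩ := hNT x hx hx1
      exact mpair_of_TP R hB he h5 hF (pw hc) (pw hd) (tp_of_NT R hB he hi) (hd1 i)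
  · rcases hout d hd with hd1 | hd1
    · obtain ⟨y, rfl, hy, hy1⟩ := exists_of_inner hcc hd1 hd
      obtain ⟨i, hi⟩ := hNT y hy hy1
      exact mpair_of_TP R hB he h5 hF (pw hc) (pw hd) (hc1 i) (tp_of_NT R hB he hi)
    · exact mpair_of_TP R hB he h5 hF (pw hc) (pw hd) (hc1 i0) (hd1 i0)

/-- **The weak row.** -/
theorem wrow_of [IsSimpleGroup K] [Nonempty (Fin l)] (hcc : ∃ a b : K, a * b ≠ b * a)
    (hG : GG M.toCoxeterSystem h T X = ⊤) (h5 : 5 ≤ ℓ)
    (hF : ∀ i, FNode E.P E.U (E.e i : K) (Q i))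
    (hin : ∀ x y : K, x ^ ℓ = 1 → y ^ ℓ = 1 → x ≠ 1 → y ≠ 1 →
      (∃ i, NT M.toCoxeterSystem h X x i ∧ NT M.toCoxeterSystem h X y i) ∨
        WPair ℓ (⊤ : Subgroup K) x y)
    (hout : ∀ c : MulAut K, orderOf c = ℓ → (∃ g : K, c = MulAut.conj g) ∨ ∀ i, TP E c i) : WRow ℓ K := by
  obtain ⟨i0⟩ := (inferInstance : Nonempty (Fin l))
  have pw : ∀ {c : MulAut K}, orderOf c = ℓ → c ^ ℓ = 1 := fun {c} hc => by rw [← hc, pow_orderOf_eq_one]
  have hNT : ∀ x : K, x ^ ℓ = 1 → x ≠ 1 → ∃ i, NT M.toCoxeterSystem h X x i := by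
    intro x hx hx1
    refine exists_NT R hG ?_ hx1
    rw [IsPGroup.iff_card]
    refine ⟨1, ?_⟩
    rw [Nat.card_zpowers, pow_one, orderOf_eq_prime hx hx1]
  have hinj : Function.Injective (MulAut.conj : K →* MulAut K) := by
    rw [injective_iff_map_eq_one]
    intro x hx
    by_contra hx1
    rcases (inferInstance : (MulAut.conj : K →* MulAut K).ker.Normal).eq_bot_or_eq_top with h3 | h3
    · apply hx1
      rw [← Subgroup.mem_bot, ← h3]
      exact hx
    · obtain ⟨a, b, hab⟩ := hcc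
      apply hab
      have h4 : a ∈ (MulAut.conj : K →* MulAut K).ker := h3 ▸ Subgroup.mem_top a
      have h5 : a * b * a⁻¹ = b := by
        have := congrArg (fun f : MulAut K => f b) (MonoidHom.mem_ker.1 h4)
        simpa only [_root_.MulAut.conj_apply, _root_.MulAut.one_apply] using this
      calc a * b = a * b * a⁻¹ * a := by group
        _ = b * a := by rw [h5]
  intro c d hc hd
  rcases hout c hc with hc1 | hc1
  · obtain ⟨x, rfl, hx, hx1⟩ := exists_of_inner hcc hc1 hc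
    rcases hout d hd with hd1 | hd1
    · obtain ⟨y, rfl, hy, hy1⟩ := exists_of_inner hcc hd1 hd
      rcases hin x y hx hy hx1 hy1 with ⟨i, h1, h2⟩ | h1
      · exact (mpair_of_TP R hB he h5 hF (pw hc) (pw hd) (tp_of_NT R hB he h1) (tp_of_NT R hB he h2)).weak
      · obtain ⟨g, -, h2⟩ := h1
        refine ⟨MulAut.conj g, ⟨g, rfl⟩, fun h3 => h2 ?_⟩
        have h4 := closure_pair_map (MulAut.conj : K →* MulAut K) x (g * y * g⁻¹)
        rw [map_mul, map_mul, map_inv] at h4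
        rw [← h4] at h3
        exact (h3.comap_of_injective (MulAut.conj : K →* MulAut K) hinj).to_le (Subgroup.le_comap_map _ _)
    · obtain ⟨i, hi⟩ := hNT x hx hx1
      exact (mpair_of_TP R hB he h5 hF (pw hc) (pw hd) (tp_of_NT R hB he hi) (hd1 i)).weak
  · rcases hout d hd with hd1 | hd1
    · obtain ⟨y, rfl, hy, hy1⟩ := exists_of_inner hcc hd1 hd
      obtain ⟨i, hi⟩ := hNT y hy hy1
      exact (mpair_of_TP R hB he h5 hF (pw hc) (pw hd) (hc1 i) (tp_of_NT R hB he hi)).weak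
    · exact (mpair_of_TP R hB he h5 hF (pw hc) (pw hd) (hc1 i0) (hd1 i0)).weak

end Asm

section Conn

variable {I W Y : Type*} [Fintype I] [DecidableEq I] [Group W] [Group Y] {M : CoxeterMatrix I}
  {cs : CoxeterSystem M W} {A : I → I → ℤ} {h : IsCartan M A} {p : ℕ} {T : Subgroup Y} {n : I → Y}
  {X : (I → ℤ) → Subgroup Y} [Finite W]

/-- Simply laced connected diagrams: all types occur. -/
theorem nt_all_of_conn (R : RGD cs h p T n X)
    (hconn : ∀ J : Set I, J.Nonempty → J ≠ Set.univ → ∃ a ∈ J, ∃ b, b ∉ J ∧ M a b ≠ 2)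
    (hM : ∀ i j, i ≠ j → M i j = 2 ∨ M i j = 3) {x : Y} {i : I} (hx : NT cs h X x i) (j : I) : NT cs h X x j := by
  by_contra hj
  obtain ⟨a, ha, b, hb, hab⟩ := hconn {k | NT cs h X x k} ⟨i, hx⟩ (fun h1 => hj (by
    have : j ∈ {k | NT cs h X x k} := h1 ▸ Set.mem_univ j
    exact this))
  have hne : b ≠ a := by rintro rfl; exact hb ha
  have h3 : M b a = 3 := by
    rcases hM b a hne with h1 | h1
    · rw [M.symmetric] at h1
      exact absurd h1 hab
    · exact h1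
  exact hb (T5Root.NT.of_three R h3 ha)

end Conn

end Cfsg.Agent.H798.T5Asm
end

private theorem dce_cac51895cd71 : _root_.True := by
  try have : _root_.True := by simp only [_root_.Cfsg.Agent.H798.T5Line.om.eq_1]
  exact _root_.True.intro
end

-- part: H798/T5Untw
section
prune_inst 0x56030504062120000008596312000041c000422006084008ce102000208c3624980a941042031135a0aa80120010000001000f000600000042000000001000000081206d1c90100660098001084000000000000000000000000000000000004000000000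
set_option linter.all false
open scoped Cfsg.Agent.FastGrp

-- part: H798/T5BTwo
section
/-!
T5, defining characteristic, part 4 (helper798): double bonds with the Chevalley commutator formula.

* `rt_B2`, `rt_G2` : the roots of a double / triple bond;
* `nc_of_intComm` : `M i j = 4`, `A i j = -1`, `IntComm`, `p` odd ⟹ `Nc i j`.
-/

set_option autoImplicit false
set_option linter.unusedSectionVars false
set_option maxHeartbeats 400000

namespace Cfsg.Agent.H798.T5BTwo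

open CoxeterSystem Cfsg.Agent.ChevalleyStructure.CoxeterGeom Cfsg.Agent.Tits.Roots Cfsg.Agent.Tits.Core
  Cfsg.Agent.Tits.RootComb Cfsg.Agent.Tits.Exchange Cfsg.Agent.Nodes.Reps Cfsg.Agent.Nodes.BNOf
  Cfsg.Agent.Nodes.StabComb Cfsg.Agent.Nodes.Bruhat Cfsg.Agent.Nodes.OppDec Cfsg.Agent.Nodes.LeviDec
  Cfsg.Agent.Nodes.Coroot Cfsg.Agent.KFacts.RgdSL Cfsg.Agent.KFacts.RgdBorelTits Cfsg.Agent.KFacts.RgdFilt
  Cfsg.Agent.H533.T5 Cfsg.Agent.H798.T5Geo Cfsg.Agent.H798.T5Root Cfsg.Agent.H798.T5Bond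
open scoped commutatorElement

variable {I W Y : Type*} [Fintype I] [DecidableEq I] [Group W] [Group Y] {M : CoxeterMatrix I}
  {cs : CoxeterSystem M W} {A : I → I → ℤ} {h : IsCartan M A} {p : ℕ} {T : Subgroup Y} {n : I → Y}
  {X : (I → ℤ) → Subgroup Y}

/-! ### roots -/

/-- sign and primitivity, in a form for case splits -/
def Sg (a g : ℤ) : Prop := (0 ≤ a ∧ 0 ≤ g ∨ a ≤ 0 ∧ g ≤ 0) ∧ (g = 0 → a = 1 ∨ a = -1) ∧ (a = 0 → g = 1 ∨ g = -1)

theorem arith_B2 {a g : ℤ} (e0 : Sg a g) (e1 : Sg (-a - -1 * g) g) (e2 : Sg a (-g - -2 * a))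
    (e3 : Sg (-a - -1 * (-g - -2 * a)) (-g - -2 * a)) : (a = 1 ∧ g = 0) ∨ (a = -1 ∧ g = 0) ∨ (a = 0 ∧ g = 1) ∨
      (a = 0 ∧ g = -1) ∨ (a = 1 ∧ g = 1) ∨ (a = -1 ∧ g = -1) ∨ (a = 1 ∧ g = 2) ∨ (a = -1 ∧ g = -2) := by
  by_cases c1 : a = 0
  · rcases e0.2.2 c1 with h1 | h1 <;> omega
  by_cases c2 : g = 0
  · rcases e0.2.1 c2 with h1 | h1 <;> omega
  by_cases c3 : -a - -1 * g = 0
  · rcases e1.2.2 c3 with h1 | h1 <;> omega
  by_cases c4 : -g - -2 * a = 0
  · rcases e2.2.1 c4 with h1 | h1 <;> omega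
  exfalso
  rcases e0.1 with h0 | h0 <;> rcases e1.1 with h1 | h1 <;> rcases e2.1 with h2 | h2 <;>
    rcases e3.1 with h3 | h3 <;> (clear * - c3 h0 h1 h3 c4 h2 c1 c2; omega)

theorem arith_G2 {a g : ℤ} (e0 : Sg a g) (e1 : Sg (-a - -1 * g) g) (e2 : Sg a (-g - -3 * a))
    (e3 : Sg (-a - -1 * (-g - -3 * a)) (-g - -3 * a))
    (e4 : Sg (-a - -1 * g) (-g - -3 * (-a - -1 * g)))
    (e5 : Sg (-(-a - -1 * g) - -1 * (-g - -3 * (-a - -1 * g))) (-g - -3 * (-a - -1 * g))) :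
      (a = 1 ∧ g = 0) ∨ (a = -1 ∧ g = 0) ∨ (a = 0 ∧ g = 1) ∨ (a = 0 ∧ g = -1) ∨
      (a = 1 ∧ g = 1) ∨ (a = -1 ∧ g = -1) ∨ (a = 1 ∧ g = 2) ∨ (a = -1 ∧ g = -2) ∨
      (a = 1 ∧ g = 3) ∨ (a = -1 ∧ g = -3) ∨ (a = 2 ∧ g = 3) ∨ (a = -2 ∧ g = -3) := by
  by_cases c1 : a = 0
  · rcases e0.2.2 c1 with h1 | h1 <;> simp [c1, h1]
  by_cases c2 : g = 0
  · rcases e0.2.1 c2 with h1 | h1 <;> simp [c2, h1]
  by_cases c3 : -a - -1 * g = 0
  · have h2 : a = g := by omega
    rcases e1.2.2 c3 with h1 | h1 <;> simp [h2, h1]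
  by_cases c4 : -g - -3 * a = 0
  · have h2 : g = 3 * a := by omega
    rcases e2.2.1 c4 with h1 | h1 <;> simp [h2, h1]
  by_cases c5 : -a - -1 * (-g - -3 * a) = 0
  · have h2 : g = 2 * a := by omega
    rcases e3.2.2 c5 with h1 | h1
    · have h3 : a = 1 := by omega
      simp [h2, h3]
    · have h3 : a = -1 := by omega
      simp [h2, h3]
  by_cases c6 : -g - -3 * (-a - -1 * g) = 0
  · rcases e4.2.1 c6 with h1 | h1
    · have h3 : a = 2 := by omega
      have h4 : g = 3 := by omega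
      simp [h4, h3]
    · have h3 : a = -2 := by omega
      have h4 : g = -3 := by omega
      simp [h4, h3]
  exfalso
  rcases e0.1 with h0 | h0 <;> rcases e1.1 with h1 | h1 <;> rcases e2.1 with h2 | h2 <;>
    rcases e3.1 with h3 | h3 <;> rcases e4.1 with h4 | h4 <;> rcases e5.1 with h5 | h5 <;> (clear * - c5 h1 h3 h5 c6 h4 h0 c3 c4 h2 c1 c2; omega)

theorem rt_B2 {i j : I} (hij : i ≠ j) (h1 : A i j = -1) (h2 : A j i = -2) {a g : ℤ}
    (hx : IsRoot cs h (_root_.Cfsg.Agent.H798.T5Root.rt i j a g)) : (a = 1 ∧ g = 0) ∨ (a = -1 ∧ g = 0) ∨ (a = 0 ∧ g = 1) ∨ (a = 0 ∧ g = -1) ∨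
      (a = 1 ∧ g = 1) ∨ (a = -1 ∧ g = -1) ∨ (a = 1 ∧ g = 2) ∨ (a = -1 ∧ g = -2) := by
  have hx1 := hx.act (cs.simple i)
  rw [rep_left, h1] at hx1
  have hx2 := hx.act (cs.simple j)
  rw [rep_right, h2] at hx2
  have hx3 := hx2.act (cs.simple i)
  rw [rep_left, h1] at hx3
  exact arith_B2 (rt_sign hij hx) (rt_sign hij hx1) (rt_sign hij hx2) (rt_sign hij hx3)

theorem rt_B2_root {i j : I} (h1 : A i j = -1) (h2 : A j i = -2) : IsRoot cs h (_root_.Cfsg.Agent.H798.T5Root.rt i j 1 0) ∧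
    IsRoot cs h (_root_.Cfsg.Agent.H798.T5Root.rt i j 0 1) ∧ IsRoot cs h (_root_.Cfsg.Agent.H798.T5Root.rt i j 1 1) ∧ IsRoot cs h (_root_.Cfsg.Agent.H798.T5Root.rt i j 1 2) := by
  have r1 : IsRoot cs h (_root_.Cfsg.Agent.H798.T5Root.rt i j 1 0) := by rw [rt_one_zero]; exact isRoot_sr cs h i
  have r2 : IsRoot cs h (_root_.Cfsg.Agent.H798.T5Root.rt i j 0 1) := by rw [rt_zero_one]; exact isRoot_sr cs h j
  have r3 := r2.act (cs.simple i)
  rw [rep_left, h1] at r3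
  have r4 := r1.act (cs.simple j)
  rw [rep_right, h2] at r4
  exact ⟨r1, r2, by simpa using r3, by simpa using r4⟩

theorem rt_G2 {i j : I} (hij : i ≠ j) (h1 : A i j = -1) (h2 : A j i = -3) {a g : ℤ}
    (hx : IsRoot cs h (_root_.Cfsg.Agent.H798.T5Root.rt i j a g)) : (a = 1 ∧ g = 0) ∨ (a = -1 ∧ g = 0) ∨ (a = 0 ∧ g = 1) ∨ (a = 0 ∧ g = -1) ∨
      (a = 1 ∧ g = 1) ∨ (a = -1 ∧ g = -1) ∨ (a = 1 ∧ g = 2) ∨ (a = -1 ∧ g = -2) ∨
      (a = 1 ∧ g = 3) ∨ (a = -1 ∧ g = -3) ∨ (a = 2 ∧ g = 3) ∨ (a = -2 ∧ g = -3) := by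
  have hx1 := hx.act (cs.simple i)
  rw [rep_left, h1] at hx1
  have hx2 := hx.act (cs.simple j)
  rw [rep_right, h2] at hx2
  have hx3 := hx2.act (cs.simple i)
  rw [rep_left, h1] at hx3
  have hx4 := hx1.act (cs.simple j)
  rw [rep_right, h2] at hx4
  have hx5 := hx4.act (cs.simple i)
  rw [rep_left, h1] at hx5
  exact arith_G2 (rt_sign hij hx) (rt_sign hij hx1) (rt_sign hij hx2) (rt_sign hij hx3) (rt_sign hij hx4)
    (rt_sign hij hx5)

theorem rt_G2_root {i j : I} (h1 : A i j = -1) (h2 : A j i = -3) : IsRoot cs h (_root_.Cfsg.Agent.H798.T5Root.rt i j 1 0) ∧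
    IsRoot cs h (_root_.Cfsg.Agent.H798.T5Root.rt i j 0 1) ∧ IsRoot cs h (_root_.Cfsg.Agent.H798.T5Root.rt i j 1 1) ∧ IsRoot cs h (_root_.Cfsg.Agent.H798.T5Root.rt i j 1 2) ∧ IsRoot cs h (_root_.Cfsg.Agent.H798.T5Root.rt i j 1 3) ∧
    IsRoot cs h (_root_.Cfsg.Agent.H798.T5Root.rt i j 2 3) := by
  have r1 : IsRoot cs h (_root_.Cfsg.Agent.H798.T5Root.rt i j 1 0) := by rw [rt_one_zero]; exact isRoot_sr cs h i
  have r2 : IsRoot cs h (_root_.Cfsg.Agent.H798.T5Root.rt i j 0 1) := by rw [rt_zero_one]; exact isRoot_sr cs h j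
  have r3 := r2.act (cs.simple i)
  rw [rep_left, h1] at r3
  have r4 := r1.act (cs.simple j)
  rw [rep_right, h2] at r4
  have r5 := r3.act (cs.simple j)
  rw [rep_right, h2] at r5
  have r6 := r4.act (cs.simple i)
  rw [rep_left, h1] at r6
  exact ⟨r1, r2, by simpa using r3, by simpa using r5, by simpa using r4, by simpa using r6⟩

/-! ### tools -/

/-- The commutator formula in the plane of two nodes. -/
theorem comm_le (hI : IntComm cs h X) {i j : I} (hij : i ≠ j) {a g a' g' : ℤ} (hx : IsRoot cs h (_root_.Cfsg.Agent.H798.T5Root.rt i j a g))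
    (hy : IsRoot cs h (_root_.Cfsg.Agent.H798.T5Root.rt i j a' g')) (hne : ¬ (a = a' ∧ g = g')) (hne' : ¬ (a = -a' ∧ g = -g')) {K : Subgroup Y}
    (hK : ∀ m k : ℤ, 0 < m → 0 < k → IsRoot cs h (_root_.Cfsg.Agent.H798.T5Root.rt i j (m * a + k * a') (m * g + k * g')) →
      X (_root_.Cfsg.Agent.H798.T5Root.rt i j (m * a + k * a') (m * g + k * g')) ≤ K) {u v : Y} (hu : u ∈ X (_root_.Cfsg.Agent.H798.T5Root.rt i j a g))
    (hv : v ∈ X (_root_.Cfsg.Agent.H798.T5Root.rt i j a' g')) : ⁅u, v⁆ ∈ K := by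
  refine FS_le (G := X) (S := {z | IB cs h (_root_.Cfsg.Agent.H798.T5Root.rt i j a g) (_root_.Cfsg.Agent.H798.T5Root.rt i j a' g') z}) ?_
    (hI _ _ hx hy (fun h1 => hne ((rt_inj hij).1 h1)) (fun h1 => hne' ?_) u hu v hv)
  · rintro z ⟨hz, m, k, hm, hk, rfl⟩
    rw [rt_comb] at hz ⊢
    exact hK m k hm hk hz
  · rw [rt_neg] at h1
    exact (rt_inj hij).1 h1

/-- no roots in between -/
theorem commute_of (hI : IntComm cs h X) {i j : I} (hij : i ≠ j) {a g a' g' : ℤ} (hx : IsRoot cs h (_root_.Cfsg.Agent.H798.T5Root.rt i j a g))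
    (hy : IsRoot cs h (_root_.Cfsg.Agent.H798.T5Root.rt i j a' g')) (hne : ¬ (a = a' ∧ g = g')) (hne' : ¬ (a = -a' ∧ g = -g'))
    (hK : ∀ m k : ℤ, 0 < m → 0 < k → ¬ IsRoot cs h (_root_.Cfsg.Agent.H798.T5Root.rt i j (m * a + k * a') (m * g + k * g'))) {u v : Y}
    (hu : u ∈ X (_root_.Cfsg.Agent.H798.T5Root.rt i j a g)) (hv : v ∈ X (_root_.Cfsg.Agent.H798.T5Root.rt i j a' g')) : u * v = v * u := by
  have h1 := comm_le hI hij hx hy hne hne' (K := ⊥) (fun m k hm hk hz => absurd hz (hK m k hm hk)) hu hv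
  rwa [Subgroup.mem_bot, commutatorElement_eq_one_iff_mul_comm] at h1

theorem split_comm {K L : Subgroup Y} (hc : ∀ x ∈ K, ∀ y ∈ L, x * y = y * x) {g : Y} (hg : g ∈ K ⊔ L) :
    ∃ x ∈ K, ∃ y ∈ L, g = x * y := by
  have h1 : K ≤ Subgroup.normalizer (L : Set Y) := by
    intro x hx
    rw [Subgroup.mem_normalizer_iff]
    intro y
    constructor
    · intro hy
      rw [hc x hx y hy, mul_inv_cancel_right]
      exact hy
    · intro hy
      have h2 := hc x hx _ hy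
      have h3 : y = x⁻¹ * (x * y * x⁻¹) * x := by group
      have h4 : x⁻¹ * (x * y * x⁻¹) * x = x⁻¹ * ((x * y * x⁻¹) * x) := by group
      rw [h4, ← h2, ← mul_assoc, inv_mul_cancel, one_mul] at h3
      rw [h3]
      exact hy
  have h2 : g ∈ ((K ⊔ L : Subgroup Y) : Set Y) := hg
  rw [Subgroup.coe_mul_of_left_le_normalizer_right _ _ h1, Set.mem_mul] at h2
  obtain ⟨x, hx, y, hy, e⟩ := h2
  exact ⟨x, hx, y, hy, e.symm⟩

section Mu

variable (R : RGD cs h p T n X)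

include R

/-- `μ(u)` for a simple root -/
theorem exists_mu_simple [Finite W] {j : I} {u : Y} (hu : u ∈ X (sr j)) (hu1 : u ≠ 1) :
    ∃ a ∈ X (-sr j), ∃ b ∈ X (-sr j), ∃ m, Rp cs R.nsys (cs.simple j) m ∧ m = a * u * b := by
  obtain ⟨s, hs, a, ha, b, hb, m, hm, e⟩ := exists_mu R (isRoot_sr cs h j) hu hu1
  have hss : s = cs.simple j := by
    have : (cs.simple j)⁻¹ * s = 1 := by
      refine eq_one_of_fix cs h _ fun i => ?_
      show rep cs h ((cs.simple j)⁻¹ * s) (sr i) = sr i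
      have h3 : rep cs h s (sr i) = rep cs h (cs.simple j) (sr i) := by
        rw [hs, rep_simple_eq, cpr_sr]
      rw [rep_mul_apply, h3, rep_inv_apply]
    exact (inv_mul_eq_one.1 this).symm
  subst hss
  exact ⟨a, ha, b, hb, m, hm, e⟩

theorem X_inf_opp [Finite W] {j : I} {u : Y} (hu : u ∈ X (-sr j)) (hB : u ∈ RGD.B cs h T X) : u = 1 :=
  eq_one_of_mem_UN_of_mem_B R (X_le_UN (isRoot_sr cs h j).neg (neg_nonpos.2 (sr_nonneg j)) hu) hB

/-- separation by functionals -/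
theorem sep [Finite W] {i j : I} (hij : i ≠ j) (l1 l2 m1 m2 : ℤ) {K L : Subgroup Y}
    (hK : ∃ S : Set (ℤ × ℤ), (∀ x ∈ S, IsRoot cs h (_root_.Cfsg.Agent.H798.T5Root.rt i j x.1 x.2) ∧ 0 < l1 * x.1 + l2 * x.2) ∧
      K ≤ ⨆ x : S, X (_root_.Cfsg.Agent.H798.T5Root.rt i j x.1.1 x.1.2))
    (hL : ∃ S : Set (ℤ × ℤ), (∀ x ∈ S, IsRoot cs h (_root_.Cfsg.Agent.H798.T5Root.rt i j x.1 x.2) ∧ l1 * x.1 + l2 * x.2 ≤ 0 ∧
      0 < m1 * x.1 + m2 * x.2) ∧ L ≤ ⨆ x : S, X (_root_.Cfsg.Agent.H798.T5Root.rt i j x.1.1 x.1.2)) {u : Y} (h1 : u ∈ K) (h2 : u ∈ L) : u = 1 := by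
  let F : ℤ → ℤ → ((I → ℤ) →+ ℤ) := fun a b =>
    { toFun := fun x => a * x i + b * x j
      map_zero' := by simp
      map_add' := fun x y => by simp only [Pi.add_apply]; ring }
  have hF : ∀ a b x y, F a b (_root_.Cfsg.Agent.H798.T5Root.rt i j x y) = a * x + b * y := fun a b x y => by
    show a * _root_.Cfsg.Agent.H798.T5Root.rt i j x y i + b * _root_.Cfsg.Agent.H798.T5Root.rt i j x y j = _
    rw [rt_left hij, rt_right hij]
  obtain ⟨S, hS, hKS⟩ := hK
  obtain ⟨S', hS', hLS⟩ := hL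
  refine Nodes.Slope.sup_inf_sup' R (F l1 l2) (F m1 m2) ?_ ?_
  · refine (iSup_le fun x => ?_ : (⨆ x : S, X (_root_.Cfsg.Agent.H798.T5Root.rt i j x.1.1 x.1.2)) ≤ _) (hKS h1)
    refine RGD.le_Sup (S := {x | IsRoot cs h x ∧ 0 < F l1 l2 x}) ⟨(hS x.1 x.2).1, ?_⟩
    rw [hF]
    exact (hS x.1 x.2).2
  · refine (iSup_le fun x => ?_ : (⨆ x : S', X (_root_.Cfsg.Agent.H798.T5Root.rt i j x.1.1 x.1.2)) ≤ _) (hLS h2)
    refine RGD.le_Sup (S := {x | IsRoot cs h x ∧ F l1 l2 x ≤ 0 ∧ 0 < F m1 m2 x}) ⟨(hS' x.1 x.2).1, ?_⟩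
    rw [hF, hF]
    exact (hS' x.1 x.2).2

end Mu

theorem eq_one_of_sq [Fact p.Prime] (hp : p ≠ 2) {K : Subgroup Y} (hK : IsPGroup p K) {w : Y} (hw : w ∈ K)
    (h2 : w * w = 1) : w = 1 := by
  obtain ⟨k, hk⟩ := hK ⟨w, hw⟩
  have h3 : w ^ p ^ k = 1 := by simpa only [_root_.SubmonoidClass.mk_pow, _root_.OneMemClass.coe_one] using congrArg Subtype.val hk
  have hp' : p.Prime := Fact.out
  have h4 : orderOf w ∣ Nat.gcd 2 (p ^ k) :=
    Nat.dvd_gcd (orderOf_dvd_of_pow_eq_one (by rw [pow_two]; exact h2)) (orderOf_dvd_of_pow_eq_one h3)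
  have h5 : Nat.gcd 2 (p ^ k) = 1 :=
    Nat.Coprime.pow_right k ((Nat.coprime_primes Nat.prime_two hp').2 (fun h => hp h.symm))
  rw [h5, Nat.dvd_one, orderOf_eq_one_iff] at h4
  exact h4

end Cfsg.Agent.H798.T5BTwo
end

-- part: H798/T5GTwo
section
/-!
T5, defining characteristic, part 6 (helper798): the commutator relations of a triple bond (`G₂(q)`, `³D₄(q)`).
-/

set_option autoImplicit false
set_option linter.unusedSectionVars false
set_option maxHeartbeats 400000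

namespace Cfsg.Agent.H798.T5GTwo

open CoxeterSystem Cfsg.Agent.ChevalleyStructure.CoxeterGeom Cfsg.Agent.Tits.Roots Cfsg.Agent.Tits.Core
  Cfsg.Agent.Tits.RootComb Cfsg.Agent.Tits.Exchange Cfsg.Agent.Nodes.Reps Cfsg.Agent.Nodes.BNOf
  Cfsg.Agent.Nodes.StabComb Cfsg.Agent.Nodes.Bruhat Cfsg.Agent.Nodes.OppDec Cfsg.Agent.Nodes.LeviDec
  Cfsg.Agent.Nodes.Coroot Cfsg.Agent.KFacts.RgdSL Cfsg.Agent.KFacts.RgdBorelTits Cfsg.Agent.KFacts.RgdFilt
  Cfsg.Agent.H533.T5 Cfsg.Agent.H798.T5Geo Cfsg.Agent.H798.T5Root Cfsg.Agent.H798.T5Bond Cfsg.Agent.H798.T5BTwo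
open scoped commutatorElement

variable {I W Y : Type*} [Fintype I] [DecidableEq I] [Group W] [Group Y] {M : CoxeterMatrix I}
  {cs : CoxeterSystem M W} {A : I → I → ℤ} {h : IsCartan M A} {p : ℕ} {T : Subgroup Y} {n : I → Y}
  {X : (I → ℤ) → Subgroup Y}

theorem comm_le2 (hI : IntComm cs h X) {i j : I} (hij : i ≠ j) {a g a' g' : ℤ} (hx : IsRoot cs h (T5Root.rt i j a g))
    (hy : IsRoot cs h (T5Root.rt i j a' g')) (hne : ¬ (a = a' ∧ g = g')) (hne' : ¬ (a = -a' ∧ g = -g'))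
    {K : Subgroup Y} (hK : ∀ b c m k : ℤ, 0 < m → 0 < k → b = m * a + k * a' → c = m * g + k * g' →
      IsRoot cs h (T5Root.rt i j b c) → X (T5Root.rt i j b c) ≤ K) {u v : Y} (hu : u ∈ X (T5Root.rt i j a g))
    (hv : v ∈ X (T5Root.rt i j a' g')) : ⁅u, v⁆ ∈ K :=
  comm_le hI hij hx hy hne hne' (fun m k hm hk hz => hK _ _ m k hm hk rfl rfl hz) hu hv

/-- a triple bond, `α_i` long, with the Chevalley commutator formula -/
structure G2 (cs : CoxeterSystem M W) (h : IsCartan M A) (X : (I → ℤ) → Subgroup Y) (i j : I) : Prop where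
  ne : i ≠ j
  a1 : A i j = -1
  a2 : A j i = -3
  int : IntComm cs h X

variable {i j : I}

attribute [local irreducible] T5Root.rt

local notation "V0" => X (T5Root.rt i j 1 0)
local notation "V1" => X (T5Root.rt i j 1 1)
local notation "V2" => X (T5Root.rt i j 1 2)
local notation "V3" => X (T5Root.rt i j 1 3)
local notation "ZZ" => X (T5Root.rt i j 2 3)
local notation "GG1" => X (T5Root.rt i j 0 1)
local notation "GM" => X (T5Root.rt i j 0 (-1))
local notation "AM" => X (T5Root.rt i j (-1) 0)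

namespace G2

variable (D : G2 cs h X i j)

include D

theorem r10 : IsRoot cs h (T5Root.rt i j 1 0) := (rt_G2_root (cs := cs) (h := h) D.a1 D.a2).1
theorem r01 : IsRoot cs h (T5Root.rt i j 0 1) := (rt_G2_root (cs := cs) (h := h) D.a1 D.a2).2.1
theorem r11 : IsRoot cs h (T5Root.rt i j 1 1) := (rt_G2_root (cs := cs) (h := h) D.a1 D.a2).2.2.1
theorem r12 : IsRoot cs h (T5Root.rt i j 1 2) := (rt_G2_root (cs := cs) (h := h) D.a1 D.a2).2.2.2.1
theorem r13 : IsRoot cs h (T5Root.rt i j 1 3) := (rt_G2_root (cs := cs) (h := h) D.a1 D.a2).2.2.2.2.1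
theorem r23 : IsRoot cs h (T5Root.rt i j 2 3) := (rt_G2_root (cs := cs) (h := h) D.a1 D.a2).2.2.2.2.2
theorem rm : IsRoot cs h (T5Root.rt i j 0 (-1)) := by
  have := D.r01.neg
  rwa [rt_neg, neg_zero] at this
theorem rn : IsRoot cs h (T5Root.rt i j (-1) 0) := by
  have := D.r10.neg
  rwa [rt_neg, neg_zero] at this

theorem lst {a g : ℤ} (hx : IsRoot cs h (T5Root.rt i j a g)) :
    (a = 1 ∧ g = 0) ∨ (a = -1 ∧ g = 0) ∨ (a = 0 ∧ g = 1) ∨ (a = 0 ∧ g = -1) ∨
      (a = 1 ∧ g = 1) ∨ (a = -1 ∧ g = -1) ∨ (a = 1 ∧ g = 2) ∨ (a = -1 ∧ g = -2) ∨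
      (a = 1 ∧ g = 3) ∨ (a = -1 ∧ g = -3) ∨ (a = 2 ∧ g = 3) ∨ (a = -2 ∧ g = -3) := rt_G2 D.ne D.a1 D.a2 hx

/-! ### commuting pairs -/

theorem c10_11 {u v : Y} (hu : u ∈ V0) (hv : v ∈ V1) : u * v = v * u :=
  commute_of D.int D.ne D.r10 D.r11 (by norm_num) (by norm_num)
    (fun m k hm hk hz => by rcases D.lst hz with h1 | h1 | h1 | h1 | h1 | h1 | h1 | h1 | h1 | h1 | h1 | h1 <;> (clear * - hm hk h1; omega))
    hu hv

theorem c10_12 {u v : Y} (hu : u ∈ V0) (hv : v ∈ V2) : u * v = v * u :=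
  commute_of D.int D.ne D.r10 D.r12 (by norm_num) (by norm_num)
    (fun m k hm hk hz => by rcases D.lst hz with h1 | h1 | h1 | h1 | h1 | h1 | h1 | h1 | h1 | h1 | h1 | h1 <;> (clear * - hm hk h1; omega))
    hu hv

theorem c10_23 {u v : Y} (hu : u ∈ V0) (hv : v ∈ ZZ) : u * v = v * u :=
  commute_of D.int D.ne D.r10 D.r23 (by norm_num) (by norm_num)
    (fun m k hm hk hz => by rcases D.lst hz with h1 | h1 | h1 | h1 | h1 | h1 | h1 | h1 | h1 | h1 | h1 | h1 <;> (clear * - hm hk h1; omega))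
    hu hv

theorem c11_13 {u v : Y} (hu : u ∈ V1) (hv : v ∈ V3) : u * v = v * u :=
  commute_of D.int D.ne D.r11 D.r13 (by norm_num) (by norm_num)
    (fun m k hm hk hz => by rcases D.lst hz with h1 | h1 | h1 | h1 | h1 | h1 | h1 | h1 | h1 | h1 | h1 | h1 <;> (clear * - hm hk h1; omega))
    hu hv

theorem c11_23 {u v : Y} (hu : u ∈ V1) (hv : v ∈ ZZ) : u * v = v * u :=
  commute_of D.int D.ne D.r11 D.r23 (by norm_num) (by norm_num)
    (fun m k hm hk hz => by rcases D.lst hz with h1 | h1 | h1 | h1 | h1 | h1 | h1 | h1 | h1 | h1 | h1 | h1 <;> (clear * - hm hk h1; omega))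
    hu hv

theorem c12_13 {u v : Y} (hu : u ∈ V2) (hv : v ∈ V3) : u * v = v * u :=
  commute_of D.int D.ne D.r12 D.r13 (by norm_num) (by norm_num)
    (fun m k hm hk hz => by rcases D.lst hz with h1 | h1 | h1 | h1 | h1 | h1 | h1 | h1 | h1 | h1 | h1 | h1 <;> (clear * - hm hk h1; omega))
    hu hv

theorem c12_23 {u v : Y} (hu : u ∈ V2) (hv : v ∈ ZZ) : u * v = v * u :=
  commute_of D.int D.ne D.r12 D.r23 (by norm_num) (by norm_num)
    (fun m k hm hk hz => by rcases D.lst hz with h1 | h1 | h1 | h1 | h1 | h1 | h1 | h1 | h1 | h1 | h1 | h1 <;> (clear * - hm hk h1; omega))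
    hu hv

theorem c13_23 {u v : Y} (hu : u ∈ V3) (hv : v ∈ ZZ) : u * v = v * u :=
  commute_of D.int D.ne D.r13 D.r23 (by norm_num) (by norm_num)
    (fun m k hm hk hz => by rcases D.lst hz with h1 | h1 | h1 | h1 | h1 | h1 | h1 | h1 | h1 | h1 | h1 | h1 <;> (clear * - hm hk h1; omega))
    hu hv

theorem c01_13 {u v : Y} (hu : u ∈ GG1) (hv : v ∈ V3) : u * v = v * u :=
  commute_of D.int D.ne D.r01 D.r13 (by norm_num) (by norm_num)
    (fun m k hm hk hz => by rcases D.lst hz with h1 | h1 | h1 | h1 | h1 | h1 | h1 | h1 | h1 | h1 | h1 | h1 <;> (clear * - hm h1 hk; omega))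
    hu hv

theorem c01_23 {u v : Y} (hu : u ∈ GG1) (hv : v ∈ ZZ) : u * v = v * u :=
  commute_of D.int D.ne D.r01 D.r23 (by norm_num) (by norm_num)
    (fun m k hm hk hz => by rcases D.lst hz with h1 | h1 | h1 | h1 | h1 | h1 | h1 | h1 | h1 | h1 | h1 | h1 <;> (clear * - h1 hk hm; omega))
    hu hv

theorem cm_10 {u v : Y} (hu : u ∈ GM) (hv : v ∈ V0) : u * v = v * u :=
  commute_of D.int D.ne D.rm D.r10 (by norm_num) (by norm_num)
    (fun m k hm hk hz => by rcases D.lst hz with h1 | h1 | h1 | h1 | h1 | h1 | h1 | h1 | h1 | h1 | h1 | h1 <;> (clear * - hm h1 hk; omega))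
    hu hv

theorem cm_23 {u v : Y} (hu : u ∈ GM) (hv : v ∈ ZZ) : u * v = v * u :=
  commute_of D.int D.ne D.rm D.r23 (by norm_num) (by norm_num)
    (fun m k hm hk hz => by rcases D.lst hz with h1 | h1 | h1 | h1 | h1 | h1 | h1 | h1 | h1 | h1 | h1 | h1 <;> (clear * - h1 hk hm; omega))
    hu hv

theorem cn_01 {u v : Y} (hu : u ∈ AM) (hv : v ∈ GG1) : u * v = v * u :=
  commute_of D.int D.ne D.rn D.r01 (by norm_num) (by norm_num)
    (fun m k hm hk hz => by rcases D.lst hz with h1 | h1 | h1 | h1 | h1 | h1 | h1 | h1 | h1 | h1 | h1 | h1 <;> (clear * - hm h1 hk; omega))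
    hu hv

theorem cn_12 {u v : Y} (hu : u ∈ AM) (hv : v ∈ V2) : u * v = v * u :=
  commute_of D.int D.ne D.rn D.r12 (by norm_num) (by norm_num)
    (fun m k hm hk hz => by rcases D.lst hz with h1 | h1 | h1 | h1 | h1 | h1 | h1 | h1 | h1 | h1 | h1 | h1 <;> (clear * - hm h1 hk; omega))
    hu hv

theorem cn_13 {u v : Y} (hu : u ∈ AM) (hv : v ∈ V3) : u * v = v * u :=
  commute_of D.int D.ne D.rn D.r13 (by norm_num) (by norm_num)
    (fun m k hm hk hz => by rcases D.lst hz with h1 | h1 | h1 | h1 | h1 | h1 | h1 | h1 | h1 | h1 | h1 | h1 <;> (clear * - hm h1 hk; omega))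
    hu hv

/-! ### commutators -/

theorem k10_13 {u v : Y} (hu : u ∈ V0) (hv : v ∈ V3) : ⁅u, v⁆ ∈ ZZ := by
  refine comm_le2 D.int D.ne D.r10 D.r13 (by norm_num) (by norm_num) (fun b c m k hm hk e1 e2 hz => ?_) hu hv
  rcases D.lst hz with ⟨rfl, rfl⟩ | ⟨rfl, rfl⟩ | ⟨rfl, rfl⟩ | ⟨rfl, rfl⟩ | ⟨rfl, rfl⟩ | ⟨rfl, rfl⟩ | ⟨rfl, rfl⟩ |
    ⟨rfl, rfl⟩ | ⟨rfl, rfl⟩ | ⟨rfl, rfl⟩ | ⟨rfl, rfl⟩ | ⟨rfl, rfl⟩ <;> first
    | (exfalso; (clear * - hm hk e1; omega))
    | exact le_rfl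

theorem k11_12 {u v : Y} (hu : u ∈ V1) (hv : v ∈ V2) : ⁅u, v⁆ ∈ ZZ := by
  refine comm_le2 D.int D.ne D.r11 D.r12 (by norm_num) (by norm_num) (fun b c m k hm hk e1 e2 hz => ?_) hu hv
  rcases D.lst hz with ⟨rfl, rfl⟩ | ⟨rfl, rfl⟩ | ⟨rfl, rfl⟩ | ⟨rfl, rfl⟩ | ⟨rfl, rfl⟩ | ⟨rfl, rfl⟩ | ⟨rfl, rfl⟩ |
    ⟨rfl, rfl⟩ | ⟨rfl, rfl⟩ | ⟨rfl, rfl⟩ | ⟨rfl, rfl⟩ | ⟨rfl, rfl⟩ <;> first
    | (exfalso; (clear * - hm hk e1; omega))
    | exact le_rfl

theorem k01_10 {u v : Y} (hu : u ∈ GG1) (hv : v ∈ V0) : ⁅u, v⁆ ∈ V1 ⊔ (V2 ⊔ V3 ⊔ ZZ) := by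
  have key : ∀ K : Subgroup Y, V1 ≤ K → V2 ≤ K → V3 ≤ K → ZZ ≤ K → ⁅u, v⁆ ∈ K := by
    intro K h1 h2 h3 h4
    refine comm_le2 D.int D.ne D.r01 D.r10 (by norm_num) (by norm_num) (fun b c m k hm hk e1 e2 hz => ?_) hu hv
    rcases D.lst hz with ⟨rfl, rfl⟩ | ⟨rfl, rfl⟩ | ⟨rfl, rfl⟩ | ⟨rfl, rfl⟩ | ⟨rfl, rfl⟩ | ⟨rfl, rfl⟩ | ⟨rfl, rfl⟩ |
      ⟨rfl, rfl⟩ | ⟨rfl, rfl⟩ | ⟨rfl, rfl⟩ | ⟨rfl, rfl⟩ | ⟨rfl, rfl⟩ <;> first
      | with_reducible exact h1
      | with_reducible exact h2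
      | with_reducible exact h3
      | with_reducible exact h4
      | (exfalso; (clear * - hm e2 hk e1; omega))
  exact key _ (le_sup_left) (le_trans (le_trans le_sup_left le_sup_left) le_sup_right) (le_trans (le_trans le_sup_right le_sup_left) le_sup_right) (le_trans le_sup_right le_sup_right)

theorem k01_11 {u v : Y} (hu : u ∈ GG1) (hv : v ∈ V1) : ⁅u, v⁆ ∈ V2 ⊔ V3 ⊔ ZZ := by
  have key : ∀ K : Subgroup Y, V2 ≤ K → V3 ≤ K → ZZ ≤ K → ⁅u, v⁆ ∈ K := by
    intro K h2 h3 h4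
    refine comm_le2 D.int D.ne D.r01 D.r11 (by norm_num) (by norm_num) (fun b c m k hm hk e1 e2 hz => ?_) hu hv
    rcases D.lst hz with ⟨rfl, rfl⟩ | ⟨rfl, rfl⟩ | ⟨rfl, rfl⟩ | ⟨rfl, rfl⟩ | ⟨rfl, rfl⟩ | ⟨rfl, rfl⟩ | ⟨rfl, rfl⟩ |
      ⟨rfl, rfl⟩ | ⟨rfl, rfl⟩ | ⟨rfl, rfl⟩ | ⟨rfl, rfl⟩ | ⟨rfl, rfl⟩ <;> first
      | with_reducible exact h2
      | with_reducible exact h3
      | with_reducible exact h4
      | (exfalso; (clear * - hm e1 e2 hk; omega))
  exact key _ (le_trans le_sup_left le_sup_left) (le_trans le_sup_right le_sup_left) (le_sup_right)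

theorem k01_12 {u v : Y} (hu : u ∈ GG1) (hv : v ∈ V2) : ⁅u, v⁆ ∈ V3 := by
  refine comm_le2 D.int D.ne D.r01 D.r12 (by norm_num) (by norm_num) (fun b c m k hm hk e1 e2 hz => ?_) hu hv
  rcases D.lst hz with ⟨rfl, rfl⟩ | ⟨rfl, rfl⟩ | ⟨rfl, rfl⟩ | ⟨rfl, rfl⟩ | ⟨rfl, rfl⟩ | ⟨rfl, rfl⟩ | ⟨rfl, rfl⟩ |
    ⟨rfl, rfl⟩ | ⟨rfl, rfl⟩ | ⟨rfl, rfl⟩ | ⟨rfl, rfl⟩ | ⟨rfl, rfl⟩ <;> first
    | (exfalso; (clear * - hm e1 e2 hk; omega))
    | exact le_rfl

theorem km_11 {u v : Y} (hu : u ∈ GM) (hv : v ∈ V1) : ⁅u, v⁆ ∈ V0 := by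
  refine comm_le2 D.int D.ne D.rm D.r11 (by norm_num) (by norm_num) (fun b c m k hm hk e1 e2 hz => ?_) hu hv
  rcases D.lst hz with ⟨rfl, rfl⟩ | ⟨rfl, rfl⟩ | ⟨rfl, rfl⟩ | ⟨rfl, rfl⟩ | ⟨rfl, rfl⟩ | ⟨rfl, rfl⟩ | ⟨rfl, rfl⟩ |
    ⟨rfl, rfl⟩ | ⟨rfl, rfl⟩ | ⟨rfl, rfl⟩ | ⟨rfl, rfl⟩ | ⟨rfl, rfl⟩ <;> first
    | (exfalso; (clear * - hk e1 hm e2; omega))
    | exact le_rfl

theorem km_12 {u v : Y} (hu : u ∈ GM) (hv : v ∈ V2) : ⁅u, v⁆ ∈ V0 ⊔ V1 ⊔ V2 ⊔ ZZ := by
  have key : ∀ K : Subgroup Y, V0 ≤ K → V1 ≤ K → V2 ≤ K → ZZ ≤ K → ⁅u, v⁆ ∈ K := by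
    intro K h1 h2 h3 h4
    refine comm_le2 D.int D.ne D.rm D.r12 (by norm_num) (by norm_num) (fun b c m k hm hk e1 e2 hz => ?_) hu hv
    rcases D.lst hz with ⟨rfl, rfl⟩ | ⟨rfl, rfl⟩ | ⟨rfl, rfl⟩ | ⟨rfl, rfl⟩ | ⟨rfl, rfl⟩ | ⟨rfl, rfl⟩ | ⟨rfl, rfl⟩ |
      ⟨rfl, rfl⟩ | ⟨rfl, rfl⟩ | ⟨rfl, rfl⟩ | ⟨rfl, rfl⟩ | ⟨rfl, rfl⟩ <;> first
      | with_reducible exact h1
      | with_reducible exact h2
      | with_reducible exact h3
      | with_reducible exact h4
      | (exfalso; (clear * - hk e1 hm e2; omega))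
  exact key _ (le_trans (le_trans le_sup_left le_sup_left) le_sup_left) (le_trans (le_trans le_sup_right le_sup_left) le_sup_left) (le_trans le_sup_right le_sup_left) (le_sup_right)

theorem km_13 {u v : Y} (hu : u ∈ GM) (hv : v ∈ V3) : ⁅u, v⁆ ∈ V0 ⊔ V1 ⊔ V2 ⊔ ZZ := by
  have key : ∀ K : Subgroup Y, V0 ≤ K → V1 ≤ K → V2 ≤ K → ZZ ≤ K → ⁅u, v⁆ ∈ K := by
    intro K h1 h2 h3 h4
    refine comm_le2 D.int D.ne D.rm D.r13 (by norm_num) (by norm_num) (fun b c m k hm hk e1 e2 hz => ?_) hu hv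
    rcases D.lst hz with ⟨rfl, rfl⟩ | ⟨rfl, rfl⟩ | ⟨rfl, rfl⟩ | ⟨rfl, rfl⟩ | ⟨rfl, rfl⟩ | ⟨rfl, rfl⟩ | ⟨rfl, rfl⟩ |
      ⟨rfl, rfl⟩ | ⟨rfl, rfl⟩ | ⟨rfl, rfl⟩ | ⟨rfl, rfl⟩ | ⟨rfl, rfl⟩ <;> first
      | with_reducible exact h1
      | with_reducible exact h2
      | with_reducible exact h3
      | with_reducible exact h4
      | (exfalso; (clear * - hk e1 hm e2; omega))
  exact key _ (le_trans (le_trans le_sup_left le_sup_left) le_sup_left) (le_trans (le_trans le_sup_right le_sup_left) le_sup_left) (le_trans le_sup_right le_sup_left) (le_sup_right)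

theorem kn_11 {u v : Y} (hu : u ∈ AM) (hv : v ∈ V1) : ⁅u, v⁆ ∈ GG1 ⊔ (V2 ⊔ V3 ⊔ ZZ) := by
  have key : ∀ K : Subgroup Y, GG1 ≤ K → V2 ≤ K → V3 ≤ K → ZZ ≤ K → ⁅u, v⁆ ∈ K := by
    intro K h1 h2 h3 h4
    refine comm_le2 D.int D.ne D.rn D.r11 (by norm_num) (by norm_num) (fun b c m k hm hk e1 e2 hz => ?_) hu hv
    rcases D.lst hz with ⟨rfl, rfl⟩ | ⟨rfl, rfl⟩ | ⟨rfl, rfl⟩ | ⟨rfl, rfl⟩ | ⟨rfl, rfl⟩ | ⟨rfl, rfl⟩ | ⟨rfl, rfl⟩ |
      ⟨rfl, rfl⟩ | ⟨rfl, rfl⟩ | ⟨rfl, rfl⟩ | ⟨rfl, rfl⟩ | ⟨rfl, rfl⟩ <;> first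
      | with_reducible exact h1
      | with_reducible exact h2
      | with_reducible exact h3
      | with_reducible exact h4
      | (exfalso; (clear * - hm e1 e2 hk; omega))
  exact key _ (le_sup_left) (le_trans (le_trans le_sup_left le_sup_left) le_sup_right) (le_trans (le_trans le_sup_right le_sup_left) le_sup_right) (le_trans le_sup_right le_sup_right)

theorem kn_23 {u v : Y} (hu : u ∈ AM) (hv : v ∈ ZZ) : ⁅u, v⁆ ∈ V3 := by
  refine comm_le2 D.int D.ne D.rn D.r23 (by norm_num) (by norm_num) (fun b c m k hm hk e1 e2 hz => ?_) hu hv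
  rcases D.lst hz with ⟨rfl, rfl⟩ | ⟨rfl, rfl⟩ | ⟨rfl, rfl⟩ | ⟨rfl, rfl⟩ | ⟨rfl, rfl⟩ | ⟨rfl, rfl⟩ | ⟨rfl, rfl⟩ |
    ⟨rfl, rfl⟩ | ⟨rfl, rfl⟩ | ⟨rfl, rfl⟩ | ⟨rfl, rfl⟩ | ⟨rfl, rfl⟩ <;> first
    | (exfalso; (clear * - hm e1 e2 hk; omega))
    | exact le_rfl

end G2

end Cfsg.Agent.H798.T5GTwo
end

-- part: H798/T5GThree
section
/-!
T5, defining characteristic, part 7 (helper798): the bond property of a triple bond (`G₂(q)`, `³D₄(q)`), `p ≥ 5`.
-/

set_option autoImplicit false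
set_option linter.unusedSectionVars false
set_option maxHeartbeats 400000

namespace Cfsg.Agent.H798.T5GThree

open CoxeterSystem Cfsg.Agent.ChevalleyStructure.CoxeterGeom Cfsg.Agent.Tits.Roots Cfsg.Agent.Tits.Core
  Cfsg.Agent.Tits.RootComb Cfsg.Agent.Tits.Exchange Cfsg.Agent.Nodes.Reps Cfsg.Agent.Nodes.BNOf
  Cfsg.Agent.Nodes.StabComb Cfsg.Agent.Nodes.Bruhat Cfsg.Agent.Nodes.OppDec Cfsg.Agent.Nodes.LeviDec
  Cfsg.Agent.Nodes.Coroot Cfsg.Agent.KFacts.RgdSL Cfsg.Agent.KFacts.RgdBorelTits Cfsg.Agent.KFacts.RgdFilt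
  Cfsg.Agent.H533.T5 Cfsg.Agent.H798.T5Geo Cfsg.Agent.H798.T5Root Cfsg.Agent.H798.T5Bond Cfsg.Agent.H798.T5BTwo
  Cfsg.Agent.H798.T5GTwo
open scoped commutatorElement

/-! ### components -/

section Comp

variable {Y : Type*} [Group Y]

/-- `L` normalises `K` and meets it trivially -/
structure CPair (K L : Subgroup Y) : Prop where
  nrm : ∀ r ∈ L, ∀ k ∈ K, r * k * r⁻¹ ∈ K
  inf : ∀ r ∈ L, r ∈ K → r = 1

/-- `r` is the `L`-component of `x` -/
def Cp (K L : Subgroup Y) (x r : Y) : Prop := r ∈ L ∧ x * r⁻¹ ∈ K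

variable {K L : Subgroup Y}

theorem Cp.of_K {x : Y} (hx : x ∈ K) : Cp K L x 1 := ⟨one_mem _, by rwa [inv_one, mul_one]⟩

theorem Cp.of_L {x : Y} (hx : x ∈ L) : Cp K L x x := ⟨hx, by rw [mul_inv_cancel]; exact one_mem _⟩

theorem Cp.mem {x : Y} (hx : Cp K L x 1) : x ∈ K := by
  have := hx.2
  rwa [inv_one, mul_one] at this

theorem CPair.mul (P : CPair K L) {x y r s : Y} (hx : Cp K L x r) (hy : Cp K L y s) : Cp K L (x * y) (r * s) := by
  refine ⟨mul_mem hx.1 hy.1, ?_⟩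
  have e : x * y * (r * s)⁻¹ = x * r⁻¹ * (r * (y * s⁻¹) * r⁻¹) := by group
  rw [e]
  exact mul_mem hx.2 (P.nrm r hx.1 _ hy.2)

theorem CPair.uniq (P : CPair K L) {x r s : Y} (hx : Cp K L x r) (hy : Cp K L x s) : r = s := by
  have h1 : r * s⁻¹ = 1 := by
    refine P.inf _ (mul_mem hx.1 (inv_mem hy.1)) ?_
    have e : r * s⁻¹ = (x * r⁻¹)⁻¹ * (x * s⁻¹) := by group
    rw [e]
    exact mul_mem (inv_mem hx.2) hy.2
  exact mul_inv_eq_one.1 h1

theorem CPair.inv (P : CPair K L) {x r : Y} (hx : Cp K L x r) : Cp K L x⁻¹ r⁻¹ := by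
  refine ⟨inv_mem hx.1, ?_⟩
  have e : x⁻¹ * r⁻¹⁻¹ = r⁻¹ * (x * r⁻¹)⁻¹ * r⁻¹⁻¹ := by group
  rw [e]
  exact P.nrm _ (inv_mem hx.1) _ (inv_mem hx.2)

theorem Cp.conj {x r g : Y} (hK : ∀ k ∈ K, g * k * g⁻¹ ∈ K) (hL : ∀ k ∈ L, g * k * g⁻¹ ∈ L) (hx : Cp K L x r) :
    Cp K L (g * x * g⁻¹) (g * r * g⁻¹) := by
  refine ⟨hL _ hx.1, ?_⟩
  have e : g * x * g⁻¹ * (g * r * g⁻¹)⁻¹ = g * (x * r⁻¹) * g⁻¹ := by group
  rw [e]
  exact hK _ hx.2

theorem Cp.conj' {x r g : Y} (hK : ∀ k ∈ K, g * k * g⁻¹ ∈ K) (hL : ∀ k ∈ L, ⁅g, k⁆ ∈ K) (hx : Cp K L x r) :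
    Cp K L (g * x * g⁻¹) r := by
  refine ⟨hx.1, ?_⟩
  have e : g * x * g⁻¹ * r⁻¹ = g * (x * r⁻¹) * g⁻¹ * ⁅g, r⁆ := by rw [commutatorElement_def]; group
  rw [e]
  exact mul_mem (hK _ hx.2) (hL _ hx.1)

theorem CPair.ex (P : CPair K L) {x : Y} (hx : x ∈ K ⊔ L) : ∃ r, Cp K L x r := by
  have h1 : L ≤ Subgroup.normalizer (K : Set Y) := by
    intro r hr
    rw [Subgroup.mem_normalizer_iff]
    intro k
    refine ⟨fun hk => P.nrm r hr k hk, fun hk => ?_⟩
    have := P.nrm r⁻¹ (inv_mem hr) _ hk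
    have e : r⁻¹ * (r * k * r⁻¹) * r⁻¹⁻¹ = k := by group
    rwa [e] at this
  have h2 : x ∈ ((K ⊔ L : Subgroup Y) : Set Y) := hx
  rw [Subgroup.coe_mul_of_right_le_normalizer_left _ _ h1, Set.mem_mul] at h2
  obtain ⟨k, hk, r, hr, e⟩ := h2
  refine ⟨r, hr, ?_⟩
  rw [← e, mul_inv_cancel_right]
  exact hk

theorem conj_sup {A B K : Subgroup Y} {g : Y} (hA : ∀ x ∈ A, g * x * g⁻¹ ∈ K) (hB : ∀ x ∈ B, g * x * g⁻¹ ∈ K) :
    ∀ x ∈ A ⊔ B, g * x * g⁻¹ ∈ K := by
  intro x hx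
  have h1 : A ⊔ B ≤ K.comap (MulAut.conj g).toMonoidHom := sup_le (fun x hx => hA x hx) (fun x hx => hB x hx)
  exact h1 hx

theorem conj_of_comm {K : Subgroup Y} {g x : Y} (hc : ⁅g, x⁆ ∈ K) (hx : x ∈ K) : g * x * g⁻¹ ∈ K := by
  have e : g * x * g⁻¹ = ⁅g, x⁆ * x := by rw [commutatorElement_def]; group
  rw [e]
  exact mul_mem hc hx

theorem conj_of_commute {K : Subgroup Y} {g x : Y} (hc : g * x = x * g) (hx : x ∈ K) : g * x * g⁻¹ ∈ K := by
  rw [hc, mul_inv_cancel_right]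
  exact hx

theorem comm_swap {K : Subgroup Y} {g x : Y} (hc : ⁅g, x⁆ ∈ K) : ⁅x, g⁆ ∈ K := by
  rw [← commutatorElement_inv]
  exact inv_mem hc

theorem eq_one_of_pow {p : ℕ} [Fact p.Prime] {k : ℕ} (hp : Nat.Coprime k p) {K : Subgroup Y} (hK : IsPGroup p K)
    {w : Y} (hw : w ∈ K) (h2 : w ^ k = 1) : w = 1 := by
  obtain ⟨l, hl⟩ := hK ⟨w, hw⟩
  have h3 : w ^ p ^ l = 1 := by simpa only [_root_.SubmonoidClass.mk_pow, _root_.OneMemClass.coe_one] using congrArg Subtype.val hl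
  have h4 : orderOf w ∣ Nat.gcd k (p ^ l) :=
    Nat.dvd_gcd (orderOf_dvd_of_pow_eq_one h2) (orderOf_dvd_of_pow_eq_one h3)
  have h5 : Nat.gcd k (p ^ l) = 1 := Nat.Coprime.pow_right l hp
  rw [h5, Nat.dvd_one, orderOf_eq_one_iff] at h4
  exact h4

end Comp


variable {I W Y : Type*} [Fintype I] [DecidableEq I] [Group W] [Group Y] {M : CoxeterMatrix I}
  {cs : CoxeterSystem M W} {A : I → I → ℤ} {h : IsCartan M A} {p : ℕ} {T : Subgroup Y} {n : I → Y}
  {X : (I → ℤ) → Subgroup Y} {i j : I}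

attribute [local irreducible] T5Root.rt

local notation "V0" => X (T5Root.rt i j 1 0)
local notation "V1" => X (T5Root.rt i j 1 1)
local notation "V2" => X (T5Root.rt i j 1 2)
local notation "V3" => X (T5Root.rt i j 1 3)
local notation "ZZ" => X (T5Root.rt i j 2 3)
local notation "GG1" => X (T5Root.rt i j 0 1)
local notation "GM" => X (T5Root.rt i j 0 (-1))
local notation "AM" => X (T5Root.rt i j (-1) 0)
local notation "NN2" => (X (T5Root.rt i j 1 2) ⊔ X (T5Root.rt i j 1 3) ⊔ X (T5Root.rt i j 2 3))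
local notation "KK1" => (X (T5Root.rt i j 0 1) ⊔ (X (T5Root.rt i j 1 2) ⊔ X (T5Root.rt i j 1 3) ⊔ X (T5Root.rt i j 2 3)))
local notation "KK3" => (X (T5Root.rt i j 1 0) ⊔ X (T5Root.rt i j 1 1) ⊔ X (T5Root.rt i j 1 2) ⊔ X (T5Root.rt i j 2 3))

section Sep

variable [Finite W] (R : RGD cs h p T n X) (D : G2 cs h X i j)

include R D

theorem V_N2 {u : Y} (h1 : u ∈ V1) (h2 : u ∈ NN2) : u = 1 := by
  refine sep R D.ne (-1) 1 1 0 (K := NN2) (L := V1) ?_ ?_ h2 h1
  · refine ⟨{(1, 2), (1, 3), (2, 3)}, ?_, ?_⟩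
    · rintro x (rfl | rfl | rfl)
      · exact ⟨D.r12, by norm_num⟩
      · exact ⟨D.r13, by norm_num⟩
      · exact ⟨D.r23, by norm_num⟩
    · have hle := le_iSup (fun x : ({(1, 2), (1, 3), (2, 3)} : Set (ℤ × ℤ)) => X (T5Root.rt i j x.1.1 x.1.2))
      exact sup_le (sup_le (hle ⟨(1, 2), by simp⟩) (hle ⟨(1, 3), by simp⟩)) (hle ⟨(2, 3), by simp⟩)
  · refine ⟨{(1, 1)}, ?_, ?_⟩
    · rintro x rfl
      exact ⟨D.r11, by norm_num, by norm_num⟩
    · exact le_iSup (fun x : ({(1, 1)} : Set (ℤ × ℤ)) => X (T5Root.rt i j x.1.1 x.1.2)) ⟨(1, 1), by simp⟩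

theorem V_K1 {u : Y} (h1 : u ∈ V1) (h2 : u ∈ KK1) : u = 1 := by
  refine sep R D.ne (-1) 1 1 0 (K := KK1) (L := V1) ?_ ?_ h2 h1
  · refine ⟨{(0, 1), (1, 2), (1, 3), (2, 3)}, ?_, ?_⟩
    · rintro x (rfl | rfl | rfl | rfl)
      · exact ⟨D.r01, by norm_num⟩
      · exact ⟨D.r12, by norm_num⟩
      · exact ⟨D.r13, by norm_num⟩
      · exact ⟨D.r23, by norm_num⟩
    · have hle := le_iSup (fun x : ({(0, 1), (1, 2), (1, 3), (2, 3)} : Set (ℤ × ℤ)) => X (T5Root.rt i j x.1.1 x.1.2))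
      exact sup_le (hle ⟨(0, 1), by simp⟩) (sup_le (sup_le (hle ⟨(1, 2), by simp⟩) (hle ⟨(1, 3), by simp⟩))
        (hle ⟨(2, 3), by simp⟩))
  · refine ⟨{(1, 1)}, ?_, ?_⟩
    · rintro x rfl
      exact ⟨D.r11, by norm_num, by norm_num⟩
    · exact le_iSup (fun x : ({(1, 1)} : Set (ℤ × ℤ)) => X (T5Root.rt i j x.1.1 x.1.2)) ⟨(1, 1), by simp⟩

theorem V_K3 {u : Y} (h1 : u ∈ V3) (h2 : u ∈ KK3) : u = 1 := by
  refine sep R D.ne 3 (-1) 0 1 (K := KK3) (L := V3) ?_ ?_ h2 h1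
  · refine ⟨{(1, 0), (1, 1), (1, 2), (2, 3)}, ?_, ?_⟩
    · rintro x (rfl | rfl | rfl | rfl)
      · exact ⟨D.r10, by norm_num⟩
      · exact ⟨D.r11, by norm_num⟩
      · exact ⟨D.r12, by norm_num⟩
      · exact ⟨D.r23, by norm_num⟩
    · have hle := le_iSup (fun x : ({(1, 0), (1, 1), (1, 2), (2, 3)} : Set (ℤ × ℤ)) => X (T5Root.rt i j x.1.1 x.1.2))
      exact sup_le (sup_le (sup_le (hle ⟨(1, 0), by simp⟩) (hle ⟨(1, 1), by simp⟩)) (hle ⟨(1, 2), by simp⟩))
        (hle ⟨(2, 3), by simp⟩)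
  · refine ⟨{(1, 3)}, ?_, ?_⟩
    · rintro x rfl
      exact ⟨D.r13, by norm_num, by norm_num⟩
    · exact le_iSup (fun x : ({(1, 3)} : Set (ℤ × ℤ)) => X (T5Root.rt i j x.1.1 x.1.2)) ⟨(1, 3), by simp⟩

theorem V_2 {u : Y} (h1 : u ∈ V2) (h2 : u ∈ V1 ⊔ ZZ) : u = 1 := by
  refine sep R D.ne 2 (-1) 0 1 (K := V1 ⊔ ZZ) (L := V2) ?_ ?_ h2 h1
  · refine ⟨{(1, 1), (2, 3)}, ?_, ?_⟩
    · rintro x (rfl | rfl)
      · exact ⟨D.r11, by norm_num⟩
      · exact ⟨D.r23, by norm_num⟩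
    · have hle := le_iSup (fun x : ({(1, 1), (2, 3)} : Set (ℤ × ℤ)) => X (T5Root.rt i j x.1.1 x.1.2))
      exact sup_le (hle ⟨(1, 1), by simp⟩) (hle ⟨(2, 3), by simp⟩)
  · refine ⟨{(1, 2)}, ?_, ?_⟩
    · rintro x rfl
      exact ⟨D.r12, by norm_num, by norm_num⟩
    · exact le_iSup (fun x : ({(1, 2)} : Set (ℤ × ℤ)) => X (T5Root.rt i j x.1.1 x.1.2)) ⟨(1, 2), by simp⟩

theorem V_3Z {u : Y} (h1 : u ∈ V3) (h2 : u ∈ ZZ) : u = 1 := V_K3 R D h1 (Subgroup.mem_sup_right h2)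

/-! ### normalisers -/

omit R

omit [Finite W] in
theorem n10_N2 {g : Y} (hg : g ∈ V0) : ∀ x ∈ NN2, g * x * g⁻¹ ∈ NN2 := by
  refine conj_sup (conj_sup (fun x hx => ?_) (fun x hx => ?_)) (fun x hx => ?_)
  · exact conj_of_commute (D.c10_12 hg hx) (Subgroup.mem_sup_left (Subgroup.mem_sup_left hx))
  · exact conj_of_comm (Subgroup.mem_sup_right (D.k10_13 hg hx)) (Subgroup.mem_sup_left (Subgroup.mem_sup_right hx))
  · exact conj_of_commute (D.c10_23 hg hx) (Subgroup.mem_sup_right hx)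

omit [Finite W] in
theorem n11_N2 {g : Y} (hg : g ∈ V1) : ∀ x ∈ NN2, g * x * g⁻¹ ∈ NN2 := by
  refine conj_sup (conj_sup (fun x hx => ?_) (fun x hx => ?_)) (fun x hx => ?_)
  · exact conj_of_comm (Subgroup.mem_sup_right (D.k11_12 hg hx)) (Subgroup.mem_sup_left (Subgroup.mem_sup_left hx))
  · exact conj_of_commute (D.c11_13 hg hx) (Subgroup.mem_sup_left (Subgroup.mem_sup_right hx))
  · exact conj_of_commute (D.c11_23 hg hx) (Subgroup.mem_sup_right hx)

omit [Finite W] in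
theorem n01_N2 {g : Y} (hg : g ∈ GG1) : ∀ x ∈ NN2, g * x * g⁻¹ ∈ NN2 := by
  refine conj_sup (conj_sup (fun x hx => ?_) (fun x hx => ?_)) (fun x hx => ?_)
  · exact conj_of_comm (Subgroup.mem_sup_left (Subgroup.mem_sup_right (D.k01_12 hg hx)))
      (Subgroup.mem_sup_left (Subgroup.mem_sup_left hx))
  · exact conj_of_commute (D.c01_13 hg hx) (Subgroup.mem_sup_left (Subgroup.mem_sup_right hx))
  · exact conj_of_commute (D.c01_23 hg hx) (Subgroup.mem_sup_right hx)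

omit [Finite W] in
theorem nn_N2 {g : Y} (hg : g ∈ AM) : ∀ x ∈ NN2, g * x * g⁻¹ ∈ NN2 := by
  refine conj_sup (conj_sup (fun x hx => ?_) (fun x hx => ?_)) (fun x hx => ?_)
  · exact conj_of_commute (D.cn_12 hg hx) (Subgroup.mem_sup_left (Subgroup.mem_sup_left hx))
  · exact conj_of_commute (D.cn_13 hg hx) (Subgroup.mem_sup_left (Subgroup.mem_sup_right hx))
  · exact conj_of_comm (Subgroup.mem_sup_left (Subgroup.mem_sup_right (D.kn_23 hg hx))) (Subgroup.mem_sup_right hx)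

omit [Finite W] in
theorem n11_K1 {g : Y} (hg : g ∈ V1) : ∀ x ∈ KK1, g * x * g⁻¹ ∈ KK1 := by
  refine conj_sup (fun x hx => ?_) (fun x hx => Subgroup.mem_sup_right (n11_N2 D hg x hx))
  exact conj_of_comm (Subgroup.mem_sup_right (comm_swap (D.k01_11 hx hg))) (Subgroup.mem_sup_left hx)

omit [Finite W] in
theorem nn_K1 {g : Y} (hg : g ∈ AM) : ∀ x ∈ KK1, g * x * g⁻¹ ∈ KK1 := by
  refine conj_sup (fun x hx => ?_) (fun x hx => Subgroup.mem_sup_right (nn_N2 D hg x hx))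
  exact conj_of_commute (D.cn_01 hg hx) (Subgroup.mem_sup_left hx)

omit [Finite W] in
theorem n13_K3 {g : Y} (hg : g ∈ V3) : ∀ x ∈ KK3, g * x * g⁻¹ ∈ KK3 := by
  refine conj_sup (conj_sup (conj_sup (fun x hx => ?_) (fun x hx => ?_)) (fun x hx => ?_)) (fun x hx => ?_)
  · exact conj_of_comm (Subgroup.mem_sup_right (comm_swap (D.k10_13 hx hg)))
      (Subgroup.mem_sup_left (Subgroup.mem_sup_left (Subgroup.mem_sup_left hx)))
  · exact conj_of_commute (D.c11_13 hx hg).symm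
      (Subgroup.mem_sup_left (Subgroup.mem_sup_left (Subgroup.mem_sup_right hx)))
  · exact conj_of_commute (D.c12_13 hx hg).symm (Subgroup.mem_sup_left (Subgroup.mem_sup_right hx))
  · exact conj_of_commute (D.c13_23 hg hx) (Subgroup.mem_sup_right hx)

omit [Finite W] in
theorem nm_K3 {g : Y} (hg : g ∈ GM) : ∀ x ∈ KK3, g * x * g⁻¹ ∈ KK3 := by
  refine conj_sup (conj_sup (conj_sup (fun x hx => ?_) (fun x hx => ?_)) (fun x hx => ?_)) (fun x hx => ?_)
  · exact conj_of_commute (D.cm_10 hg hx) (Subgroup.mem_sup_left (Subgroup.mem_sup_left (Subgroup.mem_sup_left hx)))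
  · exact conj_of_comm (Subgroup.mem_sup_left (Subgroup.mem_sup_left (Subgroup.mem_sup_left (D.km_11 hg hx))))
      (Subgroup.mem_sup_left (Subgroup.mem_sup_left (Subgroup.mem_sup_right hx)))
  · exact conj_of_comm (D.km_12 hg hx) (Subgroup.mem_sup_left (Subgroup.mem_sup_right hx))
  · exact conj_of_commute (D.cm_23 hg hx) (Subgroup.mem_sup_right hx)

include R

theorem pN2 : CPair NN2 V1 := ⟨fun _ hr k hk => n11_N2 D hr k hk, fun _ h1 h2 => V_N2 R D h1 h2⟩

theorem pK1 : CPair KK1 V1 := ⟨fun _ hr k hk => n11_K1 D hr k hk, fun _ h1 h2 => V_K1 R D h1 h2⟩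

theorem pK3 : CPair KK3 V3 := ⟨fun _ hr k hk => n13_K3 D hr k hk, fun _ h1 h2 => V_K3 R D h1 h2⟩

/-! ### conjugation by elements over the simple reflections -/

omit [Finite W] in
theorem i01 {m v : Y} (hm : Rp cs R.nsys (cs.simple i) m) (hv : v ∈ GG1) : m * v * m⁻¹ ∈ V1 := by
  have := R.conj_mem hm D.r01 hv
  rw [rep_left, D.a1] at this
  simpa only [_root_.neg_zero, _root_.Int.reduceNeg, _root_.mul_one, _root_.sub_neg_eq_add, _root_.zero_add] using this

omit [Finite W] in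
theorem i11 {m v : Y} (hm : Rp cs R.nsys (cs.simple i) m) (hv : v ∈ V1) : m * v * m⁻¹ ∈ GG1 := by
  have := R.conj_mem hm D.r11 hv
  rw [rep_left, D.a1] at this
  simpa using this

omit [Finite W] in
theorem i13 {m v : Y} (hm : Rp cs R.nsys (cs.simple i) m) (hv : v ∈ V3) : m * v * m⁻¹ ∈ ZZ := by
  have := R.conj_mem hm D.r13 hv
  rw [rep_left, D.a1] at this
  simpa only [_root_.Int.reduceNeg, _root_.neg_mul, _root_.one_mul, _root_.sub_neg_eq_add, _root_.Int.reduceAdd] using this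

omit [Finite W] in
theorem i12 {m v : Y} (hm : Rp cs R.nsys (cs.simple i) m) (hv : v ∈ V2) : m * v * m⁻¹ ∈ V2 := by
  have := R.conj_mem hm D.r12 hv
  rw [rep_left, D.a1] at this
  simpa only [_root_.Int.reduceNeg, _root_.neg_mul, _root_.one_mul, _root_.sub_neg_eq_add, _root_.Int.reduceAdd] using this

omit [Finite W] in
theorem i23 {m v : Y} (hm : Rp cs R.nsys (cs.simple i) m) (hv : v ∈ ZZ) : m * v * m⁻¹ ∈ V3 := by
  have := R.conj_mem hm D.r23 hv
  rw [rep_left, D.a1] at this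
  simpa only [_root_.Int.reduceNeg, _root_.neg_mul, _root_.one_mul, _root_.sub_neg_eq_add, _root_.Int.reduceAdd] using this

omit [Finite W] in
theorem j10 {m v : Y} (hm : Rp cs R.nsys (cs.simple j) m) (hv : v ∈ V0) : m * v * m⁻¹ ∈ V3 := by
  have := R.conj_mem hm D.r10 hv
  rw [rep_right, D.a2] at this
  simpa only [_root_.neg_zero, _root_.Int.reduceNeg, _root_.mul_one, _root_.sub_neg_eq_add, _root_.zero_add] using this

omit [Finite W] in
theorem j13 {m v : Y} (hm : Rp cs R.nsys (cs.simple j) m) (hv : v ∈ V3) : m * v * m⁻¹ ∈ V0 := by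
  have := R.conj_mem hm D.r13 hv
  rw [rep_right, D.a2] at this
  simpa using this

omit [Finite W] in
theorem j11 {m v : Y} (hm : Rp cs R.nsys (cs.simple j) m) (hv : v ∈ V1) : m * v * m⁻¹ ∈ V2 := by
  have := R.conj_mem hm D.r11 hv
  rw [rep_right, D.a2] at this
  simpa only [_root_.Int.reduceNeg, _root_.mul_one, _root_.sub_neg_eq_add, _root_.Int.reduceAdd] using this

omit [Finite W] in
theorem j12 {m v : Y} (hm : Rp cs R.nsys (cs.simple j) m) (hv : v ∈ V2) : m * v * m⁻¹ ∈ V1 := by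
  have := R.conj_mem hm D.r12 hv
  rw [rep_right, D.a2] at this
  simpa only [_root_.Int.reduceNeg, _root_.mul_one, _root_.sub_neg_eq_add, _root_.Int.reduceAdd] using this

omit [Finite W] in
theorem j23 {m v : Y} (hm : Rp cs R.nsys (cs.simple j) m) (hv : v ∈ ZZ) : m * v * m⁻¹ ∈ ZZ := by
  have := R.conj_mem hm D.r23 hv
  rw [rep_right, D.a2] at this
  simpa only [_root_.Int.reduceNeg, _root_.neg_mul, _root_.Int.reduceMul, _root_.sub_neg_eq_add, _root_.Int.reduceAdd] using this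

/-! ### step 1: the action of `V0` on `GG1` -/

omit [Finite W] in
omit R in
theorem k10_01 {u x : Y} (hu : u ∈ V0) (hx : x ∈ GG1) : ⁅u, x⁆ ∈ V1 ⊔ NN2 := comm_swap (D.k01_10 hx hu)

/-- the relation `⁅u, x⁆ ≡ b` modulo `NN2` -/
theorem E_mul_left {u u' x b b' : Y} (hu : u ∈ V0) (h1 : Cp NN2 V1 ⁅u, x⁆ b) (h2 : Cp NN2 V1 ⁅u', x⁆ b') :
    Cp NN2 V1 ⁅u * u', x⁆ (b' * b) := by
  have e : ⁅u * u', x⁆ = u * ⁅u', x⁆ * u⁻¹ * ⁅u, x⁆ := by simp only [commutatorElement_def]; group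
  rw [e]
  refine (pN2 R D).mul ?_ h1
  refine h2.conj' (n10_N2 D hu) fun k hk => ?_
  rw [commutatorElement_eq_one_iff_mul_comm.2 (D.c10_11 hu hk)]
  exact one_mem _

theorem E_mul_right {u x x' b b' : Y} (hx : x ∈ GG1) (h1 : Cp NN2 V1 ⁅u, x⁆ b) (h2 : Cp NN2 V1 ⁅u, x'⁆ b') :
    Cp NN2 V1 ⁅u, x * x'⁆ (b * b') := by
  have e : ⁅u, x * x'⁆ = ⁅u, x⁆ * (x * ⁅u, x'⁆ * x⁻¹) := by simp only [commutatorElement_def]; group
  rw [e]
  exact (pN2 R D).mul h1 (h2.conj' (n01_N2 D hx) fun k hk => D.k01_11 hx hk)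

theorem E_ex {u x : Y} (hu : u ∈ V0) (hx : x ∈ GG1) : ∃ b, Cp NN2 V1 ⁅u, x⁆ b := by
  refine (pN2 R D).ex ?_
  rw [sup_comm]
  exact k10_01 D hu hx

/-- `⁅u, x⁆ ≡ m x m⁻¹` for `m = y u y'` -/
theorem E_mu {u x y y' m : Y} (hu : u ∈ V0) (hx : x ∈ GG1) (hy : y ∈ AM) (hy' : y' ∈ AM)
    (hm : Rp cs R.nsys (cs.simple i) m) (hme : m = y * u * y') : Cp NN2 V1 ⁅u, x⁆ (m * x * m⁻¹) := by
  obtain ⟨b, hb, ht⟩ := E_ex R D hu hx
  have e1 : y' * x * y'⁻¹ = x := by rw [D.cn_01 hy' hx]; group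
  have e2 : y * x * y⁻¹ = x := by rw [D.cn_01 hy hx]; group
  have e3 : m * x * m⁻¹ = y * (⁅u, x⁆ * x) * y⁻¹ := by
    calc m * x * m⁻¹ = y * (u * (y' * x * y'⁻¹) * u⁻¹) * y⁻¹ := by rw [hme]; group
      _ = _ := by rw [e1, commutatorElement_def]; group
  have h1 : Cp KK1 V1 (⁅u, x⁆ * x) (b * 1) :=
    (pK1 R D).mul ⟨hb, Subgroup.mem_sup_right ht⟩ (Cp.of_K (Subgroup.mem_sup_left hx))
  have h2 : Cp KK1 V1 (m * x * m⁻¹) b := by
    rw [e3]
    rw [mul_one] at h1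
    exact h1.conj' (nn_K1 D hy) fun k hk => D.kn_11 hy hk
  have h3 := (pK1 R D).uniq h2 (Cp.of_L (i01 R D hm hx))
  rw [← h3]
  exact ⟨hb, ht⟩

end Sep

section Main

variable [Finite W] [Fact p.Prime] (hp : 5 ≤ p) (R : RGD cs h p T n X) (D : G2 cs h X i j)

include R in
theorem tor {x y : Y} {z : I → ℤ} (hx : x ∈ T) (hz : IsRoot cs h z) (hy : y ∈ X z) : x * y * x⁻¹ ∈ X z := by
  rw [← R.tor z hz x hx]
  exact conj_mem_cj.2 hy

theorem neg_i : -sr i = T5Root.rt i j (-1) 0 := by rw [← rt_one_zero i j, rt_neg, neg_zero]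

theorem neg_j : -sr j = T5Root.rt i j 0 (-1) := by rw [← rt_zero_one i j, rt_neg, neg_zero]

include R in
theorem mu_i {u : Y} (hu : u ∈ V0) (hu1 : u ≠ 1) : ∃ y ∈ AM, ∃ y' ∈ AM, ∃ m, Rp cs R.nsys (cs.simple i) m ∧
    m = y * u * y' := by
  rw [rt_one_zero] at hu
  obtain ⟨a, ha, b, hb, m, hm, e⟩ := exists_mu_simple R hu hu1
  rw [neg_i (j := j)] at ha hb
  exact ⟨a, ha, b, hb, m, hm, e⟩

include R in
theorem mu_j {u : Y} (hu : u ∈ GG1) (hu1 : u ≠ 1) : ∃ y ∈ GM, ∃ y' ∈ GM, ∃ m, Rp cs R.nsys (cs.simple j) m ∧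
    m = y * u * y' := by
  rw [rt_zero_one] at hu
  obtain ⟨a, ha, b, hb, m, hm, e⟩ := exists_mu_simple R hu hu1
  rw [neg_j (i := i)] at ha hb
  exact ⟨a, ha, b, hb, m, hm, e⟩

include hp in
theorem p_odd : p ≠ 2 := by omega

include hp in
theorem cop6 : Nat.Coprime 6 p := by
  have hpp : p.Prime := Fact.out
  have h1 : Nat.Coprime 2 p := (Nat.coprime_primes Nat.prime_two hpp).2 (by omega)
  have h2 : Nat.Coprime 3 p := (Nat.coprime_primes Nat.prime_three hpp).2 (by omega)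
  exact Nat.Coprime.mul_left h1 h2

include R in
theorem mmT {s : I} {m : Y} (hm : Rp cs R.nsys (cs.simple s) m) : m * m ∈ T := by
  have := hm.mul hm
  rw [cs.simple_mul_simple_self] at this
  exact this.mem_of_one

include R in
theorem minv {s : I} {m : Y} (hm : Rp cs R.nsys (cs.simple s) m) : Rp cs R.nsys (cs.simple s) m⁻¹ := by
  have := hm.inv
  rwa [cs.inv_simple] at this

include R D

/-- `m t m⁻¹ = ⁅u, t⁆` on `V3` -/
theorem mu_13 {u t y y' m : Y} (hu : u ∈ V0) (ht : t ∈ V3) (hy : y ∈ AM) (hy' : y' ∈ AM)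
    (hm : Rp cs R.nsys (cs.simple i) m) (hme : m = y * u * y') : m * t * m⁻¹ = ⁅u, t⁆ := by
  have h1 := D.k10_13 hu ht
  have e1 : y' * t * y'⁻¹ = t := by rw [D.cn_13 hy' ht]; group
  have e2 : y * t * y⁻¹ = t := by rw [D.cn_13 hy ht]; group
  have e3 : m * t * m⁻¹ = ⁅y, ⁅u, t⁆⁆ * ⁅u, t⁆ * t := by
    calc m * t * m⁻¹ = y * (u * (y' * t * y'⁻¹) * u⁻¹) * y⁻¹ := by rw [hme]; group
      _ = y * (⁅u, t⁆ * t) * y⁻¹ := by rw [e1, commutatorElement_def]; group
      _ = ⁅y, ⁅u, t⁆⁆ * ⁅u, t⁆ * (y * t * y⁻¹) := by rw [commutatorElement_def y]; group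
      _ = _ := by rw [e2]
  have h2 : ⁅y, ⁅u, t⁆⁆ ∈ V3 := D.kn_23 hy h1
  have e4 : ⁅y, ⁅u, t⁆⁆ * t = (m * t * m⁻¹) * ⁅u, t⁆⁻¹ := by
    rw [e3, mul_assoc ⁅y, ⁅u, t⁆⁆ ⁅u, t⁆ t, ← D.c13_23 ht h1]; group
  have h3 : (m * t * m⁻¹) * ⁅u, t⁆⁻¹ = 1 :=
    V_3Z R D (by rw [← e4]; exact mul_mem h2 ht) (mul_mem (i13 R D hm ht) (inv_mem h1))
  exact mul_inv_eq_one.1 h3

/-- the elements of the torus -/
theorem exists_tor (hp : 5 ≤ p) : ∃ k ∈ T, ∃ q ∈ T, (∀ x ∈ GG1, k * x * k⁻¹ = x⁻¹) ∧ (∀ x ∈ V1, k * x * k⁻¹ = x⁻¹) ∧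
    (∀ x ∈ V3, k * x * k⁻¹ = x⁻¹) ∧ (∀ x ∈ GG1, q * x * q⁻¹ = x * x) ∧ (∀ x ∈ V1, q * (x * x) * q⁻¹ = x) ∧
    (∀ x ∈ V3, q * x * q⁻¹ = x * x) ∧
    (∀ x ∈ V0, q * x * q⁻¹ * (q * x * q⁻¹) * (q * x * q⁻¹ * (q * x * q⁻¹)) = x) := by
  obtain ⟨u, hu', hu1⟩ := exists_ne_one R i
  have hu : u ∈ V0 := by rwa [rt_one_zero]
  have huu : u * u ≠ 1 := fun h1 => hu1 (eq_one_of_sq (p_odd hp) (R.pgrp i) hu' h1)
  obtain ⟨a, ha, b, hb, m, hm, hme⟩ := mu_i (j := j) R hu hu1
  obtain ⟨a2, ha2, b2, hb2, m2, hm2, hme2⟩ := mu_i (j := j) R (mul_mem hu hu) huu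
  -- inversion
  have inv : ∀ {u a b m : Y}, u ∈ V0 → a ∈ AM → b ∈ AM → Rp cs R.nsys (cs.simple i) m → m = a * u * b →
      ∀ x ∈ GG1, m * m * x * (m * m)⁻¹ = x⁻¹ := by
    intro u a b m hu ha hb hm hme x hx
    have h1 := E_mu R D hu hx ha hb hm hme
    have h2 := E_mu (m := m⁻¹) R D (inv_mem hu) hx (inv_mem hb) (inv_mem ha) (minv R hm) (by rw [hme]; group)
    have h3 := E_mul_left R D (inv_mem hu) h2 h1
    rw [inv_mul_cancel, commutatorElement_one_left, inv_inv] at h3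
    have h4 := (pN2 R D).uniq h3 (Cp.of_K (one_mem _))
    have h5 : m * x * m⁻¹ = (m⁻¹ * x * m)⁻¹ := eq_inv_of_mul_eq_one_left h4
    calc m * m * x * (m * m)⁻¹ = m * (m * x * m⁻¹) * m⁻¹ := by group
      _ = x⁻¹ := by rw [h5]; group
  have inv' : ∀ {u a b m : Y}, u ∈ V0 → a ∈ AM → b ∈ AM → Rp cs R.nsys (cs.simple i) m → m = a * u * b →
      ∀ x ∈ V1, m * m * x * (m * m)⁻¹ = x⁻¹ := by
    intro u a b m hu ha hb hm hme x hx
    have h1 := inv hu ha hb hm hme _ (i11 R D hm hx)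
    calc m * m * x * (m * m)⁻¹ = m⁻¹ * (m * m * (m * x * m⁻¹) * (m * m)⁻¹) * m := by group
      _ = x⁻¹ := by rw [h1]; group
  have m2x : ∀ x ∈ GG1, m2 * x * m2⁻¹ = m * (x * x) * m⁻¹ := by
    intro x hx
    have h1 := E_mu R D hu hx ha hb hm hme
    have h2 := E_mul_left R D hu h1 h1
    have h3 := E_mu R D (mul_mem hu hu) hx ha2 hb2 hm2 hme2
    rw [(pN2 R D).uniq h3 h2]; group
  have hT : m⁻¹ * m2 ∈ T := by
    have := (minv R hm).mul hm2
    rw [cs.simple_mul_simple_self] at this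
    exact this.mem_of_one
  have hqG : ∀ x ∈ GG1, m⁻¹ * m2 * x * (m⁻¹ * m2)⁻¹ = x * x := by
    intro x hx
    calc m⁻¹ * m2 * x * (m⁻¹ * m2)⁻¹ = m⁻¹ * (m2 * x * m2⁻¹) * m := by group
      _ = x * x := by rw [m2x x hx]; group
  have hqV : ∀ x ∈ V1, m⁻¹ * m2 * (x * x) * (m⁻¹ * m2)⁻¹ = x := by
    intro y hy
    have h1 : m2⁻¹ * y⁻¹ * m2 ∈ GG1 := by
      have := i11 R D (minv R hm2) (inv_mem hy)
      rwa [inv_inv] at this
    set x := m2⁻¹ * y⁻¹ * m2 with hx
    have h2 := m2x x h1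
    have h3 : m2 * y * m2⁻¹ = x := by
      have h4 := inv' (mul_mem hu hu) ha2 hb2 hm2 hme2 y hy
      calc m2 * y * m2⁻¹ = m2⁻¹ * (m2 * m2 * y * (m2 * m2)⁻¹) * m2 := by group
        _ = x := by rw [h4]
    have h5 : m2 * x * m2⁻¹ = y⁻¹ := by rw [hx]; group
    rw [h5] at h2
    have h6 : x * x = m⁻¹ * y⁻¹ * m := by rw [h2]; group
    have h7 := inv' hu ha hb hm hme y hy
    calc m⁻¹ * m2 * (y * y) * (m⁻¹ * m2)⁻¹ = m⁻¹ * ((m2 * y * m2⁻¹) * (m2 * y * m2⁻¹)) * m := by group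
      _ = m⁻¹ * (m⁻¹ * y⁻¹ * m) * m := by rw [h3, h6]
      _ = (m * m)⁻¹ * y⁻¹ * (m * m) := by group
      _ = y := by rw [← h7]; group
  have hV3 : ∀ t ∈ V3, m * m * t * (m * m)⁻¹ = t⁻¹ := by
    intro t ht
    have h1 := mu_13 R D hu ht ha hb hm hme
    have h2 := mu_13 (m := m⁻¹) R D (inv_mem hu) ht (inv_mem hb) (inv_mem ha) (minv R hm) (by rw [hme]; group)
    rw [inv_inv] at h2
    have h3 : ⁅u⁻¹, t⁆ = ⁅u, t⁆⁻¹ := by
      have h4 := D.c10_23 hu (D.k10_13 hu ht)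
      calc ⁅u⁻¹, t⁆ = u⁻¹ * ⁅u, t⁆⁻¹ * u := by simp only [commutatorElement_def]; group
        _ = (⁅u, t⁆ * u)⁻¹ * u := by group
        _ = _ := by rw [← h4]; group
    rw [h3, ← h1] at h2
    calc m * m * t * (m * m)⁻¹ = m * (m * t * m⁻¹) * m⁻¹ := by group
      _ = m * (m⁻¹ * t * m)⁻¹ * m⁻¹ := by rw [h2, inv_inv]
      _ = t⁻¹ := by group
  have hqV3 : ∀ t ∈ V3, m⁻¹ * m2 * t * (m⁻¹ * m2)⁻¹ = t * t := by
    intro t ht
    have h1 := mu_13 R D hu ht ha hb hm hme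
    have h2 := mu_13 R D (mul_mem hu hu) ht ha2 hb2 hm2 hme2
    have h3 : ⁅u * u, t⁆ = ⁅u, t⁆ * ⁅u, t⁆ := by
      have h4 := D.c10_23 hu (D.k10_13 hu ht)
      calc ⁅u * u, t⁆ = u * ⁅u, t⁆ * u⁻¹ * ⁅u, t⁆ := by simp only [commutatorElement_def]; group
        _ = _ := by rw [h4]; group
    rw [h3, ← h1] at h2
    calc m⁻¹ * m2 * t * (m⁻¹ * m2)⁻¹ = m⁻¹ * (m2 * t * m2⁻¹) * m := by group
      _ = t * t := by rw [h2]; group
  refine ⟨m * m, mmT R hm, m⁻¹ * m2, hT, inv hu ha hb hm hme, inv' hu ha hb hm hme, hV3, hqG, hqV, hqV3, ?_⟩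
  intro v hv
  generalize m⁻¹ * m2 = q at *
  have hv' : q * v * q⁻¹ ∈ V0 := tor R hT D.r10 hv
  set v' := q * v * q⁻¹ with hv'def
  by_contra hne
  have hne' : v' * v' * (v' * v') * v⁻¹ ≠ 1 := fun h1 => hne (mul_inv_eq_one.1 h1)
  have hvm : v' * v' * (v' * v') * v⁻¹ ∈ V0 := mul_mem (mul_mem (mul_mem hv' hv') (mul_mem hv' hv')) (inv_mem hv)
  obtain ⟨a3, ha3, b3, hb3, m3, hm3, hme3⟩ := mu_i (j := j) R hvm hne'
  obtain ⟨x, hx', hx1⟩ := exists_ne_one R j
  have hx : x ∈ GG1 := by rwa [rt_zero_one]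
  obtain ⟨y, hy⟩ := E_ex R D hv hx
  obtain ⟨y1, hy1⟩ := E_ex R D hv' hx
  have h1 : Cp NN2 V1 ⁅v', x * x⁆ (q * y * q⁻¹) := by
    have h2 := hy.conj (g := q) (fun k hk => conj_sup (K := NN2) (conj_sup
      (fun x hx => Subgroup.mem_sup_left (Subgroup.mem_sup_left (tor R hT D.r12 hx)))
      (fun x hx => Subgroup.mem_sup_left (Subgroup.mem_sup_right (tor R hT D.r13 hx))))
      (fun x hx => Subgroup.mem_sup_right (tor R hT D.r23 hx)) k hk) (fun k hk => tor R hT D.r11 hk)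
    have e : q * ⁅v, x⁆ * q⁻¹ = ⁅v', x * x⁆ := by
      rw [← hqG x hx, hv'def]; simp only [commutatorElement_def]; group
    rwa [e] at h2
  have h2 : q * y * q⁻¹ = y1 * y1 := (pN2 R D).uniq h1 (E_mul_right R D hx hy1 hy1)
  have h3 := E_mul_left R D hv' hy1 hy1
  have h4 := E_mul_left R D (mul_mem hv' hv') h3 h3
  have h5 : y1 * y1 * (y1 * y1) = y := by
    calc y1 * y1 * (y1 * y1) = q * (y * y) * q⁻¹ := by rw [← h2]; group
      _ = y := hqV y hy.1
  rw [h5] at h4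
  obtain ⟨y2, hy2⟩ := E_ex R D (inv_mem hv) hx
  have h6 := E_mul_left R D (inv_mem hv) hy2 hy
  rw [inv_mul_cancel, commutatorElement_one_left] at h6
  have h7 : y * y2 = 1 := (pN2 R D).uniq h6 (Cp.of_K (one_mem _))
  have h8 := E_mul_left R D (mul_mem (mul_mem hv' hv') (mul_mem hv' hv')) h4 hy2
  have h9 := E_mu R D hvm hx ha3 hb3 hm3 hme3
  have h10 : y2 * y = 1 := by rw [eq_inv_of_mul_eq_one_left h7, mul_inv_cancel]
  have h11 := (pN2 R D).uniq h9 h8
  rw [h10] at h11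
  apply hx1
  calc x = m3⁻¹ * (m3 * x * m3⁻¹) * m3 := by group
    _ = 1 := by rw [h11]; group

/-- the torus normalises `KK3` -/
theorem tor_K3 {q : Y} (hq : q ∈ T) : ∀ k ∈ KK3, q * k * q⁻¹ ∈ KK3 :=
  conj_sup (K := KK3) (conj_sup (conj_sup
    (fun _ hx => Subgroup.mem_sup_left (Subgroup.mem_sup_left (Subgroup.mem_sup_left (tor R hq D.r10 hx))))
    (fun _ hx => Subgroup.mem_sup_left (Subgroup.mem_sup_left (Subgroup.mem_sup_right (tor R hq D.r11 hx)))))
    (fun _ hx => Subgroup.mem_sup_left (Subgroup.mem_sup_right (tor R hq D.r12 hx))))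
    (fun _ hx => Subgroup.mem_sup_right (tor R hq D.r23 hx))

/-- **Step 2**: an element of `GG1` commuting with `V2` is trivial. -/
theorem eq_one_of_c12 (hp : 5 ≤ p) {w : Y} (hw : w ∈ GG1) (hc : ∀ c ∈ V2, w * c = c * w) : w = 1 := by
  obtain ⟨-, -, q, hq, -, -, -, hqG, hqV, hqV3, hq0⟩ := exists_tor R D hp
  have P3 := pK3 R D
  have v0K : ∀ {v : Y}, v ∈ V0 → v ∈ KK3 := fun hv =>
    Subgroup.mem_sup_left (Subgroup.mem_sup_left (Subgroup.mem_sup_left hv))
  have v1K : ∀ {v : Y}, v ∈ V1 → v ∈ KK3 := fun hv =>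
    Subgroup.mem_sup_left (Subgroup.mem_sup_left (Subgroup.mem_sup_right hv))
  have v2K : ∀ {v : Y}, v ∈ V2 → v ∈ KK3 := fun hv => Subgroup.mem_sup_left (Subgroup.mem_sup_right hv)
  have vZK : ∀ {v : Y}, v ∈ ZZ → v ∈ KK3 := fun hv => Subgroup.mem_sup_right hv
  -- `w` commutes with `NN2`
  have hcN : ∀ t ∈ NN2, w * t * w⁻¹ = t := by
    intro t ht
    have h1 : NN2 ≤ Subgroup.centralizer {w} := by
      refine sup_le (sup_le (fun x hx => ?_) (fun x hx => ?_)) (fun x hx => ?_) <;>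
        rw [Subgroup.mem_centralizer_singleton_iff]
      · exact (hc x hx).symm
      · exact (D.c01_13 hw hx).symm
      · exact (D.c01_23 hw hx).symm
    have h2 := h1 ht
    rw [Subgroup.mem_centralizer_singleton_iff] at h2
    rw [← h2]; group
  have N2K : NN2 ≤ KK3 ⊔ V3 := sup_le (sup_le (fun x hx => Subgroup.mem_sup_left (v2K hx))
    (fun x hx => Subgroup.mem_sup_right hx)) (fun x hx => Subgroup.mem_sup_left (vZK hx))
  have ex1 : ∀ {w : Y}, w ∈ GG1 → ∀ b ∈ V1, ∃ s, Cp KK3 V3 (w * b * w⁻¹) s := fun {w} hw b hb => by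
    refine P3.ex ?_
    have e : w * b * w⁻¹ = ⁅w, b⁆ * b := by rw [commutatorElement_def]; group
    rw [e]
    exact mul_mem (N2K (D.k01_11 hw hb)) (Subgroup.mem_sup_left (v1K hb))
  have ex0 : ∀ {w : Y}, w ∈ GG1 → ∀ v ∈ V0, ∃ s, Cp KK3 V3 (w * v * w⁻¹) s := fun {w} hw v hv => by
    refine P3.ex ?_
    have e : w * v * w⁻¹ = ⁅w, v⁆ * v := by rw [commutatorElement_def]; group
    rw [e]
    refine mul_mem ?_ (Subgroup.mem_sup_left (v0K hv))
    exact (sup_le (fun x hx => Subgroup.mem_sup_left (v1K hx)) N2K : V1 ⊔ NN2 ≤ KK3 ⊔ V3) (D.k01_10 hw hv)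
  have qw : q * w * q⁻¹ = w * w := hqG w hw
  -- `β₃ (w, b) = 1`
  have B3 : ∀ b ∈ V1, Cp KK3 V3 (w * b * w⁻¹) 1 := by
    intro b hb
    obtain ⟨s, hs⟩ := ex1 hw b hb
    have h1 : Cp KK3 V3 (w * w * b * (w * w)⁻¹) (s * s) := by
      have h2 : Cp KK3 V3 ⁅w, b⁆ s := by
        have := P3.mul hs (P3.inv (Cp.of_K (L := V3) (v1K hb)))
        rw [inv_one, mul_one] at this
        have e : w * b * w⁻¹ * b⁻¹ = ⁅w, b⁆ := by rw [commutatorElement_def]
        rwa [e] at this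
      have e : w * w * b * (w * w)⁻¹ = ⁅w, b⁆ * (w * b * w⁻¹) := by
        calc w * w * b * (w * w)⁻¹ = (w * ⁅w, b⁆ * w⁻¹) * (w * b * w⁻¹) := by
              rw [commutatorElement_def]; group
          _ = _ := by rw [hcN _ (D.k01_11 hw hb)]
      rw [e]
      exact P3.mul h2 hs
    have h2 : Cp KK3 V3 (w * w * (q * b * q⁻¹) * (w * w)⁻¹) (s * s) := by
      have h3 := hs.conj (g := q) (tor_K3 R D hq) (fun k hk => tor R hq D.r13 hk)
      rw [hqV3 s hs.1] at h3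
      have e : q * (w * b * w⁻¹) * q⁻¹ = w * w * (q * b * q⁻¹) * (w * w)⁻¹ := by rw [← qw]; group
      rwa [e] at h3
    have h3 := P3.mul h2 h2
    have e : w * w * (q * b * q⁻¹) * (w * w)⁻¹ * (w * w * (q * b * q⁻¹) * (w * w)⁻¹) =
        w * w * b * (w * w)⁻¹ := by
      calc w * w * (q * b * q⁻¹) * (w * w)⁻¹ * (w * w * (q * b * q⁻¹) * (w * w)⁻¹) =
            w * w * (q * (b * b) * q⁻¹) * (w * w)⁻¹ := by group
        _ = _ := by rw [hqV b hb]
    rw [e] at h3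
    have h4 : s * s = s * s * (s * s) := P3.uniq h1 h3
    have h5 : s * s = 1 := left_eq_mul.1 h4
    have h6 : s = 1 := eq_one_of_sq (p_odd hp) (R.pgrp' D.r13) hs.1 h5
    rwa [h6] at hs
  by_contra hw1
  have hw2 : w * w ≠ 1 := fun h1 => hw1 (eq_one_of_sq (p_odd hp) (R.pgrp' D.r01) hw h1)
  -- `α₃ (w, v) = m v m⁻¹`
  have A3 : ∀ {w a b m : Y}, w ∈ GG1 → a ∈ GM → b ∈ GM → Rp cs R.nsys (cs.simple j) m → m = a * w * b →
      ∀ v ∈ V0, Cp KK3 V3 (w * v * w⁻¹) (m * v * m⁻¹) := by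
    intro w a b m hw ha hb hm hme v hv
    obtain ⟨r, hr⟩ := ex0 hw v hv
    have e1 : b * v * b⁻¹ = v := by rw [D.cm_10 hb hv]; group
    have e2 : m * v * m⁻¹ = a * (w * v * w⁻¹) * a⁻¹ := by
      calc m * v * m⁻¹ = a * (w * (b * v * b⁻¹) * w⁻¹) * a⁻¹ := by rw [hme]; group
        _ = _ := by rw [e1]
    have h1 : Cp KK3 V3 (m * v * m⁻¹) r := by
      rw [e2]
      exact hr.conj' (nm_K3 D ha) fun k hk => D.km_13 ha hk
    rw [P3.uniq (Cp.of_L (j10 R D hm hv)) h1]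
    exact hr
  obtain ⟨a, ha, b, hb, m, hm, hme⟩ := mu_j (i := i) R hw hw1
  obtain ⟨a2, ha2, b2, hb2, m2, hm2, hme2⟩ := mu_j (i := i) R (mul_mem hw hw) hw2
  obtain ⟨v, hv', hv1⟩ := exists_ne_one R i
  have hv : v ∈ V0 := by rwa [rt_one_zero]
  have h1 := A3 hw ha hb hm hme v hv
  set r := m * v * m⁻¹ with hr
  -- the square
  have h2 : Cp KK3 V3 (w * w * v * (w * w)⁻¹) (r * r) := by
    have h3 := D.k01_10 hw hv
    rw [sup_comm] at h3
    obtain ⟨bb, hbb, ht⟩ := (pN2 R D).ex h3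
    -- `⁅w, v⁆ = t bb`
    have e1 : w * v * w⁻¹ = (⁅w, v⁆ * bb⁻¹) * bb * v := by rw [commutatorElement_def]; group
    set t := ⁅w, v⁆ * bb⁻¹ with htdef
    have h4 : Cp KK3 V3 t r := by
      have h5 : t = w * v * w⁻¹ * (bb * v)⁻¹ := by rw [e1]; group
      have h6 := P3.mul h1 (P3.inv (Cp.of_K (L := V3) (mul_mem (v1K hbb) (v0K hv))))
      rw [inv_one, mul_one] at h6
      rwa [h5]
    have e2 : w * w * v * (w * w)⁻¹ = t * (w * bb * w⁻¹) * (w * v * w⁻¹) := by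
      calc w * w * v * (w * w)⁻¹ = w * (w * v * w⁻¹) * w⁻¹ := by group
        _ = w * (t * bb * v) * w⁻¹ := by rw [e1]
        _ = (w * t * w⁻¹) * (w * bb * w⁻¹) * (w * v * w⁻¹) := by group
        _ = _ := by rw [hcN t ht]
    rw [e2]
    have := P3.mul (P3.mul h4 (B3 bb hbb)) h1
    rwa [mul_one] at this
  have h3 : Cp KK3 V3 (w * w * (q * v * q⁻¹) * (w * w)⁻¹) (r * r) := by
    have h4 := h1.conj (g := q) (tor_K3 R D hq) (fun k hk => tor R hq D.r13 hk)
    rw [hqV3 r h1.1] at h4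
    have e : q * (w * v * w⁻¹) * q⁻¹ = w * w * (q * v * q⁻¹) * (w * w)⁻¹ := by rw [← qw]; group
    rwa [e] at h4
  have h4 := P3.mul h3 h3
  have h5 := P3.mul h4 h4
  have e : w * w * (q * v * q⁻¹) * (w * w)⁻¹ * (w * w * (q * v * q⁻¹) * (w * w)⁻¹) *
      (w * w * (q * v * q⁻¹) * (w * w)⁻¹ * (w * w * (q * v * q⁻¹) * (w * w)⁻¹)) =
      w * w * v * (w * w)⁻¹ := by
    calc w * w * (q * v * q⁻¹) * (w * w)⁻¹ * (w * w * (q * v * q⁻¹) * (w * w)⁻¹) *
        (w * w * (q * v * q⁻¹) * (w * w)⁻¹ * (w * w * (q * v * q⁻¹) * (w * w)⁻¹)) =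
          w * w * (q * v * q⁻¹ * (q * v * q⁻¹) * (q * v * q⁻¹ * (q * v * q⁻¹))) * (w * w)⁻¹ := by group
      _ = _ := by rw [hq0 v hv]
  rw [e] at h5
  have h6 := P3.uniq h2 h5
  have h7 : r ^ 6 = 1 := by
    have h8 : r * r * (r ^ 6) = r * r := by
      calc r * r * (r ^ 6) = r * r * (r * r) * (r * r * (r * r)) := by
            simp only [pow_succ, pow_zero, one_mul, mul_assoc]
        _ = r * r := h6.symm
    exact mul_eq_left.1 h8
  have h8 : r = 1 := eq_one_of_pow (cop6 hp) (R.pgrp' D.r13) h1.1 h7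
  apply hv1
  calc v = m⁻¹ * r * m := by rw [hr]; group
    _ = 1 := by rw [h8]; group

end Main

end Cfsg.Agent.H798.T5GThree
end

-- part: H798/T5GFour
section
/-!
T5, defining characteristic, part 8 (helper798): `bd_of_G2` : the bond property of a triple bond (`G₂(q)`, `³D₄(q)`),
`p ≥ 5`.
-/

set_option autoImplicit false
set_option linter.unusedSectionVars false
set_option maxHeartbeats 400000

namespace Cfsg.Agent.H798.T5GFour

open CoxeterSystem Cfsg.Agent.ChevalleyStructure.CoxeterGeom Cfsg.Agent.Tits.Roots Cfsg.Agent.Tits.Core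
  Cfsg.Agent.Tits.RootComb Cfsg.Agent.Tits.Exchange Cfsg.Agent.Nodes.Reps Cfsg.Agent.Nodes.BNOf
  Cfsg.Agent.Nodes.StabComb Cfsg.Agent.Nodes.Bruhat Cfsg.Agent.Nodes.OppDec Cfsg.Agent.Nodes.LeviDec
  Cfsg.Agent.Nodes.Coroot Cfsg.Agent.KFacts.RgdSL Cfsg.Agent.KFacts.RgdBorelTits Cfsg.Agent.KFacts.RgdFilt
  Cfsg.Agent.H533.T5 Cfsg.Agent.H798.T5Geo Cfsg.Agent.H798.T5Root Cfsg.Agent.H798.T5Bond Cfsg.Agent.H798.T5BTwo
  Cfsg.Agent.H798.T5GTwo Cfsg.Agent.H798.T5GThree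
open scoped commutatorElement

variable {I W Y : Type*} [Fintype I] [DecidableEq I] [Group W] [Group Y] {M : CoxeterMatrix I}
  {cs : CoxeterSystem M W} {A : I → I → ℤ} {h : IsCartan M A} {p : ℕ} {T : Subgroup Y} {n : I → Y}
  {X : (I → ℤ) → Subgroup Y} {i j : I}

attribute [local irreducible] T5Root.rt

local notation "V0" => X (T5Root.rt i j 1 0)
local notation "V1" => X (T5Root.rt i j 1 1)
local notation "V2" => X (T5Root.rt i j 1 2)
local notation "V3" => X (T5Root.rt i j 1 3)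
local notation "ZZ" => X (T5Root.rt i j 2 3)
local notation "GG1" => X (T5Root.rt i j 0 1)
local notation "GM" => X (T5Root.rt i j 0 (-1))
local notation "AM" => X (T5Root.rt i j (-1) 0)
local notation "NN2" => (X (T5Root.rt i j 1 2) ⊔ X (T5Root.rt i j 1 3) ⊔ X (T5Root.rt i j 2 3))
local notation "KK3" => (X (T5Root.rt i j 1 0) ⊔ X (T5Root.rt i j 1 1) ⊔ X (T5Root.rt i j 1 2) ⊔ X (T5Root.rt i j 2 3))

/-- the elements all of whose `P_j`-conjugates lie in `V_i ∩ V_j` -/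
def Ball (cs : CoxeterSystem M W) (h : IsCartan M A) (T : Subgroup Y) (X : (I → ℤ) → Subgroup Y) (i j : I) (e : Y) :
    Prop := ∀ g ∈ PJ cs h T X {j}, g * e * g⁻¹ ∈ VJ cs h X {i} ∧ g * e * g⁻¹ ∈ VJ cs h X {j}

theorem Ball.conj {e g : Y} (he : Ball cs h T X i j e) (hg : g ∈ PJ cs h T X {j}) :
    Ball cs h T X i j (g * e * g⁻¹) := by
  intro r hr
  have e1 : r * (g * e * g⁻¹) * r⁻¹ = (r * g) * e * (r * g)⁻¹ := by group
  rw [e1]
  exact he _ (mul_mem hr hg)

section Main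

variable [Finite W] [Finite Y] [Fact p.Prime] (R : RGD cs h p T n X) (D : G2 cs h X i j)
  (hall : ∀ k, k = i ∨ k = j)

include R D hall

theorem shape {e : Y} (he : Ball cs h T X i j e) : e ∈ V1 ⊔ V2 ⊔ ZZ := by
  have hij := D.ne
  have hnj : n j ∈ PJ cs h T X {j} := LJ_le_PJ (n_mem_LJ R rfl)
  have hni : n i ∈ PJ cs h T X {i} := LJ_le_PJ (n_mem_LJ R rfl)
  have h1 : e ∈ VJ cs h X {i} := by
    have := (he 1 (one_mem _)).1
    rwa [one_mul, inv_one, mul_one] at this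
  have h2 : n i * e * (n i)⁻¹ ∈ VJ cs h X {i} := (P_conj_V R hni).2 h1
  have h3 : n i * (n j * e * (n j)⁻¹) * (n i)⁻¹ ∈ VJ cs h X {i} := (P_conj_V R hni).2 (he _ hnj).1
  have hk : Rp cs R.nsys (cs.simple i * cs.simple j * cs.simple i) (n i * n j * (n i)⁻¹) := by
    have := ((rp_simple cs R.nsys i).mul (rp_simple cs R.nsys j)).mul (rp_simple cs R.nsys i).inv
    rwa [cs.inv_simple] at this
  have h4 : n i * n j * (n i)⁻¹ * (n i * e * (n i)⁻¹) * (n i * n j * (n i)⁻¹)⁻¹ ∈ RGD.B cs h T X := by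
    have e1 : n i * n j * (n i)⁻¹ * (n i * e * (n i)⁻¹) * (n i * n j * (n i)⁻¹)⁻¹ =
        n i * (n j * e * (n j)⁻¹) * (n i)⁻¹ := by group
    rw [e1]
    exact VJ_le_B _ h3
  have h5 := Nodes.Slope.mem_of_conj_mem_B R hk.inv (VJ_le_U _ h2) (by rwa [inv_inv])
  have h6 : (n i)⁻¹ * (n i * e * (n i)⁻¹) * n i ∈
      RGD.Sup X {x | x = T5Root.rt i j 1 1 ∨ x = T5Root.rt i j 1 2 ∨ x = T5Root.rt i j 2 3} := by
    refine conj_mem_Sup' R (rp_simple cs R.nsys i) (fun x hx => hx.1) (fun x hx => ?_) h5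
    obtain ⟨hx1, hx0, hx2⟩ := hx
    rw [inv_inv] at hx2
    have hx3 : x = T5Root.rt i j (x i) (x j) := eq_rt hij fun k hki hkj => by
      rcases hall k with h7 | h7
      · exact absurd h7 hki
      · exact absurd h7 hkj
    rw [hx3] at hx1 hx0 hx2 ⊢
    generalize x i = a at *
    generalize x j = g at *
    rw [rep_mul_apply, rep_mul_apply, rep_left, rep_right, rep_left, rt_nonneg hij, D.a1, D.a2] at hx2
    rw [rt_nonneg hij] at hx0
    rw [cs.inv_simple, rep_left, D.a1]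
    rcases D.lst hx1 with h7 | h7 | h7 | h7 | h7 | h7 | h7 | h7 | h7 | h7 | h7 | h7
    · exfalso; omega
    · exfalso; omega
    · left; rw [h7.1, h7.2]; norm_num
    · exfalso; omega
    · exfalso; omega
    · exfalso; omega
    · right; left; rw [h7.1, h7.2]; norm_num
    · exfalso; omega
    · right; right; rw [h7.1, h7.2]; norm_num
    · exfalso; omega
    · exfalso; omega
    · exfalso; omega
  have h7 : (n i)⁻¹ * (n i * e * (n i)⁻¹) * n i = e := by group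
  rw [h7] at h6
  refine (RGD.Sup_le fun x hx => ?_ : RGD.Sup X {x | x = T5Root.rt i j 1 1 ∨ x = T5Root.rt i j 1 2 ∨
    x = T5Root.rt i j 2 3} ≤ _) h6
  rcases hx with rfl | rfl | rfl
  · exact le_trans le_sup_left le_sup_left
  · exact le_trans le_sup_right le_sup_left
  · exact le_sup_right

omit hall in
omit [Finite Y] in
theorem shape_split {e : Y} (he : e ∈ V1 ⊔ V2 ⊔ ZZ) : ∃ b ∈ V1, ∃ c ∈ V2, ∃ z ∈ ZZ, e = c * z * b := by
  have hP : CPair (V2 ⊔ ZZ) V1 := by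
    constructor
    · intro r hr
      refine conj_sup (fun x hx => ?_) (fun x hx => ?_)
      · exact conj_of_comm (Subgroup.mem_sup_right (D.k11_12 hr hx)) (Subgroup.mem_sup_left hx)
      · exact conj_of_commute (D.c11_23 hr hx) (Subgroup.mem_sup_right hx)
    · intro r hr hr'
      exact V_N2 R D hr ((sup_le_sup_right le_sup_left _ : V2 ⊔ ZZ ≤ NN2) hr')
  have h1 : e ∈ (V2 ⊔ ZZ) ⊔ V1 := by
    rwa [sup_comm, ← sup_assoc]
  obtain ⟨b, hb, hk⟩ := hP.ex h1
  obtain ⟨c, hc, z, hz, e1⟩ := split_comm (fun x hx y hy => D.c12_23 hx hy) hk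
  exact ⟨b, hb, c, hc, z, hz, by rw [← e1]; group⟩

/-- the `V2`-component of an element of the ball is trivial -/
theorem c_eq_one (hp : 5 ≤ p) {b c z : Y} (hb : b ∈ V1) (hc : c ∈ V2) (hz : z ∈ ZZ)
    (he : Ball cs h T X i j (c * z * b)) : c = 1 := by
  obtain ⟨k, hk, -, -, hkG, hkV, hkV3, -⟩ := exists_tor R D hp
  have P3 := pK3 R D
  have v1K : ∀ {v : Y}, v ∈ V1 → v ∈ KK3 := fun hv =>
    Subgroup.mem_sup_left (Subgroup.mem_sup_left (Subgroup.mem_sup_right hv))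
  have v2K : ∀ {v : Y}, v ∈ V2 → v ∈ KK3 := fun hv => Subgroup.mem_sup_left (Subgroup.mem_sup_right hv)
  have vZK : ∀ {v : Y}, v ∈ ZZ → v ∈ KK3 := fun hv => Subgroup.mem_sup_right hv
  have N2K : NN2 ≤ KK3 ⊔ V3 := sup_le (sup_le (fun x hx => Subgroup.mem_sup_left (v2K hx))
    (fun x hx => Subgroup.mem_sup_right hx)) (fun x hx => Subgroup.mem_sup_left (vZK hx))
  have hSK : V1 ⊔ V2 ⊔ ZZ ≤ KK3 := sup_le (sup_le (fun _ hx => v1K hx) (fun _ hx => v2K hx)) (fun _ hx => vZK hx)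
  have ex1 : ∀ {w : Y}, w ∈ GG1 → ∀ b ∈ V1, ∃ s, Cp KK3 V3 (w * b * w⁻¹) s := fun {w} hw b hb => by
    refine P3.ex ?_
    have e : w * b * w⁻¹ = ⁅w, b⁆ * b := by rw [commutatorElement_def]; group
    rw [e]
    exact mul_mem (N2K (D.k01_11 hw hb)) (Subgroup.mem_sup_left (v1K hb))
  have hGP : ∀ {u : Y}, u ∈ GG1 → u ∈ PJ cs h T X {j} := fun {u} hu => by
    rw [rt_zero_one] at hu
    exact LJ_le_PJ (X_le_LJ (PosJ_subset {j} (sr_mem_PosJ rfl)) hu)
  -- the relation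
  have rel : ∀ {u s : Y}, u ∈ GG1 → Cp KK3 V3 (u * b * u⁻¹) s → ⁅u, c⁆ * s = 1 := by
    intro u s hu hs
    have h1 := shape R D hall (he.conj (hGP hu))
    have h2 : Cp KK3 V3 (u * (c * z * b) * u⁻¹) 1 := Cp.of_K (hSK h1)
    have h3 : ⁅u, c⁆ ∈ V3 := D.k01_12 hu hc
    have h4 : Cp KK3 V3 (u * c * u⁻¹) ⁅u, c⁆ := by
      have e1 : u * c * u⁻¹ = ⁅u, c⁆ * c := by rw [commutatorElement_def]; group
      rw [e1]
      have := P3.mul (Cp.of_L (K := KK3) h3) (Cp.of_K (L := V3) (v2K hc))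
      rwa [mul_one] at this
    have h5 : Cp KK3 V3 (u * z * u⁻¹) 1 := by
      have e1 : u * z * u⁻¹ = z := by rw [D.c01_23 hu hz]; group
      rw [e1]
      exact Cp.of_K (vZK hz)
    have h6 := P3.mul (P3.mul h4 h5) hs
    have e1 : u * c * u⁻¹ * (u * z * u⁻¹) * (u * b * u⁻¹) = u * (c * z * b) * u⁻¹ := by group
    rw [e1, mul_one] at h6
    exact P3.uniq h6 h2
  have hcomm : ∀ u ∈ GG1, ⁅u, c⁆ = 1 := by
    intro u hu
    obtain ⟨s, hs⟩ := ex1 hu b hb
    have h1 := rel hu hs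
    have h2 : Cp KK3 V3 (u⁻¹ * b * u⁻¹⁻¹) s := by
      have h3 := hs.conj (g := k) (tor_K3 R D hk) (fun x hx => tor R hk D.r13 hx)
      rw [hkV3 s hs.1] at h3
      have e1 : k * (u * b * u⁻¹) * k⁻¹ = u⁻¹ * b⁻¹ * u := by
        calc k * (u * b * u⁻¹) * k⁻¹ = (k * u * k⁻¹) * (k * b * k⁻¹) * (k * u * k⁻¹)⁻¹ := by group
          _ = _ := by rw [hkG u hu, hkV b hb, inv_inv]
      rw [e1] at h3
      have h4 := P3.inv h3
      have e2 : (u⁻¹ * b⁻¹ * u)⁻¹ = u⁻¹ * b * u⁻¹⁻¹ := by group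
      rw [e2, inv_inv s] at h4
      exact h4
    have h3 := rel (inv_mem hu) h2
    have h4 : ⁅u, c⁆ = ⁅u⁻¹, c⁆ := by
      rw [eq_inv_of_mul_eq_one_left h1, eq_inv_of_mul_eq_one_left h3]
    have h5 : ⁅u⁻¹, c⁆ = ⁅u, c⁆⁻¹ := by
      have h6 := D.c01_13 hu (D.k01_12 hu hc)
      calc ⁅u⁻¹, c⁆ = u⁻¹ * ⁅u, c⁆⁻¹ * u := by simp only [commutatorElement_def]; group
        _ = (⁅u, c⁆ * u)⁻¹ * u := by group
        _ = _ := by rw [← h6]; group
    refine eq_one_of_sq (p_odd hp) (R.pgrp' D.r13) (D.k01_12 hu hc) ?_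
    calc ⁅u, c⁆ * ⁅u, c⁆ = ⁅u, c⁆ * ⁅u, c⁆⁻¹ := by rw [← h5, ← h4]
      _ = 1 := mul_inv_cancel _
  -- conjugate by `n i * n j * n i`
  have ri := rp_simple cs R.nsys i
  have rj := rp_simple cs R.nsys j
  set w := n i * (n j * (n i * c * (n i)⁻¹) * (n j)⁻¹) * (n i)⁻¹ with hwdef
  have hw : w ∈ GG1 := i11 R D ri (j12 R D rj (i12 R D ri hc))
  have hw1 : w = 1 := by
    refine eq_one_of_c12 R D hp hw fun x hx => ?_
    have h1 : (n i)⁻¹ * ((n j)⁻¹ * ((n i)⁻¹ * x * (n i)⁻¹⁻¹) * (n j)⁻¹⁻¹) * (n i)⁻¹⁻¹ ∈ GG1 :=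
      i11 R D (minv R ri) (j12 R D (minv R rj) (i12 R D (minv R ri) hx))
    set u := (n i)⁻¹ * ((n j)⁻¹ * ((n i)⁻¹ * x * (n i)⁻¹⁻¹) * (n j)⁻¹⁻¹) * (n i)⁻¹⁻¹ with hu
    have h2 := commutatorElement_eq_one_iff_mul_comm.1 (hcomm u h1)
    have hx' : x = n i * n j * n i * u * (n i * n j * n i)⁻¹ := by rw [hu]; group
    have hw' : w = n i * n j * n i * c * (n i * n j * n i)⁻¹ := by rw [hwdef]; group
    calc w * x = n i * n j * n i * (c * u) * (n i * n j * n i)⁻¹ := by rw [hw', hx']; group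
      _ = n i * n j * n i * (u * c) * (n i * n j * n i)⁻¹ := by rw [h2]
      _ = x * w := by rw [hw', hx']; group
  calc c = (n i)⁻¹ * ((n j)⁻¹ * ((n i)⁻¹ * w * n i) * n j) * n i := by rw [hwdef]; group
    _ = 1 := by rw [hw1]; group

/-- **No ball**, triple bond. -/
theorem ball_false_of_G2 (hp : 5 ≤ p) {e : Y} (he1 : e ≠ 1) (he0 : Ball cs h T X i j e) (hei : ¬ NT cs h X e i) :
    False := by
  obtain ⟨b, hb, c', hc', z, hz, e'⟩ := shape_split R D (shape R D hall he0)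
  have hc1 : c' = 1 := by
    rw [e'] at he0
    exact c_eq_one R D hall hp hb hc' hz he0
  rw [hc1, one_mul] at e'
  have hnj : n j ∈ PJ cs h T X {j} := LJ_le_PJ (n_mem_LJ R rfl)
  have ri := rp_simple cs R.nsys i
  have rj := rp_simple cs R.nsys j
  have he2 := he0.conj hnj
  obtain ⟨b2, hb2, c2, hc2, z2, hz2, e2⟩ := shape_split R D (shape R D hall he2)
  have hc21 : c2 = 1 := by
    rw [e2] at he2
    exact c_eq_one R D hall hp hb2 hc2 hz2 he2
  rw [hc21, one_mul, e'] at e2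
  have hb1 : b = 1 := by
    have h1 : n j * b * (n j)⁻¹ = 1 := by
      refine V_2 R D (j11 R D rj hb) ?_
      have h2 : n j * b * (n j)⁻¹ = (n j * z * (n j)⁻¹)⁻¹ * (z2 * b2) := by rw [← e2]; group
      rw [h2]
      exact mul_mem (inv_mem (Subgroup.mem_sup_right (j23 R D rj hz)))
        (mul_mem (Subgroup.mem_sup_right hz2) (Subgroup.mem_sup_left hb2))
    calc b = (n j)⁻¹ * (n j * b * (n j)⁻¹) * n j := by group
      _ = 1 := by rw [h1]; group
  rw [hb1, mul_one] at e'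
  -- `e = z`
  have h1 : n j * (n i * z * (n i)⁻¹) * (n j)⁻¹ ∈ V0 := j13 R D rj (i23 R D ri hz)
  rw [rt_one_zero] at h1
  have h2 : n j * (n i * z * (n i)⁻¹) * (n j)⁻¹ = (n j * n i) * e * (n j * n i)⁻¹ := by
    rw [← e']; group
  have h3 : (n j * n i) * e * (n j * n i)⁻¹ ∈ VJ cs h X {i} := by
    refine mem_V_of_not_NT hei _ ?_
    rw [← h2]
    exact RGD.le_Sup (S := RGD.Pos cs h) ⟨isRoot_sr cs h i, sr_nonneg i⟩ h1
  rw [← h2] at h3
  have h4 := X_inf_V R h1 h3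
  apply he1
  rw [e']
  calc z = (n j * n i)⁻¹ * (n j * (n i * z * (n i)⁻¹) * (n j)⁻¹) * (n j * n i) := by group
    _ = 1 := by rw [h4]; group

end Main

end Cfsg.Agent.H798.T5GFour
end

-- part: H798/T5NcB
section
/-!
T5, defining characteristic, part 5 (helper798): `nc_of_intComm` : for a double bond with `α_i` long, the Chevalley
commutator formula and `p` odd, no element `≠ 1` of `X (α_i + α_j)` commutes with `X α_j`.
-/

set_option autoImplicit false
set_option linter.unusedSectionVars false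
set_option maxHeartbeats 400000

namespace Cfsg.Agent.H798.T5NcB

open CoxeterSystem Cfsg.Agent.ChevalleyStructure.CoxeterGeom Cfsg.Agent.Tits.Roots Cfsg.Agent.Tits.Core
  Cfsg.Agent.Tits.RootComb Cfsg.Agent.Tits.Exchange Cfsg.Agent.Nodes.Reps Cfsg.Agent.Nodes.BNOf
  Cfsg.Agent.Nodes.StabComb Cfsg.Agent.Nodes.Bruhat Cfsg.Agent.Nodes.OppDec Cfsg.Agent.Nodes.LeviDec
  Cfsg.Agent.Nodes.Coroot Cfsg.Agent.KFacts.RgdSL Cfsg.Agent.KFacts.RgdBorelTits Cfsg.Agent.KFacts.RgdFilt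
  Cfsg.Agent.H533.T5 Cfsg.Agent.H798.T5Geo Cfsg.Agent.H798.T5Root Cfsg.Agent.H798.T5Bond Cfsg.Agent.H798.T5BTwo
open scoped commutatorElement

variable {I W Y : Type*} [Fintype I] [DecidableEq I] [Group W] [Group Y] {M : CoxeterMatrix I}
  {cs : CoxeterSystem M W} {A : I → I → ℤ} {h : IsCartan M A} {p : ℕ} {T : Subgroup Y} {n : I → Y}
  {X : (I → ℤ) → Subgroup Y}

/-- the key case: `w ∈ X α_j` commuting with `X (α_i + α_j)` is trivial. -/
theorem eq_one_of_comm [Finite W] [Fact p.Prime] (hp : p ≠ 2) (R : RGD cs h p T n X) (hI : IntComm cs h X) {i j : I}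
    (hij : i ≠ j) (hA1 : A i j = -1) (hA2 : A j i = -2) {w : Y} (hw : w ∈ X (_root_.Cfsg.Agent.H798.T5Root.rt i j 0 1))
    (hwc : ∀ y ∈ X (_root_.Cfsg.Agent.H798.T5Root.rt i j 1 1), w * y = y * w) : w = 1 := by
  obtain ⟨r10, r01, r11, r12⟩ := rt_B2_root (cs := cs) (h := h) hA1 hA2
  have rm : IsRoot cs h (_root_.Cfsg.Agent.H798.T5Root.rt i j 0 (-1)) := by have := r01.neg; rwa [rt_neg, neg_zero] at this
  have rn : IsRoot cs h (_root_.Cfsg.Agent.H798.T5Root.rt i j (-1) 0) := by have := r10.neg; rwa [rt_neg, neg_zero] at this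
  have lst := fun {a g : ℤ} (hx : IsRoot cs h (_root_.Cfsg.Agent.H798.T5Root.rt i j a g)) => rt_B2 hij hA1 hA2 hx
  -- commuting pairs
  have c10_11 : ∀ {u v : Y}, u ∈ X (_root_.Cfsg.Agent.H798.T5Root.rt i j 1 0) → v ∈ X (_root_.Cfsg.Agent.H798.T5Root.rt i j 1 1) → u * v = v * u := fun hu hv =>
    commute_of hI hij r10 r11 (by norm_num) (by norm_num) (fun m k hm hk hz => by have := lst hz; omega) hu hv
  have c10_12 : ∀ {u v : Y}, u ∈ X (_root_.Cfsg.Agent.H798.T5Root.rt i j 1 0) → v ∈ X (_root_.Cfsg.Agent.H798.T5Root.rt i j 1 2) → u * v = v * u := fun hu hv =>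
    commute_of hI hij r10 r12 (by norm_num) (by norm_num) (fun m k hm hk hz => by have := lst hz; omega) hu hv
  have c11_12 : ∀ {u v : Y}, u ∈ X (_root_.Cfsg.Agent.H798.T5Root.rt i j 1 1) → v ∈ X (_root_.Cfsg.Agent.H798.T5Root.rt i j 1 2) → u * v = v * u := fun hu hv =>
    commute_of hI hij r11 r12 (by norm_num) (by norm_num) (fun m k hm hk hz => by have := lst hz; omega) hu hv
  have c01_12 : ∀ {u v : Y}, u ∈ X (_root_.Cfsg.Agent.H798.T5Root.rt i j 0 1) → v ∈ X (_root_.Cfsg.Agent.H798.T5Root.rt i j 1 2) → u * v = v * u := fun hu hv =>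
    commute_of hI hij r01 r12 (by norm_num) (by norm_num) (fun m k hm hk hz => by have := lst hz; omega) hu hv
  have cm_10 : ∀ {u v : Y}, u ∈ X (_root_.Cfsg.Agent.H798.T5Root.rt i j 0 (-1)) → v ∈ X (_root_.Cfsg.Agent.H798.T5Root.rt i j 1 0) → u * v = v * u := fun hu hv =>
    commute_of hI hij rm r10 (by norm_num) (by norm_num) (fun m k hm hk hz => by have := lst hz; omega) hu hv
  have cn_01 : ∀ {u v : Y}, u ∈ X (_root_.Cfsg.Agent.H798.T5Root.rt i j (-1) 0) → v ∈ X (_root_.Cfsg.Agent.H798.T5Root.rt i j 0 1) → u * v = v * u := fun hu hv =>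
    commute_of hI hij rn r01 (by norm_num) (by norm_num) (fun m k hm hk hz => by have := lst hz; omega) hu hv
  have cn_12 : ∀ {u v : Y}, u ∈ X (_root_.Cfsg.Agent.H798.T5Root.rt i j (-1) 0) → v ∈ X (_root_.Cfsg.Agent.H798.T5Root.rt i j 1 2) → u * v = v * u := fun hu hv =>
    commute_of hI hij rn r12 (by norm_num) (by norm_num) (fun m k hm hk hz => by have := lst hz; omega) hu hv
  -- commutators
  have k01_10 : ∀ {u v : Y}, u ∈ X (_root_.Cfsg.Agent.H798.T5Root.rt i j 0 1) → v ∈ X (_root_.Cfsg.Agent.H798.T5Root.rt i j 1 0) → ∃ r ∈ X (_root_.Cfsg.Agent.H798.T5Root.rt i j 1 1),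
      ∃ l ∈ X (_root_.Cfsg.Agent.H798.T5Root.rt i j 1 2), u * v * u⁻¹ = r * l * v := by
    intro u v hu hv
    have h1 : ⁅u, v⁆ ∈ X (_root_.Cfsg.Agent.H798.T5Root.rt i j 1 1) ⊔ X (_root_.Cfsg.Agent.H798.T5Root.rt i j 1 2) := by
      refine comm_le hI hij r01 r10 (by norm_num) (by norm_num) (fun m k hm hk hz => ?_) hu hv
      have h2 := lst hz
      have h3 : (m * 0 + k * 1 = 1 ∧ m * 1 + k * 0 = 1) ∨ (m * 0 + k * 1 = 1 ∧ m * 1 + k * 0 = 2) := by omega
      rcases h3 with h3 | h3 <;> rw [h3.1, h3.2]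
      · exact le_sup_left
      · exact le_sup_right
    obtain ⟨r, hr, l, hl, e⟩ := split_comm (fun x hx y hy => c11_12 hx hy) h1
    refine ⟨r, hr, l, hl, ?_⟩
    rw [← e, commutatorElement_def]; group
  have km_11 : ∀ {u v : Y}, u ∈ X (_root_.Cfsg.Agent.H798.T5Root.rt i j 0 (-1)) → v ∈ X (_root_.Cfsg.Agent.H798.T5Root.rt i j 1 1) → ⁅u, v⁆ ∈ X (_root_.Cfsg.Agent.H798.T5Root.rt i j 1 0) := fun hu hv => by
    refine comm_le hI hij rm r11 (by norm_num) (by norm_num) (fun m k hm hk hz => ?_) hu hv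
    have h2 := lst hz
    have h3 : m * 0 + k * 1 = 1 ∧ m * (-1) + k * 1 = 0 := by omega
    rw [h3.1, h3.2]
  have km_12 : ∀ {u v : Y}, u ∈ X (_root_.Cfsg.Agent.H798.T5Root.rt i j 0 (-1)) → v ∈ X (_root_.Cfsg.Agent.H798.T5Root.rt i j 1 2) →
      ⁅u, v⁆ ∈ X (_root_.Cfsg.Agent.H798.T5Root.rt i j 1 0) ⊔ X (_root_.Cfsg.Agent.H798.T5Root.rt i j 1 1) := fun hu hv => by
    refine comm_le hI hij rm r12 (by norm_num) (by norm_num) (fun m k hm hk hz => ?_) hu hv
    have h2 := lst hz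
    have h3 : (m * 0 + k * 1 = 1 ∧ m * (-1) + k * 2 = 0) ∨ (m * 0 + k * 1 = 1 ∧ m * (-1) + k * 2 = 1) := by omega
    rcases h3 with h3 | h3 <;> rw [h3.1, h3.2]
    · exact le_sup_left
    · exact le_sup_right
  -- separation
  have U1 : ∀ {u : Y}, u ∈ X (_root_.Cfsg.Agent.H798.T5Root.rt i j 1 0) ⊔ X (_root_.Cfsg.Agent.H798.T5Root.rt i j 1 1) → u ∈ X (_root_.Cfsg.Agent.H798.T5Root.rt i j 1 2) → u = 1 := fun h1 h2 => by
    refine sep R hij 2 (-1) 0 1 (K := X (_root_.Cfsg.Agent.H798.T5Root.rt i j 1 0) ⊔ X (_root_.Cfsg.Agent.H798.T5Root.rt i j 1 1)) (L := X (_root_.Cfsg.Agent.H798.T5Root.rt i j 1 2)) ?_ ?_ h1 h2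
    · refine ⟨{(1, 0), (1, 1)}, ?_, ?_⟩
      · rintro x (rfl | rfl)
        · exact ⟨r10, by norm_num⟩
        · exact ⟨r11, by norm_num⟩
      · exact sup_le (le_iSup (fun x : ({(1, 0), (1, 1)} : Set (ℤ × ℤ)) => X (_root_.Cfsg.Agent.H798.T5Root.rt i j x.1.1 x.1.2)) ⟨(1, 0), by simp⟩)
          (le_iSup (fun x : ({(1, 0), (1, 1)} : Set (ℤ × ℤ)) => X (_root_.Cfsg.Agent.H798.T5Root.rt i j x.1.1 x.1.2)) ⟨(1, 1), by simp⟩)
    · refine ⟨{(1, 2)}, ?_, ?_⟩
      · rintro x rfl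
        exact ⟨r12, by norm_num, by norm_num⟩
      · exact le_iSup (fun x : ({(1, 2)} : Set (ℤ × ℤ)) => X (_root_.Cfsg.Agent.H798.T5Root.rt i j x.1.1 x.1.2)) ⟨(1, 2), by simp⟩
  have U2 : ∀ {u : Y}, u ∈ X (_root_.Cfsg.Agent.H798.T5Root.rt i j 1 1) ⊔ X (_root_.Cfsg.Agent.H798.T5Root.rt i j 1 2) → u ∈ X (_root_.Cfsg.Agent.H798.T5Root.rt i j 0 1) → u = 1 := fun h1 h2 => by
    refine sep R hij 1 0 0 1 (K := X (_root_.Cfsg.Agent.H798.T5Root.rt i j 1 1) ⊔ X (_root_.Cfsg.Agent.H798.T5Root.rt i j 1 2)) (L := X (_root_.Cfsg.Agent.H798.T5Root.rt i j 0 1)) ?_ ?_ h1 h2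
    · refine ⟨{(1, 1), (1, 2)}, ?_, ?_⟩
      · rintro x (rfl | rfl)
        · exact ⟨r11, by norm_num⟩
        · exact ⟨r12, by norm_num⟩
      · exact sup_le (le_iSup (fun x : ({(1, 1), (1, 2)} : Set (ℤ × ℤ)) => X (_root_.Cfsg.Agent.H798.T5Root.rt i j x.1.1 x.1.2)) ⟨(1, 1), by simp⟩)
          (le_iSup (fun x : ({(1, 1), (1, 2)} : Set (ℤ × ℤ)) => X (_root_.Cfsg.Agent.H798.T5Root.rt i j x.1.1 x.1.2)) ⟨(1, 2), by simp⟩)
    · refine ⟨{(0, 1)}, ?_, ?_⟩
      · rintro x rfl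
        exact ⟨r01, by norm_num, by norm_num⟩
      · exact le_iSup (fun x : ({(0, 1)} : Set (ℤ × ℤ)) => X (_root_.Cfsg.Agent.H798.T5Root.rt i j x.1.1 x.1.2)) ⟨(0, 1), by simp⟩
  have U3 : ∀ {u : Y}, u ∈ X (_root_.Cfsg.Agent.H798.T5Root.rt i j 1 1) → u ∈ X (_root_.Cfsg.Agent.H798.T5Root.rt i j 1 2) → u = 1 := fun {u} h1 h2 => by
    have h3 := X_inf_X R r11 r12 (fun h4 => by rw [rt_inj hij] at h4; omega)
    have : u ∈ X (_root_.Cfsg.Agent.H798.T5Root.rt i j 1 1) ⊓ X (_root_.Cfsg.Agent.H798.T5Root.rt i j 1 2) := ⟨h1, h2⟩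
    rwa [h3, Subgroup.mem_bot] at this
  have U4 : ∀ {u : Y}, u ∈ X (_root_.Cfsg.Agent.H798.T5Root.rt i j 1 0) → u ∈ X (_root_.Cfsg.Agent.H798.T5Root.rt i j 1 1) → u = 1 := fun {u} h1 h2 => by
    have h3 := X_inf_X R r10 r11 (fun h4 => by rw [rt_inj hij] at h4; omega)
    have : u ∈ X (_root_.Cfsg.Agent.H798.T5Root.rt i j 1 0) ⊓ X (_root_.Cfsg.Agent.H798.T5Root.rt i j 1 1) := ⟨h1, h2⟩
    rwa [h3, Subgroup.mem_bot] at this
  -- conjugation by elements over `s_j`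
  have m10 : ∀ {m v : Y}, Rp cs R.nsys (cs.simple j) m → v ∈ X (_root_.Cfsg.Agent.H798.T5Root.rt i j 1 0) → m * v * m⁻¹ ∈ X (_root_.Cfsg.Agent.H798.T5Root.rt i j 1 2) :=
    fun hm hv => by
      have := R.conj_mem hm r10 hv
      rw [rep_right, hA2] at this
      simpa only [_root_.neg_zero, _root_.Int.reduceNeg, _root_.mul_one, _root_.sub_neg_eq_add, _root_.zero_add] using this
  have m11 : ∀ {m v : Y}, Rp cs R.nsys (cs.simple j) m → v ∈ X (_root_.Cfsg.Agent.H798.T5Root.rt i j 1 1) → m * v * m⁻¹ ∈ X (_root_.Cfsg.Agent.H798.T5Root.rt i j 1 1) :=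
    fun hm hv => by
      have := R.conj_mem hm r11 hv
      rw [rep_right, hA2] at this
      simpa only [_root_.Int.reduceNeg, _root_.mul_one, _root_.sub_neg_eq_add, _root_.Int.reduceAdd] using this
  have m12 : ∀ {m v : Y}, Rp cs R.nsys (cs.simple j) m → v ∈ X (_root_.Cfsg.Agent.H798.T5Root.rt i j 1 2) → m * v * m⁻¹ ∈ X (_root_.Cfsg.Agent.H798.T5Root.rt i j 1 0) :=
    fun hm hv => by
      have := R.conj_mem hm r12 hv
      rw [rep_right, hA2] at this
      simpa using this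
  by_contra hw1
  have hw' : w ∈ X (sr j) := by rwa [rt_zero_one] at hw
  obtain ⟨a, ha, b, hb, m, hm, hme⟩ := exists_mu_simple R hw' hw1
  have ha' : a ∈ X (_root_.Cfsg.Agent.H798.T5Root.rt i j 0 (-1)) := by
    have : -sr j = _root_.Cfsg.Agent.H798.T5Root.rt i j 0 (-1) := by rw [← rt_zero_one i j, rt_neg, neg_zero]
    rwa [this] at ha
  have hb' : b ∈ X (_root_.Cfsg.Agent.H798.T5Root.rt i j 0 (-1)) := by
    have : -sr j = _root_.Cfsg.Agent.H798.T5Root.rt i j 0 (-1) := by rw [← rt_zero_one i j, rt_neg, neg_zero]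
    rwa [this] at hb
  -- (1)
  have L1 : ∀ {w a b m v r l : Y}, a ∈ X (_root_.Cfsg.Agent.H798.T5Root.rt i j 0 (-1)) → b ∈ X (_root_.Cfsg.Agent.H798.T5Root.rt i j 0 (-1)) → Rp cs R.nsys (cs.simple j) m →
      m = a * w * b → v ∈ X (_root_.Cfsg.Agent.H798.T5Root.rt i j 1 0) → r ∈ X (_root_.Cfsg.Agent.H798.T5Root.rt i j 1 1) → l ∈ X (_root_.Cfsg.Agent.H798.T5Root.rt i j 1 2) → w * v * w⁻¹ = r * l * v →
      m * v * m⁻¹ = l := by
    intro w a b m v r l ha hb hm hme hv hr hl e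
    have e1 : b * v * b⁻¹ = v := by rw [cm_10 hb hv]; group
    have e2 : a * v * a⁻¹ = v := by rw [cm_10 ha hv]; group
    have e3 : m * v * m⁻¹ = a * r * a⁻¹ * (a * l * a⁻¹) * v := by
      calc m * v * m⁻¹ = a * w * (b * v * b⁻¹) * w⁻¹ * a⁻¹ := by rw [hme]; group
        _ = a * (w * v * w⁻¹) * a⁻¹ := by rw [e1]; group
        _ = a * r * a⁻¹ * (a * l * a⁻¹) * (a * v * a⁻¹) := by rw [e]; group
        _ = _ := by rw [e2]
    have e4 : a * r * a⁻¹ = ⁅a, r⁆ * r := by rw [commutatorElement_def]; group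
    have e5 : a * l * a⁻¹ = ⁅a, l⁆ * l := by rw [commutatorElement_def]; group
    have h1 : ⁅a, r⁆ * r ∈ X (_root_.Cfsg.Agent.H798.T5Root.rt i j 1 0) ⊔ X (_root_.Cfsg.Agent.H798.T5Root.rt i j 1 1) :=
      mul_mem (Subgroup.mem_sup_left (km_11 ha hr)) (Subgroup.mem_sup_right hr)
    have h2 := km_12 ha hl
    have e6 : m * v * m⁻¹ * l⁻¹ = ⁅a, r⁆ * r * ⁅a, l⁆ * v := by
      rw [e3, e4, e5]
      have e7 : l * v = v * l := (c10_12 hv hl).symm
      calc ⁅a, r⁆ * r * (⁅a, l⁆ * l) * v * l⁻¹ = ⁅a, r⁆ * r * ⁅a, l⁆ * (l * v) * l⁻¹ := by group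
        _ = _ := by rw [e7]; group
    have h3 : m * v * m⁻¹ * l⁻¹ ∈ X (_root_.Cfsg.Agent.H798.T5Root.rt i j 1 0) ⊔ X (_root_.Cfsg.Agent.H798.T5Root.rt i j 1 1) := by
      rw [e6]
      exact mul_mem (mul_mem h1 h2) (Subgroup.mem_sup_left hv)
    exact mul_inv_eq_one.1 (U1 h3 (mul_mem (m10 hm hv) (inv_mem hl)))
  -- (2)
  have L2 : ∀ {y : Y}, y ∈ X (_root_.Cfsg.Agent.H798.T5Root.rt i j 1 1) → m * y * m⁻¹ = y := by
    intro y hy
    set a1 := ⁅b, y⁆ with ha1
    have h1 : a1 ∈ X (_root_.Cfsg.Agent.H798.T5Root.rt i j 1 0) := km_11 hb' hy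
    obtain ⟨r1, hr1, l1, hl1, e1⟩ := k01_10 hw h1
    have h2 := L1 ha' hb' hm hme h1 hr1 hl1 e1
    have e2 : b * y * b⁻¹ = a1 * y := by rw [ha1, commutatorElement_def]; group
    have e3 : a * y * a⁻¹ = ⁅a, y⁆ * y := by rw [commutatorElement_def]; group
    have e4 : b * a1 * b⁻¹ = a1 := by rw [cm_10 hb' h1]; group
    have e5 : w * y * w⁻¹ = y := by rw [hwc y hy]; group
    have e6 : m * y * m⁻¹ = l1 * (⁅a, y⁆ * y) := by
      calc m * y * m⁻¹ = a * w * (b * y * b⁻¹) * w⁻¹ * a⁻¹ := by rw [hme]; group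
        _ = a * w * (b * a1 * b⁻¹ * y) * w⁻¹ * a⁻¹ := by rw [e2, e4]
        _ = (m * a1 * m⁻¹) * (a * (w * y * w⁻¹) * a⁻¹) := by rw [hme]; group
        _ = _ := by rw [h2, e5, e3]
    have h3 : ⁅a, y⁆ ∈ X (_root_.Cfsg.Agent.H798.T5Root.rt i j 1 0) := km_11 ha' hy
    have h4 : l1 = 1 := by
      refine U1 ?_ hl1
      have : l1 = (m * y * m⁻¹) * (⁅a, y⁆ * y)⁻¹ := by rw [e6]; group
      rw [this]
      exact mul_mem (Subgroup.mem_sup_right (m11 hm hy))
        (inv_mem (mul_mem (Subgroup.mem_sup_left h3) (Subgroup.mem_sup_right hy)))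
    rw [h4, one_mul] at e6
    have h5 : ⁅a, y⁆ = 1 := by
      refine U4 h3 ?_
      have : ⁅a, y⁆ = (m * y * m⁻¹) * y⁻¹ := by rw [e6]; group
      rw [this]
      exact mul_mem (m11 hm hy) (inv_mem hy)
    rw [e6, h5, one_mul]
  have hm' : Rp cs R.nsys (cs.simple j) m⁻¹ := by
    have := hm.inv
    rwa [cs.inv_simple] at this
  -- (3)
  have L3 : ∀ {v : Y}, v ∈ X (_root_.Cfsg.Agent.H798.T5Root.rt i j 1 0) → m * m * v * (m * m)⁻¹ = v⁻¹ := by
    intro v hv
    obtain ⟨r, hr, l, hl, e⟩ := k01_10 hw hv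
    obtain ⟨r', hr', l', hl', e'⟩ := k01_10 (inv_mem hw) hv
    have h1 := L1 ha' hb' hm hme hv hr hl e
    have h2 := L1 (w := w⁻¹) (a := b⁻¹) (b := a⁻¹) (inv_mem hb') (inv_mem ha') hm' (by rw [hme]; group) hv hr' hl' e'
    rw [inv_inv] at e' h2
    have h3 : r' * r * (l' * l) = 1 := by
      have e1 : v = r' * l' * (r * l * v) := by
        calc v = w * (w⁻¹ * v * w) * w⁻¹ := by group
          _ = w * (r' * l' * v) * w⁻¹ := by rw [e']
          _ = (w * r' * w⁻¹) * (w * l' * w⁻¹) * (w * v * w⁻¹) := by group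
          _ = r' * l' * (r * l * v) := by
            rw [hwc r' hr', c01_12 hw hl', e]; group
      have e2 : r' * l' * (r * l) = 1 := by
        have : r' * l' * (r * l) * v = v := by
          calc r' * l' * (r * l) * v = r' * l' * (r * l * v) := by group
            _ = v := e1.symm
        exact mul_eq_right.1 this
      calc r' * r * (l' * l) = r' * (r * l') * l := by group
        _ = r' * (l' * r) * l := by rw [c11_12 hr hl']
        _ = r' * l' * (r * l) := by group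
        _ = 1 := e2
    have h4 : l' * l = 1 := by
      refine U3 ?_ (mul_mem hl' hl)
      have : l' * l = (r' * r)⁻¹ := by rw [eq_inv_iff_mul_eq_one]; rw [← h3]; exact (c11_12 (mul_mem hr' hr) (mul_mem hl' hl)).symm
      rw [this]
      exact inv_mem (mul_mem hr' hr)
    have h5 : m⁻¹ * v * m = (m * v * m⁻¹)⁻¹ := by
      rw [h1, h2]
      exact eq_inv_of_mul_eq_one_left h4
    calc m * m * v * (m * m)⁻¹ = m * (m * v * m⁻¹) * m⁻¹ := by group
      _ = m * (m⁻¹ * v * m)⁻¹ * m⁻¹ := by rw [h5, inv_inv]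
      _ = v⁻¹ := by group
  -- (4)
  have hmm : m * m ∈ T := by
    have := hm.mul hm
    rw [cs.simple_mul_simple_self] at this
    exact this.mem_of_one
  have htor : ∀ {x y : Y} {z : I → ℤ}, x ∈ T → IsRoot cs h z → y ∈ X z → x * y * x⁻¹ ∈ X z := by
    intro x y z hx hz hy
    rw [← R.tor z hz x hx]
    exact conj_mem_cj.2 hy
  set w' := m * m * w * (m * m)⁻¹ with hw'def
  have hw'X : w' ∈ X (_root_.Cfsg.Agent.H798.T5Root.rt i j 0 1) := htor hmm r01 hw
  have hxX : w * w' ∈ X (_root_.Cfsg.Agent.H798.T5Root.rt i j 0 1) := mul_mem hw hw'X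
  have L4 : ∀ {v : Y}, v ∈ X (_root_.Cfsg.Agent.H798.T5Root.rt i j 1 0) → ∃ l ∈ X (_root_.Cfsg.Agent.H798.T5Root.rt i j 1 2), w * w' * v * (w * w')⁻¹ = l * v := by
    intro v hv
    obtain ⟨r, hr, l, hl, e⟩ := k01_10 hw hv
    have hl2 : m * m * l * (m * m)⁻¹ ∈ X (_root_.Cfsg.Agent.H798.T5Root.rt i j 1 2) := htor hmm r12 hl
    set l2 := m * m * l * (m * m)⁻¹ with hl2def
    have e1 : w' * v⁻¹ * w'⁻¹ = r * l2 * v⁻¹ := by
      have h1 : m * m * r * (m * m)⁻¹ = r := by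
        calc m * m * r * (m * m)⁻¹ = m * (m * r * m⁻¹) * m⁻¹ := by group
          _ = r := by rw [L2 hr, L2 hr]
      calc w' * v⁻¹ * w'⁻¹ = w' * (m * m * v * (m * m)⁻¹) * w'⁻¹ := by rw [L3 hv]
        _ = m * m * (w * v * w⁻¹) * (m * m)⁻¹ := by rw [hw'def]; group
        _ = (m * m * r * (m * m)⁻¹) * (m * m * l * (m * m)⁻¹) * (m * m * v * (m * m)⁻¹) := by rw [e]; group
        _ = _ := by rw [h1, L3 hv]
    have e2 : w' * v * w'⁻¹ = v * l2⁻¹ * r⁻¹ := by
      calc w' * v * w'⁻¹ = (w' * v⁻¹ * w'⁻¹)⁻¹ := by group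
        _ = _ := by rw [e1]; group
    refine ⟨l * l2⁻¹, mul_mem hl (inv_mem hl2), ?_⟩
    have e3 : w * l2⁻¹ * w⁻¹ = l2⁻¹ := by rw [c01_12 hw (inv_mem hl2)]; group
    have e4 : w * r⁻¹ * w⁻¹ = r⁻¹ := by rw [hwc _ (inv_mem hr)]; group
    calc w * w' * v * (w * w')⁻¹ = w * (w' * v * w'⁻¹) * w⁻¹ := by group
      _ = (w * v * w⁻¹) * (w * l2⁻¹ * w⁻¹) * (w * r⁻¹ * w⁻¹) := by rw [e2]; group
      _ = r * l * v * l2⁻¹ * r⁻¹ := by rw [e, e3, e4]
      _ = r * l * (v * l2⁻¹) * r⁻¹ := by group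
      _ = r * (l * l2⁻¹ * v) * r⁻¹ := by rw [c10_12 hv (inv_mem hl2)]; group
      _ = (r * (l * l2⁻¹)) * v * r⁻¹ := by group
      _ = (l * l2⁻¹) * r * v * r⁻¹ := by rw [c11_12 hr (mul_mem hl (inv_mem hl2))]
      _ = (l * l2⁻¹) * (r * v) * r⁻¹ := by group
      _ = (l * l2⁻¹) * (v * r) * r⁻¹ := by rw [c10_11 hv hr]
      _ = _ := by group
  have hx1 : w * w' = 1 := by
    obtain ⟨v0, hv0, hv01⟩ := exists_ne_one R i
    have hv0' : v0 ∈ X (_root_.Cfsg.Agent.H798.T5Root.rt i j 1 0) := by rwa [rt_one_zero]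
    obtain ⟨a', ha1, b', hb1, m1, hm1, hme1⟩ := exists_mu_simple R hv0 hv01
    have hni : -sr i = _root_.Cfsg.Agent.H798.T5Root.rt i j (-1) 0 := by rw [← rt_one_zero i j, rt_neg, neg_zero]
    rw [hni] at ha1 hb1
    obtain ⟨l, hl, e⟩ := L4 hv0'
    generalize w * w' = x at hxX e
    have h1 : m1 * x * m1⁻¹ ∈ X (_root_.Cfsg.Agent.H798.T5Root.rt i j 1 1) := by
      have := R.conj_mem hm1 r01 hxX
      rw [rep_left, hA1] at this
      simpa using this
    have e0 : v0 * x * v0⁻¹ = l⁻¹ * x := by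
      have : x * v0 = l * v0 * x := by rw [← e]; group
      calc v0 * x * v0⁻¹ = l⁻¹ * (l * v0 * x) * v0⁻¹ := by group
        _ = _ := by rw [← this]; group
    have e1 : m1 * x * m1⁻¹ = l⁻¹ * x := by
      calc m1 * x * m1⁻¹ = a' * (v0 * (b' * x * b'⁻¹) * v0⁻¹) * a'⁻¹ := by rw [hme1]; group
        _ = a' * (l⁻¹ * x) * a'⁻¹ := by
          have : b' * x * b'⁻¹ = x := by rw [cn_01 hb1 hxX]; group
          rw [this, e0]
        _ = (a' * l⁻¹ * a'⁻¹) * (a' * x * a'⁻¹) := by group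
        _ = _ := by rw [cn_12 ha1 (inv_mem hl), cn_01 ha1 hxX]; group
    refine U2 ?_ hxX
    have : x = l * (m1 * x * m1⁻¹) := by rw [e1]; group
    rw [this]
    exact mul_mem (Subgroup.mem_sup_right hl) (Subgroup.mem_sup_left h1)
  -- (5)
  have h5 : m * m * w * (m * m)⁻¹ = w⁻¹ := (eq_inv_of_mul_eq_one_right hx1)
  have hja : ∀ {x : Y}, x ∈ X (-sr j) → m * m * x * (m * m)⁻¹ ∈ X (-sr j) := fun hx =>
    htor hmm (isRoot_sr cs h j).neg hx
  have e1 : m * m = (m * m * a * (m * m)⁻¹ * b) * (m⁻¹ * (a * (m * m * b * (m * m)⁻¹)) * m) := by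
    have e2 : m = (m * m * a * (m * m)⁻¹) * w⁻¹ * (m * m * b * (m * m)⁻¹) := by
      calc m = m * m * m * (m * m)⁻¹ := by group
        _ = m * m * (a * w * b) * (m * m)⁻¹ := by rw [← hme]
        _ = (m * m * a * (m * m)⁻¹) * (m * m * w * (m * m)⁻¹) * (m * m * b * (m * m)⁻¹) := by group
        _ = _ := by rw [h5]
    have e3 : w⁻¹ = b * m⁻¹ * a := by rw [hme]; group
    have e4 : m = (m * m * a * (m * m)⁻¹ * b) * m⁻¹ * (a * (m * m * b * (m * m)⁻¹)) := by
      calc m = (m * m * a * (m * m)⁻¹) * w⁻¹ * (m * m * b * (m * m)⁻¹) := e2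
        _ = _ := by rw [e3]; group
    calc m * m = m * 1 * m := by group
      _ = ((m * m * a * (m * m)⁻¹ * b) * m⁻¹ * (a * (m * m * b * (m * m)⁻¹))) * m := by rw [mul_one, ← e4]
      _ = _ := by group
  have h6 : m⁻¹ * (a * (m * m * b * (m * m)⁻¹)) * m ∈ X (sr j) := by
    have := R.conj_mem' hm (isRoot_sr cs h j).neg (mul_mem ha (hja hb))
    rwa [cs.inv_simple, map_neg, rep_simple_sr, neg_neg] at this
  have h7 : m * m * a * (m * m)⁻¹ * b = 1 := by
    refine X_inf_opp R (mul_mem (hja ha) hb) ?_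
    have : m * m * a * (m * m)⁻¹ * b = (m * m) * (m⁻¹ * (a * (m * m * b * (m * m)⁻¹)) * m)⁻¹ := by
      rw [eq_mul_inv_iff_mul_eq]; exact e1.symm
    rw [this]
    exact mul_mem (RGD.T_le_B hmm) (inv_mem (RGD.X_le_B (isRoot_sr cs h j) (sr_nonneg j) h6))
  have h8 : m * m = 1 := by
    rw [h7, one_mul] at e1
    have h9 : m * m ∈ X (sr j) ⊓ T := ⟨by rw [e1]; exact h6, hmm⟩
    rwa [X_inf_T R (isRoot_sr cs h j), Subgroup.mem_bot] at h9
  apply hw1
  refine eq_one_of_sq hp (R.pgrp j) hw' ?_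
  rw [h8, inv_one, one_mul, mul_one] at h5
  calc w * w = w * w⁻¹ := by rw [← h5]
    _ = 1 := mul_inv_cancel w

/-- **Double bonds**, `α_i` long. -/
theorem nc_of_intComm [Finite W] [Fact p.Prime] (hp : p ≠ 2) (R : RGD cs h p T n X) (hI : IntComm cs h X) {i j : I}
    (hij : i ≠ j) (hA1 : A i j = -1) (hA2 : A j i = -2) : Nc cs h X i j := by
  intro s hs hc
  obtain ⟨r10, r01, r11, r12⟩ := rt_B2_root (cs := cs) (h := h) hA1 hA2
  have e1 : rep cs h (cs.simple i) (sr j) = _root_.Cfsg.Agent.H798.T5Root.rt i j 1 1 := by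
    rw [← rt_zero_one i j, rep_left, hA1]; norm_num
  have e2 : rep cs h (cs.simple i) (_root_.Cfsg.Agent.H798.T5Root.rt i j 1 1) = sr j := by
    rw [rep_left, hA1, ← rt_zero_one i j]; norm_num
  rw [e1] at hs
  have h1 : n i * s * (n i)⁻¹ ∈ X (_root_.Cfsg.Agent.H798.T5Root.rt i j 0 1) := by
    have := R.conj_mem (rp_simple cs R.nsys i) r11 hs
    rwa [e2, ← rt_zero_one i j] at this
  have h2 : n i * s * (n i)⁻¹ = 1 := by
    refine eq_one_of_comm hp R hI hij hA1 hA2 h1 fun y hy => ?_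
    have h3 : (n i)⁻¹ * y * n i ∈ X (sr j) := by
      have := R.conj_mem' (rp_simple cs R.nsys i) r11 hy
      rwa [cs.inv_simple, e2] at this
    have h4 := hc _ h3
    calc n i * s * (n i)⁻¹ * y = n i * (s * ((n i)⁻¹ * y * n i)) * (n i)⁻¹ := by group
      _ = n i * ((n i)⁻¹ * y * n i * s) * (n i)⁻¹ := by rw [h4]
      _ = _ := by group
  have : s = (n i)⁻¹ * (n i * s * (n i)⁻¹) * n i := by group
  rw [this, h2]; group

end Cfsg.Agent.H798.T5NcB
end

-- part: H798/T5Long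
section
/-!
T5, defining characteristic (helper798): `exists_to_V` : a bond with `α_i` long, the Chevalley commutator formula and
`|X α_i| = |X α_j|` : every element of `V_i` has a `P_i`-conjugate in `V_j`.
-/

set_option autoImplicit false
set_option linter.unusedSectionVars false
set_option maxHeartbeats 400000

namespace Cfsg.Agent.H798.T5Long

open CoxeterSystem Cfsg.Agent.ChevalleyStructure.CoxeterGeom Cfsg.Agent.Tits.Roots Cfsg.Agent.Tits.Core
  Cfsg.Agent.Tits.RootComb Cfsg.Agent.Tits.Exchange Cfsg.Agent.Nodes.Reps Cfsg.Agent.Nodes.BNOf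
  Cfsg.Agent.Nodes.StabComb Cfsg.Agent.Nodes.Bruhat Cfsg.Agent.Nodes.OppDec Cfsg.Agent.Nodes.LeviDec
  Cfsg.Agent.Nodes.Coroot Cfsg.Agent.KFacts.RgdSL Cfsg.Agent.KFacts.RgdBorelTits Cfsg.Agent.KFacts.RgdFilt
  Cfsg.Agent.H533.T5 Cfsg.Agent.H798.T5Geo Cfsg.Agent.H798.T5Root Cfsg.Agent.H798.T5Bond Cfsg.Agent.H798.T5BTwo
  Cfsg.Agent.H798.T5GTwo Cfsg.Agent.H798.T5GThree Cfsg.Agent.H798.T5NcB
open scoped commutatorElement

variable {I W Y : Type*} [Fintype I] [DecidableEq I] [Group W] [Group Y] {M : CoxeterMatrix I}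
  {cs : CoxeterSystem M W} {A : I → I → ℤ} {h : IsCartan M A} {p : ℕ} {T : Subgroup Y} {n : I → Y}
  {X : (I → ℤ) → Subgroup Y} {i j : I}

/-- positive roots different from `α_i`, `α_j`, `α_i + α_j` -/
def SS (cs : CoxeterSystem M W) (h : IsCartan M A) (i j : I) : Set (I → ℤ) :=
  {z | IsRoot cs h z ∧ 0 ≤ z ∧ z ≠ T5Root.rt i j 1 0 ∧ z ≠ T5Root.rt i j 0 1 ∧ z ≠ T5Root.rt i j 1 1}

/-! ### combinatorics -/

theorem IB_cases (hij : i ≠ j) (hA : A i j = -1) {x1 x2 c1 c2 : ℤ} {z : I → ℤ} (hz : z ∈ SS cs h i j)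
    (hI : IB cs h (T5Root.rt i j x1 x2) z (T5Root.rt i j c1 c2)) : ∃ a g m k : ℤ, 1 ≤ a ∧ 1 ≤ g ∧ a ≤ g ∧
      ¬ (a = 1 ∧ g = 1) ∧ 0 < m ∧ 0 < k ∧ c1 = m * x1 + k * a ∧ c2 = m * x2 + k * g := by
  obtain ⟨hr, m, k, hm, hk, e⟩ := hI
  have e0 : ∀ t, T5Root.rt i j c1 c2 t = m * T5Root.rt i j x1 x2 t + k * z t := fun t => by
    have := congrFun e t
    simpa only [_root_.zsmul_eq_mul, _root_.Pi.add_apply, _root_.Pi.mul_apply, _root_.Pi.intCast_apply, _root_.Int.cast_eq] using this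
  have hz1 : z = T5Root.rt i j (z i) (z j) := eq_rt hij fun t hi hj => by
    have h1 := e0 t
    rw [rt_other hi hj, rt_other hi hj, mul_zero, zero_add] at h1
    rcases mul_eq_zero.1 h1.symm with h2 | h2
    · omega
    · exact h2
  have ei := e0 i
  have ej := e0 j
  rw [rt_left hij, rt_left hij] at ei
  rw [rt_right hij, rt_right hij] at ej
  obtain ⟨hzr, hz0, hz2, hz3, hz4⟩ := hz
  rw [hz1] at hzr hz0 hz2 hz3 hz4
  generalize z i = a at *
  generalize z j = g at *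
  rw [rt_nonneg hij] at hz0
  rw [Ne, rt_inj hij] at hz2 hz3 hz4
  have h1 := rt_sign hij hzr
  have h2 := hzr.act (cs.simple i)
  rw [rep_left, hA] at h2
  have h3 := (rt_sign hij h2).1
  have h4 : g ≠ 0 := by
    rintro rfl
    rcases h1.2.1 rfl with h5 | h5 <;> omega
  have h5 : a ≠ 0 := by
    rintro rfl
    rcases h1.2.2 rfl with h5 | h5 <;> omega
  refine ⟨a, g, m, k, by omega, by omega, by omega, hz4, hm, hk, ei, ej⟩

theorem mem_SS_of_IB (hij : i ≠ j) (hA : A i j = -1) {x1 x2 : ℤ} (hx : (x1 = 1 ∧ x2 = 0) ∨ (x1 = 0 ∧ x2 = 1) ∨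
    (x1 = 1 ∧ x2 = 1) ∨ (x1 = -1 ∧ x2 = 0)) {z z' : I → ℤ} (hz : z ∈ SS cs h i j)
    (hI : IB cs h (T5Root.rt i j x1 x2) z z') : z' ∈ SS cs h i j := by
  have hpos : 0 ≤ z' := by
    obtain ⟨hr, m, k, hm, hk, e⟩ := hI
    rcases hr.pos_or_neg with h1 | h1
    · exact h1
    · exfalso
      have hzz : ∀ t, t ≠ i → z t = 0 := by
        intro t ht
        have h2 : z' t ≤ 0 := h1 t
        have h3 : z' t = m * T5Root.rt i j x1 x2 t + k * z t := by
          have := congrFun e t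
          simpa only [_root_.zsmul_eq_mul, _root_.Pi.add_apply, _root_.Pi.mul_apply, _root_.Pi.intCast_apply, _root_.Int.cast_eq] using this
        have h4 : (0 : ℤ) ≤ z t := hz.2.1 t
        have h5 : (0 : ℤ) ≤ T5Root.rt i j x1 x2 t := by
          by_cases htj : t = j
          · rw [htj, rt_right hij]; omega
          · rw [rt_other ht htj]
        have h6 : 0 ≤ m * T5Root.rt i j x1 x2 t := mul_nonneg hm.le h5
        have h7 : k * z t ≤ 0 := by linarith
        nlinarith only [hk, h2, h3, h4, h6]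
      apply hz.2.2.1
      rw [rt_one_zero]
      exact hz.1.eq_sr hz.2.1 i hzz
  refine ⟨hI.1, hpos, ?_, ?_, ?_⟩
  · rintro rfl
    obtain ⟨a, g, m, k, h1, h2, h3, h4, h5, h6, e1, e2⟩ := IB_cases hij hA hz hI
    rcases hx with ⟨rfl, rfl⟩ | ⟨rfl, rfl⟩ | ⟨rfl, rfl⟩ | ⟨rfl, rfl⟩ <;> nlinarith only [h1, h5, h6, e1, h2, e2]
  · rintro rfl
    obtain ⟨a, g, m, k, h1, h2, h3, h4, h5, h6, e1, e2⟩ := IB_cases hij hA hz hI
    have h7 : g ≤ k * g := by nlinarith only [h2, h6]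
    rcases hx with ⟨rfl, rfl⟩ | ⟨rfl, rfl⟩ | ⟨rfl, rfl⟩ | ⟨rfl, rfl⟩
    · nlinarith only [h1, h5, h6, e1]
    · linarith only [h2, h5, h7, e2]
    · linarith only [h2, h5, h7, e2]
    · omega
  · rintro rfl
    obtain ⟨a, g, m, k, h1, h2, h3, h4, h5, h6, e1, e2⟩ := IB_cases hij hA hz hI
    have h7 : g ≤ k * g := by nlinarith only [h2, h6]
    have h8 : a ≤ k * a := by nlinarith only [h1, h6]
    rcases hx with ⟨rfl, rfl⟩ | ⟨rfl, rfl⟩ | ⟨rfl, rfl⟩ | ⟨rfl, rfl⟩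
    · linarith only [h1, h5, h8, e1]
    · linarith only [h2, h5, h7, e2]
    · linarith only [h1, h5, h8, e1]
    · omega

/-- a positive root of the plane outside the list -/
theorem mem_SS_rt (hij : i ≠ j) {a g : ℤ} (hr : IsRoot cs h (T5Root.rt i j a g)) (h0 : 0 ≤ a ∧ 0 ≤ g)
    (h1 : ¬ (a = 1 ∧ g = 0)) (h2 : ¬ (a = 0 ∧ g = 1)) (h3 : ¬ (a = 1 ∧ g = 1)) : T5Root.rt i j a g ∈ SS cs h i j :=
  ⟨hr, (rt_nonneg hij).2 h0, fun h4 => h1 ((rt_inj hij).1 h4), fun h4 => h2 ((rt_inj hij).1 h4),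
    fun h4 => h3 ((rt_inj hij).1 h4)⟩

/-! ### commutators -/

attribute [local irreducible] T5Root.rt

local notation "XA" => X (T5Root.rt i j 1 0)
local notation "XG" => X (T5Root.rt i j 0 1)
local notation "XB" => X (T5Root.rt i j 1 1)
local notation "XN" => X (T5Root.rt i j (-1) 0)
local notation "NS" => RGD.Sup X (SS cs h i j)

section Comm

variable (hI : IntComm cs h X) (hij : i ≠ j) (hA : A i j = -1)

theorem ra : IsRoot cs h (T5Root.rt i j 1 0) := by rw [rt_one_zero]; exact isRoot_sr cs h i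
theorem rg : IsRoot cs h (T5Root.rt i j 0 1) := by rw [rt_zero_one]; exact isRoot_sr cs h j
include hA in
theorem rb : IsRoot cs h (T5Root.rt i j 1 1) := by
  have := (rg (cs := cs) (h := h) (i := i) (j := j)).act (cs.simple i)
  rw [rep_left, hA] at this
  simpa using this
theorem rn : IsRoot cs h (T5Root.rt i j (-1) 0) := by
  have := (ra (cs := cs) (h := h) (i := i) (j := j)).neg
  rwa [rt_neg, neg_zero] at this

include hI hij hA

theorem comm_SS {x1 x2 : ℤ} (hr : IsRoot cs h (T5Root.rt i j x1 x2)) (hx : (x1 = 1 ∧ x2 = 0) ∨ (x1 = 0 ∧ x2 = 1) ∨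
    (x1 = 1 ∧ x2 = 1) ∨ (x1 = -1 ∧ x2 = 0)) {u : Y} (hu : u ∈ X (T5Root.rt i j x1 x2)) {z : I → ℤ}
    (hz : z ∈ SS cs h i j) {v : Y} (hv : v ∈ X z) : ⁅u, v⁆ ∈ NS := by
  have hne : T5Root.rt i j x1 x2 ≠ z := by
    rintro rfl
    rcases hx with ⟨rfl, rfl⟩ | ⟨rfl, rfl⟩ | ⟨rfl, rfl⟩ | ⟨rfl, rfl⟩
    · exact hz.2.2.1 rfl
    · exact hz.2.2.2.1 rfl
    · exact hz.2.2.2.2 rfl
    · have := (rt_nonneg hij).1 hz.2.1
      omega
  have hne' : T5Root.rt i j x1 x2 ≠ -z := by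
    intro h1
    have h2 : z = T5Root.rt i j (-x1) (-x2) := by rw [← rt_neg, h1, neg_neg]
    rw [h2] at hz
    have h3 := (rt_nonneg hij).1 hz.2.1
    rcases hx with ⟨rfl, rfl⟩ | ⟨rfl, rfl⟩ | ⟨rfl, rfl⟩ | ⟨rfl, rfl⟩
    · omega
    · omega
    · omega
    · exact hz.2.2.1 (by norm_num)
  refine FS_le (G := X) (S := {t | IB cs h (T5Root.rt i j x1 x2) z t}) ?_ (hI _ _ hr hz.1 hne hne' u hu v hv)
  intro t ht
  exact RGD.le_Sup (mem_SS_of_IB hij hA hx hz ht)

theorem nrm_SS {x1 x2 : ℤ} (hr : IsRoot cs h (T5Root.rt i j x1 x2)) (hx : (x1 = 1 ∧ x2 = 0) ∨ (x1 = 0 ∧ x2 = 1) ∨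
    (x1 = 1 ∧ x2 = 1) ∨ (x1 = -1 ∧ x2 = 0)) {u : Y} (hu : u ∈ X (T5Root.rt i j x1 x2)) :
    ∀ k ∈ NS, u * k * u⁻¹ ∈ NS := by
  intro k hk
  have h1 : NS ≤ (NS).comap (MulAut.conj u).toMonoidHom := by
    refine RGD.Sup_le fun z hz v hv => ?_
    show u * v * u⁻¹ ∈ NS
    exact conj_of_comm (comm_SS hI hij hA hr hx hu hz hv) (RGD.le_Sup hz hv)
  exact h1 hk

theorem nrmA {u : Y} (hu : u ∈ XA) : ∀ k ∈ NS, u * k * u⁻¹ ∈ NS := nrm_SS hI hij hA ra (Or.inl ⟨rfl, rfl⟩) hu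
theorem nrmG {u : Y} (hu : u ∈ XG) : ∀ k ∈ NS, u * k * u⁻¹ ∈ NS :=
  nrm_SS hI hij hA rg (Or.inr (Or.inl ⟨rfl, rfl⟩)) hu
theorem nrmB {u : Y} (hu : u ∈ XB) : ∀ k ∈ NS, u * k * u⁻¹ ∈ NS :=
  nrm_SS hI hij hA (rb hA) (Or.inr (Or.inr (Or.inl ⟨rfl, rfl⟩))) hu
theorem nrmN {u : Y} (hu : u ∈ XN) : ∀ k ∈ NS, u * k * u⁻¹ ∈ NS :=
  nrm_SS hI hij hA rn (Or.inr (Or.inr (Or.inr ⟨rfl, rfl⟩))) hu

theorem cAG {u v : Y} (hu : u ∈ XA) (hv : v ∈ XG) : ⁅u, v⁆ ∈ XB ⊔ NS := by
  refine comm_le hI hij ra rg (by norm_num) (by norm_num) (fun m k hm hk hz => ?_) hu hv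
  by_cases h1 : m = 1 ∧ k = 1
  · have e : T5Root.rt i j (m * 1 + k * 0) (m * 0 + k * 1) = T5Root.rt i j 1 1 := by rw [h1.1, h1.2]; norm_num
    rw [e]; exact le_sup_left
  · exact le_trans (RGD.le_Sup (mem_SS_rt hij hz ⟨by omega, by omega⟩ (by omega) (by omega) (by omega))) le_sup_right

theorem cAB {u v : Y} (hu : u ∈ XA) (hv : v ∈ XB) : ⁅u, v⁆ ∈ NS := by
  refine comm_le hI hij ra (rb hA) (by norm_num) (by norm_num) (fun m k hm hk hz => ?_) hu hv
  exact RGD.le_Sup (mem_SS_rt hij hz ⟨by omega, by omega⟩ (by omega) (by omega) (by omega))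

theorem cGB {u v : Y} (hu : u ∈ XG) (hv : v ∈ XB) : ⁅u, v⁆ ∈ NS := by
  refine comm_le hI hij rg (rb hA) (by norm_num) (by norm_num) (fun m k hm hk hz => ?_) hu hv
  exact RGD.le_Sup (mem_SS_rt hij hz ⟨by omega, by omega⟩ (by omega) (by omega) (by omega))

theorem cNG {u v : Y} (hu : u ∈ XN) (hv : v ∈ XG) : u * v = v * u := by
  refine commute_of hI hij rn rg (by norm_num) (by norm_num) (fun m k hm hk hz => ?_) hu hv
  have := (rt_sign hij hz).1
  omega

theorem cNB {u v : Y} (hu : u ∈ XN) (hv : v ∈ XB) : ⁅u, v⁆ ∈ XG ⊔ NS := by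
  refine comm_le hI hij rn (rb hA) (by norm_num) (by norm_num) (fun m k hm hk hz => ?_) hu hv
  have h1 := (rt_sign hij hz).1
  by_cases h2 : m = 1 ∧ k = 1
  · have e : T5Root.rt i j (m * (-1) + k * 1) (m * 0 + k * 1) = T5Root.rt i j 0 1 := by rw [h2.1, h2.2]; norm_num
    rw [e]; exact le_sup_left
  · exact le_trans (RGD.le_Sup (mem_SS_rt hij hz ⟨by omega, by omega⟩ (by omega) (by omega) (by omega))) le_sup_right

end Comm

section Main

variable [Finite W] (R : RGD cs h p T n X) (hI : IntComm cs h X) (hij : i ≠ j) (hA : A i j = -1)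

include R

omit [Finite W] in
include hA in
theorem mG {m v : Y} (hm : Rp cs R.nsys (cs.simple i) m) (hv : v ∈ XG) : m * v * m⁻¹ ∈ XB := by
  have := R.conj_mem hm rg hv
  rw [rep_left, hA] at this
  simpa only [_root_.neg_zero, _root_.Int.reduceNeg, _root_.mul_one, _root_.sub_neg_eq_add, _root_.zero_add] using this

omit [Finite W] in
include hA in
theorem mB {m v : Y} (hm : Rp cs R.nsys (cs.simple i) m) (hv : v ∈ XB) : m * v * m⁻¹ ∈ XG := by
  have := R.conj_mem hm (rb hA) hv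
  rw [rep_left, hA] at this
  simpa using this

omit [Finite W] in
include hij hA in
theorem mS {m v : Y} (hm : Rp cs R.nsys (cs.simple i) m) (hv : v ∈ NS) : m * v * m⁻¹ ∈ VJ cs h X {j} := by
  rw [V_eq]
  refine conj_mem_Sup R hm (fun x hx => hx.1) (fun x hx => ?_) hv
  refine ⟨hx.1.act _, ?_, ?_⟩
  · exact hx.1.simple_nonneg hx.2.1 i (by rw [← rt_one_zero i j]; exact hx.2.2.1)
  · intro h1
    apply hx.2.2.2.2
    have h2 := congrArg (rep cs h (cs.simple i)) h1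
    rw [← rep_mul_apply, cs.simple_mul_simple_self, map_one, Module.End.one_apply, ← rt_zero_one i j, rep_left,
      hA] at h2
    rw [h2]; norm_num

omit [Finite W] in
omit R in
include hij hA in
theorem XB_le : XB ≤ VJ cs h X {j} :=
  RGD.le_Sup (S := NotJ cs h {j}) (z := T5Root.rt i j 1 1)
    ⟨rb hA, (rt_nonneg hij).2 ⟨by norm_num, by norm_num⟩, i, fun h1 => hij h1, by rw [rt_left hij]; norm_num⟩

omit [Finite W] in
omit R in
include hij hA in
theorem NS_le : NS ≤ VJ cs h X {j} := by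
  rw [V_eq]
  refine RGD.Sup_mono fun x hx => ⟨hx.1, hx.2.1, ?_⟩
  rw [← rt_zero_one i j]
  exact hx.2.2.2.1

include hI hij hA

theorem inf_NB {r : Y} (h1 : r ∈ XB) (h2 : r ∈ NS) : r = 1 := by
  have hm := rp_simple cs R.nsys i
  have h3 := mB R hA hm h1
  rw [rt_zero_one] at h3
  have h4 := X_inf_V R h3 (mS R hij hA hm h2)
  calc r = (n i)⁻¹ * (n i * r * (n i)⁻¹) * n i := by group
    _ = 1 := by rw [h4]; group

theorem pNB : CPair NS XB := ⟨fun _ hr k hk => nrmB hI hij hA hr k hk, fun _ h1 h2 => inf_NB R hI hij hA h1 h2⟩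

theorem pG : CPair (NS ⊔ XB) XG := by
  refine ⟨fun g hg k hk => ?_, fun r h1 h2 => ?_⟩
  · refine conj_sup (K := NS ⊔ XB) (fun x hx => Subgroup.mem_sup_left (nrmG hI hij hA hg x hx)) (fun x hx => ?_) k hk
    exact conj_of_comm (Subgroup.mem_sup_left (cGB hI hij hA hg hx)) (Subgroup.mem_sup_right hx)
  · rw [rt_zero_one] at h1
    exact X_inf_V R h1 ((sup_le (NS_le hij hA) (XB_le hij hA) : NS ⊔ XB ≤ VJ cs h X {j}) h2)

theorem pGN : CPair (XG ⊔ NS) XB := by
  refine ⟨fun g hg k hk => ?_, fun r h1 h2 => ?_⟩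
  · refine conj_sup (K := XG ⊔ NS) (fun x hx => ?_) (fun x hx => Subgroup.mem_sup_right (nrmB hI hij hA hg x hx)) k hk
    exact conj_of_comm (Subgroup.mem_sup_right (comm_swap (cGB hI hij hA hx hg))) (Subgroup.mem_sup_left hx)
  · have hm := rp_simple cs R.nsys i
    have h3 := mB R hA hm h1
    rw [rt_zero_one] at h3
    have h4 : n i * r * (n i)⁻¹ ∈ VJ cs h X {j} :=
      conj_sup (K := VJ cs h X {j}) (fun x hx => XB_le hij hA (mG R hA hm hx)) (fun x hx => mS R hij hA hm hx) r h2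
    have h5 := X_inf_V R h3 h4
    calc r = (n i)⁻¹ * (n i * r * (n i)⁻¹) * n i := by group
      _ = 1 := by rw [h5]; group

theorem E_ex {u x : Y} (hu : u ∈ XA) (hx : x ∈ XG) : ∃ b, Cp NS XB ⁅u, x⁆ b := by
  refine (pNB R hI hij hA).ex ?_
  rw [sup_comm]
  exact cAG hI hij hA hu hx

theorem E_mul_left {u u' x b b' : Y} (hu : u ∈ XA) (h1 : Cp NS XB ⁅u, x⁆ b) (h2 : Cp NS XB ⁅u', x⁆ b') :
    Cp NS XB ⁅u * u', x⁆ (b' * b) := by
  have e : ⁅u * u', x⁆ = u * ⁅u', x⁆ * u⁻¹ * ⁅u, x⁆ := by simp only [commutatorElement_def]; group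
  rw [e]
  exact (pNB R hI hij hA).mul (h2.conj' (nrmA hI hij hA hu) fun k hk => cAB hI hij hA hu hk) h1

/-- `⁅u, x⁆ ≡ m x m⁻¹` for `m = y u y'` -/
theorem E_mu {u x y y' m : Y} (hu : u ∈ XA) (hx : x ∈ XG) (hy : y ∈ XN) (hy' : y' ∈ XN)
    (hm : Rp cs R.nsys (cs.simple i) m) (hme : m = y * u * y') : Cp NS XB ⁅u, x⁆ (m * x * m⁻¹) := by
  obtain ⟨b, hb, ht⟩ := E_ex R hI hij hA hu hx
  have e1 : y' * x * y'⁻¹ = x := by rw [cNG hI hij hA hy' hx]; group
  have e3 : m * x * m⁻¹ = y * (⁅u, x⁆ * x) * y⁻¹ := by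
    calc m * x * m⁻¹ = y * (u * (y' * x * y'⁻¹) * u⁻¹) * y⁻¹ := by rw [hme]; group
      _ = _ := by rw [e1, commutatorElement_def]; group
  have P := pGN R hI hij hA
  have h1 : Cp (XG ⊔ NS) XB (⁅u, x⁆ * x) (b * 1) :=
    P.mul ⟨hb, Subgroup.mem_sup_right ht⟩ (Cp.of_K (Subgroup.mem_sup_left hx))
  have h2 : Cp (XG ⊔ NS) XB (m * x * m⁻¹) b := by
    rw [e3]
    rw [mul_one] at h1
    refine h1.conj' (fun k hk => ?_) fun k hk => cNB hI hij hA hy hk
    exact conj_sup (K := XG ⊔ NS) (fun z hz => conj_of_commute (cNG hI hij hA hy hz) (Subgroup.mem_sup_left hz))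
      (fun z hz => Subgroup.mem_sup_right (nrmN hI hij hA hy z hz)) k hk
  have h3 := P.uniq h2 (Cp.of_L (mG R hA hm hx))
  rw [← h3]
  exact ⟨hb, ht⟩

omit hI hij hA in
theorem mu_i' {u : Y} (hu : u ∈ XA) (hu1 : u ≠ 1) : ∃ y ∈ XN, ∃ y' ∈ XN, ∃ m, Rp cs R.nsys (cs.simple i) m ∧
    m = y * u * y' := by
  rw [rt_one_zero] at hu
  obtain ⟨a, ha, b, hb, m, hm, e⟩ := exists_mu_simple R hu hu1
  rw [neg_i (j := j)] at ha hb
  exact ⟨a, ha, b, hb, m, hm, e⟩

theorem E_surj [Finite Y] (hc : Nat.card (X (sr i)) = Nat.card (X (sr j))) {x : Y} (hx : x ∈ XG) (hx1 : x ≠ 1)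
    {b : Y} (hb : b ∈ XB) : ∃ u ∈ XA, Cp NS XB ⁅u, x⁆ b := by
  have P := pNB R hI hij hA
  choose f hf using fun u : ↥(XA) => E_ex R hI hij hA u.2 hx
  let F : ↥(XA) → ↥(XB) := fun u => ⟨f u, (hf u).1⟩
  have hF : Function.Injective F := by
    intro u u' e
    have e1 : f u = f u' := congrArg Subtype.val e
    by_contra hne
    have hne' : ((u'⁻¹ * u : ↥(XA)) : Y) ≠ 1 := fun h1 => hne (by
      have h2 : u'⁻¹ * u = 1 := Subtype.ext h1
      exact (inv_mul_eq_one.1 h2).symm)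
    have h1 : Cp NS XB ⁅(u'⁻¹ : Y) * u, x⁆ (f u * (f u')⁻¹) := by
      refine E_mul_left R hI hij hA (inv_mem u'.2) ?_ (hf u)
      obtain ⟨b2, hb2⟩ := E_ex R hI hij hA (inv_mem u'.2) hx
      have h3 := E_mul_left R hI hij hA (inv_mem u'.2) hb2 (hf u')
      rw [inv_mul_cancel, commutatorElement_one_left] at h3
      have h4 : f u' * b2 = 1 := P.uniq h3 (Cp.of_K (one_mem _))
      rwa [eq_inv_of_mul_eq_one_right h4] at hb2
    rw [e1, mul_inv_cancel] at h1
    have hw : (u' : Y)⁻¹ * u ∈ XA := mul_mem (inv_mem u'.2) u.2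
    obtain ⟨y, hy, y', hy', m, hm, hme⟩ := mu_i' (j := j) R hw hne'
    have h2 := P.uniq h1 (E_mu R hI hij hA hw hx hy hy' hm hme)
    apply hx1
    calc x = m⁻¹ * (m * x * m⁻¹) * m := by group
      _ = 1 := by rw [← h2]; group
  have hcard : Nat.card ↥(XB) ≤ Nat.card ↥(XA) := by
    have h1 : Nat.card ↥(XB) ≤ Nat.card ↥(XG) := by
      refine Nat.card_le_card_of_injective (fun v : ↥(XB) => (⟨n i * v * (n i)⁻¹, mB R hA (rp_simple cs R.nsys i) v.2⟩ :
        ↥(XG))) ?_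
      intro v v' e
      have e1 : n i * (v : Y) * (n i)⁻¹ = n i * v' * (n i)⁻¹ := congrArg Subtype.val e
      exact Subtype.ext (mul_left_cancel (mul_right_cancel e1))
    rw [rt_zero_one, ← hc] at h1
    rwa [rt_one_zero]
  have hS : Function.Surjective F := by
    have h1 : Nat.card ↥(XA) = Nat.card ↥(XB) := le_antisymm (Nat.card_le_card_of_injective F hF) hcard
    exact ((Nat.bijective_iff_injective_and_card F).2 ⟨hF, h1⟩).2
  obtain ⟨u, hu⟩ := hS ⟨b, hb⟩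
  refine ⟨u, u.2, ?_⟩
  have := hf u
  rwa [show f u = b from congrArg Subtype.val hu] at this

/-- **Every element of `V_i` has a `P_i`-conjugate in `V_j`.** -/
theorem exists_to_V [Finite Y] (hc : Nat.card (X (sr i)) = Nat.card (X (sr j))) {e : Y} (he : e ∈ VJ cs h X {i}) :
    ∃ g ∈ PJ cs h T X {i}, g * e * g⁻¹ ∈ VJ cs h X {j} := by
  have hle : VJ cs h X {i} ≤ NS ⊔ XB ⊔ XG := by
    rw [V_eq]
    refine RGD.Sup_le fun x hx => ?_
    obtain ⟨hx1, hx0, hx2⟩ := hx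
    by_cases h1 : x = T5Root.rt i j 0 1
    · rw [h1]; exact le_sup_right
    by_cases h2 : x = T5Root.rt i j 1 1
    · rw [h2]; exact le_trans le_sup_right le_sup_left
    refine le_trans (RGD.le_Sup (S := SS cs h i j) ⟨hx1, hx0, ?_, h1, h2⟩) (le_trans le_sup_left le_sup_left)
    rw [rt_one_zero]
    exact hx2
  have hleV : NS ⊔ XB ≤ VJ cs h X {j} := sup_le (NS_le hij hA) (XB_le hij hA)
  obtain ⟨a, ha, ht⟩ := (pG R hI hij hA).ex (hle he)
  by_cases ha1 : a = 1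
  · subst ha1
    rw [inv_one, mul_one] at ht
    exact ⟨1, one_mem _, by rw [one_mul, inv_one, mul_one]; exact hleV ht⟩
  have P := pNB R hI hij hA
  obtain ⟨b, hb, hk⟩ := P.ex ht
  obtain ⟨u, hu, hub⟩ := E_surj R hI hij hA hc ha ha1 (inv_mem hb)
  have hni : n i ∈ PJ cs h T X {i} := LJ_le_PJ (n_mem_LJ R rfl)
  have huP : u ∈ PJ cs h T X {i} := by
    rw [rt_one_zero] at hu
    exact LJ_le_PJ (X_le_LJ (PosJ_subset {i} (sr_mem_PosJ rfl)) hu)
  refine ⟨n i * u, mul_mem hni huP, ?_⟩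
  -- `u e u⁻¹ = k a`
  have h1 : Cp NS XB (u * (e * a⁻¹) * u⁻¹) b := Cp.conj' (nrmA hI hij hA hu) (fun k hk => cAB hI hij hA hu hk) ⟨hb, hk⟩
  have h2 := P.mul h1 hub
  rw [mul_inv_cancel] at h2
  have h3 : u * e * u⁻¹ * a⁻¹ ∈ NS := by
    have e1 : u * (e * a⁻¹) * u⁻¹ * ⁅u, a⁆ = u * e * u⁻¹ * a⁻¹ := by rw [commutatorElement_def]; group
    rw [e1] at h2
    exact h2.mem
  have e2 : n i * u * e * (n i * u)⁻¹ = (n i * (u * e * u⁻¹ * a⁻¹) * (n i)⁻¹) * (n i * a * (n i)⁻¹) := by group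
  rw [e2]
  exact mul_mem (mS R hij hA (rp_simple cs R.nsys i) h3) (XB_le hij hA (mG R hA (rp_simple cs R.nsys i) ha))

end Main

/-- **Double bonds**: the long end of a double bond belongs to `T(d)`. -/
theorem nt_long_four [Finite W] [Finite Y] [Fact p.Prime] (hp : p ≠ 2) (R : RGD cs h p T n X) (hI : IntComm cs h X)
    (hij : i ≠ j) (hA1 : A i j = -1) (hA2 : A j i = -2) (hM : M i j = 4)
    (hc : Nat.card (X (sr i)) = Nat.card (X (sr j))) {d : Y} (hd : NT cs h X d j) : NT cs h X d i := by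
  by_contra hdi
  obtain ⟨g0, hd1, hd2⟩ := hd
  obtain ⟨g, hg, hg'⟩ := exists_to_V R hI hij hA1 hc (mem_V_of_not_NT hdi g0 hd1)
  obtain ⟨y, hy1, hy2⟩ := exists_ball_of_mem R hd2 hdi ⟨g, hg, hg'⟩
  exact ball_false_of_nc R hM (nc_of_intComm hp R hI hij hA1 hA2) hy1 hy2

/-- **Triple bonds**: the long end belongs to `T(d)`. -/
theorem nt_long_six [Finite W] [Finite Y] [Fact p.Prime] (hp : 5 ≤ p) (R : RGD cs h p T n X) (D : G2 cs h X i j)
    (hall : ∀ k : I, k = i ∨ k = j)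
    (hc : Nat.card (X (sr i)) = Nat.card (X (sr j))) {d : Y} (hd : NT cs h X d j) : NT cs h X d i := by
  by_contra hdi
  obtain ⟨g0, hd1, hd2⟩ := hd
  obtain ⟨g, hg, hg'⟩ := exists_to_V R D.int D.ne D.a1 hc (mem_V_of_not_NT hdi g0 hd1)
  obtain ⟨y, hy1, hy2⟩ := exists_ball_of_mem R hd2 hdi ⟨g, hg, hg'⟩
  refine T5GFour.ball_false_of_G2 R D hall hp (e := y * d * y⁻¹) (fun h1 => hy1 (by rw [h1]; exact one_mem _)) hy2 ?_
  exact fun h1 => hdi (h1.of_conj y)

end Cfsg.Agent.H798.T5Long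
end

-- part: H798/T5Untw
section
/-!
T5, defining characteristic (helper798): `MRow p S` for `S = G₂(q), F₄(q), E₆(q), E₇(q), E₈(q)`, `p ∣ q`, `p ≥ 5`.
-/

set_option autoImplicit false
set_option linter.unusedSectionVars false
set_option maxHeartbeats 400000

namespace Cfsg.Agent.H798.T5Untw

open Matrix CoxeterSystem Cfsg.Agent.ChevalleyStructure.CoxeterGeom Cfsg.Agent.Tits.Roots Cfsg.Agent.Tits.Core
  Cfsg.Agent.Tits.RootComb Cfsg.Agent.Nodes.Comb Cfsg.Agent.Nodes.Reps Cfsg.Agent.Nodes.BNOf Cfsg.Agent.Nodes.BNOf.RGD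
open Cfsg.Agent.Nodes.RGDLib Cfsg.Agent.FixBN Cfsg.Agent.FixBN.FieldRGD Cfsg.Agent.H460.Typed
open Cfsg.Agent.H185.TypedTw (FNode)
open Cfsg.Lie Cfsg.Agent.ChevalleyStructure Cfsg.Agent.ChevalleyStructure.Elts
  Cfsg.Agent.ChevalleyStructure.NPerm Cfsg.Agent.ChevalleyStructure.CoxeterGeomTypes Cfsg.Agent.Nodes.RGDChev
open Cfsg.Agent.KFacts.RgdAut Cfsg.Agent.KFacts.RgdDiag Cfsg.Agent.KFacts.RgdRigid
  Cfsg.Agent.KFacts.RgdField Cfsg.Agent.KFacts.RgdTau Cfsg.Agent.KFacts.RgdChevCoord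
open Cfsg.Agent.KFacts.RgdFilt Cfsg.Agent.KFacts.RgdBorelTits
open Cfsg.Agent.FixBN.ChevGood (isSolvable_T)
open Cfsg.Agent.H460.FTypedAE (fieldNode_of_sl)
open Cfsg.Agent.H533.T5 Cfsg.Agent.H957.T5M
open Cfsg.Agent.H798.T5Geo Cfsg.Agent.H798.T5Pan Cfsg.Agent.H798.T5Tp Cfsg.Agent.H798.T5Asm
open scoped MatrixGroups

section Gen

variable {I W Y : Type*} [Fintype I] [DecidableEq I] [Group W] [Group Y] {M : CoxeterMatrix I}
  {cs : CoxeterSystem M W} {A : I → I → ℤ} {h : IsCartan M A} {p : ℕ} {T : Subgroup Y} {n : I → Y}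
  {X : (I → ℤ) → Subgroup Y}

theorem intComm_restrict (hI : IntComm cs h X) (K : Subgroup Y) (hX : ∀ x, IsRoot cs h x → X x ≤ K) :
    IntComm cs h (fun x => (X x).subgroupOf K) := by
  intro x y hx hy hxy hxy' a ha b hb
  have h2 := hI x y hx hy hxy hxy' a ha b hb
  have h3 : FS (fun z => (X z).subgroupOf K) {z | IB cs h x y z} = (FS X {z | IB cs h x y z}).subgroupOf K := by
    unfold FS
    rw [Nodes.RGDLib.iSup_subgroupOf]
    rintro ⟨z, hz⟩
    exact hX z hz.1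
  rw [h3, Subgroup.mem_subgroupOf]
  exact h2

theorem coord_card {F : Type*} [Field F] {P : Subgroup Y} {x : F → Y} {χ : Y → F} (C : Coord T P x χ) :
    Nat.card P = Nat.card F := by
  have hmem : ∀ a, x a ∈ P := fun a => (C.mem _).2 ⟨a, rfl⟩
  refine (Nat.card_congr (Equiv.ofBijective (fun a => (⟨x a, hmem a⟩ : P)) ⟨?_, ?_⟩)).symm
  · intro a b hab
    exact C.inj (congrArg Subtype.val hab)
  · rintro ⟨y, hy⟩
    obtain ⟨a, ha⟩ := (C.mem y).1 hy
    exact ⟨a, Subtype.ext ha⟩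

end Gen

variable {D : ChevalleyDatum} {l : ℕ} {M : CoxeterMatrix (Fin l)}

/-- the nodes -/
theorem fnode_chev (hp : IsType D l M) (K : Type) [Field K] [Finite K] (p : ℕ) [Fact p.Prime] [CharP K p]
    [Finite M.Group] (i : Fin l) :
    FNode ((rgd (K := K) hp M.toCoxeterSystem p).bnPair (gen hp M.toCoxeterSystem p))
      (RGD.Sup (XX D l K) (RGD.Pos M.toCoxeterSystem hp.isCartan)) (nc hp K i) (Nat.card K) := by
  refine ⟨_, NodeRGD.node _ _ i, K, inferInstance, inferInstance, rfl, ?_⟩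
  have h := simple_lt hp.inList (lt_rank hp i)
  obtain ⟨φ, hφ, hφ'⟩ := Cfsg.Agent.S1030.result (F := K) D hp.inList (D.simple i) h
  have hu : ∀ a, φ (uu a) = xG hp.inList (D.simple i) a := fun a => Units.ext ((hφ' (uu a) a).1 rfl)
  have hv : ∀ a, φ (vv a) = xG hp.inList (D.neg (D.simple i)) a := fun a => Units.ext ((hφ' (vv a) a).2 rfl)
  have hw : ∀ b (hb : b ≠ 0), φ (ww b hb) = nG hp.inList (D.simple i) b := by
    intro b hb
    have h1 : ww b hb = uu b * (vv (-b⁻¹) * uu b) := by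
      apply Subtype.ext
      show !![0, b; -b⁻¹, 0] = !![1, b; 0, 1] * (!![1, 0; -b⁻¹, 1] * !![1, b; 0, 1])
      rw [Matrix.mul_fin_two, Matrix.mul_fin_two]
      congr 1
      ext i j
      (revert i j; simp [hb, _root_.Fin.forall_fin_succ])
    rw [h1, map_mul, map_mul, hu, hv, nG_def]
  have hd : ∀ c (hc : c ≠ 0), φ (dd c hc) = hG hp.inList (D.simple i) c := by
    intro c hc
    have h1 : dd c hc = ww c hc * ww (-1) (neg_ne_zero.2 one_ne_zero) := by
      apply Subtype.ext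
      show !![c, 0; 0, c⁻¹] = !![0, c; -c⁻¹, 0] * !![0, -1; -(-1)⁻¹, 0]
      rw [Matrix.mul_fin_two]
      congr 1
      ext i j
      (revert i j; simp [_root_.Fin.forall_fin_succ])
    rw [h1, map_mul, hw, hw, hG_def]
  have hmem : ∀ g, φ g ∈ D.group K := by
    intro g
    have h1 : φ g ∈ D.rootSubgroup K (D.simple i) ⊔ D.rootSubgroup K (D.neg (D.simple i)) := by
      rw [← hφ]; exact ⟨g, rfl⟩
    rw [← XV_sr hp, ← XV_neg_sr hp] at h1
    exact sup_le (XV_le_group hp _) (XV_le_group hp _) h1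
  refine fieldNode_of_sl _ _ (φ.codRestrict (D.group K) hmem) 1 one_ne_zero ?_ ?_ ?_ ?_
  · rintro ⟨y, hy⟩
    rw [Subgroup.mem_subgroupOf, XV_sr hp]
    show y ∈ D.rootSubgroup K (D.simple i) ↔ _
    rw [mem_rootSubgroup_iff hp.inList]
    constructor
    · rintro ⟨t, rfl⟩
      exact ⟨t, Subtype.ext (hu t)⟩
    · rintro ⟨t, ht⟩
      have h1 : φ (uu t) = y := congrArg Subtype.val ht
      exact ⟨t, by rw [← h1, hu]⟩
  · intro a ha
    have h1 : φ (uu a) = 1 := congrArg Subtype.val ha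
    rw [hu] at h1
    have h3 : xG hp.inList (D.simple i) a = xG hp.inList (D.simple i) 0 := by rw [h1, xG_zero]
    exact xG_injective hp.inList h h3
  · intro c hc
    refine T_le_B ?_
    rw [Subgroup.mem_subgroupOf]
    show φ (dd c hc) ∈ _
    rw [hd]
    exact hG_mem_diagonal hp.inList h hc
  · apply Subtype.ext
    exact hw 1 one_ne_zero

/-- **The middle row**, one type contained in all `T(x)`. -/
theorem mrow_chev (hp : IsType D l M) (K : Type) [Field K] [Finite K] (p : ℕ) [Fact p.Prime] [CharP K p]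
    [IsSimpleGroup ↥(D.group K)] (hc : ∃ a b : ↥(D.group K), a * b ≠ b * a) (h5 : 5 ≤ p) (hl : 1 ≤ l)
    (hσ : ∀ σ : Equiv.Perm (Fin l), (∀ i j, M (σ i) (σ j) = M i j) → σ ^ p = 1 → σ = 1)
    (hT : ∃ i0, ∀ (x : ↥(D.group K)) (i : Fin l), NT M.toCoxeterSystem hp.isCartan (XX D l K) x i →
      NT M.toCoxeterSystem hp.isCartan (XX D l K) x i0) : MRow p ↥(D.group K) := by
  have hpp : p.Prime := Fact.out
  have hW : Finite M.Group := finite_W hp (M.toCoxeterSystem)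
  have R := rgd (K := K) hp M.toCoxeterSystem p
  have hG1 : RGD.Sup (XX D l K) {x | IsRoot M.toCoxeterSystem hp.isCartan x} = ⊤ := G1_eq_top hp M.toCoxeterSystem
  have hne : Nonempty (Fin l) := ⟨⟨0, hl⟩⟩
  have hconn := KFacts.RgdLieCharP.conn_of_simple R hG1 (KFacts.RgdLieCharP.center_eq_bot hc)
  have C := coords (K := K) hp M.toCoxeterSystem p
  have H := coroots (K := K) hp M.toCoxeterSystem p
  obtain ⟨E, hB, he, hF⟩ := exists_eng_of (Q := fun _ => Nat.card K) R (gen hp M.toCoxeterSystem p) (isSolvable_T K hp)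
    (fun i => fnode_chev hp K p i) hl
  obtain ⟨i0, hi0⟩ := hT
  have hG := KFacts.RgdFilt.GG_eq_top (T := TT D K) hG1
  refine mrow_of R hB he hc hG h5 hF ?_ ?_
  · intro x y hx hy hx1 hy1
    left
    have hNT : ∀ x : ↥(D.group K), x ^ p = 1 → x ≠ 1 → NT M.toCoxeterSystem hp.isCartan (XX D l K) x i0 := by
      intro x hx hx1
      obtain ⟨i, hi⟩ := exists_NT R hG (c := x) (by
        rw [IsPGroup.iff_card]
        refine ⟨1, ?_⟩
        rw [Nat.card_zpowers, pow_one, orderOf_eq_prime hx hx1]) hx1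
      exact hi0 x i hi
    exact ⟨i0, hNT x hx hx1, hNT y hy hy1⟩
  · intro c hc'
    have hcp : c ^ p = 1 := by rw [← hc', pow_orderOf_eq_one]
    rcases CpAut.RgdConj.inner_or_conj R hG1 C H hconn hσ hcp with h1 | ⟨τ, hτ, hτ1, h1⟩
    · exact Or.inl h1
    · right
      have hstd : ∀ r, IsRoot M.toCoxeterSystem hp.isCartan r → ∀ a,
          CpAut.RgdUntw.fld D τ (xc hp r a) = xc hp r (τ a) := by
        intro r hr a
        obtain ⟨s, hs, rfl⟩ := (isRoot_iff hp M.toCoxeterSystem r).1 hr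
        exact CpAut.RgdUntw.fld_xc hp τ hs a
      have S := CpAut.RgdConj.tau_of_std R hG1 C H hconn hstd
      have hφ : CpAut.RgdUntw.fld D τ ^ p = 1 := by rw [← CpAut.RgdUntw.fld_pow, hτ, CpAut.RgdUntw.fld_one]
      obtain ⟨e, he'⟩ := h1 _ hφ S
      rw [he']
      refine TP.conj_all ?_ e
      exact tp_of_ntau R hB he (F := fun _ => K) (χ := fun i => ch hp (sr i))
        (fun i => C.coord _ (isRoot_sr M.toCoxeterSystem hp.isCartan i)) hσ hφ (τ := fun _ => τ)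
        ⟨S.diag, S.char⟩ (fun _ => hτ1)

theorem intComm_chev (hp : IsType D l M) (K : Type) [Field K] :
    IntComm M.toCoxeterSystem hp.isCartan (XX D l K) :=
  intComm_restrict (KFacts.RgdFiltChev.intComm_GL hp M.toCoxeterSystem) _ (fun x _ => XV_le_group hp x)

theorem card_chev (hp : IsType D l M) (K : Type) [Field K] [Finite K] (p : ℕ) [Fact p.Prime] [CharP K p] (i j : Fin l) :
    Nat.card (XX D l K (sr i)) = Nat.card (XX D l K (sr j)) := by
  have C := coords (K := K) hp M.toCoxeterSystem p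
  rw [coord_card (C.coord _ (isRoot_sr M.toCoxeterSystem hp.isCartan i)),
    coord_card (C.coord _ (isRoot_sr M.toCoxeterSystem hp.isCartan j))]

/-- simply laced types -/
theorem mrow_simply (hp : IsType D l M) (K : Type) [Field K] [Finite K] (p : ℕ) [Fact p.Prime] [CharP K p]
    [IsSimpleGroup ↥(D.group K)] (hc : ∃ a b : ↥(D.group K), a * b ≠ b * a) (h5 : 5 ≤ p) (hl : 1 ≤ l)
    (hσ : ∀ σ : Equiv.Perm (Fin l), (∀ i j, M (σ i) (σ j) = M i j) → σ ^ p = 1 → σ = 1)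
    (hM : ∀ i j, i ≠ j → M i j = 2 ∨ M i j = 3) : MRow p ↥(D.group K) := by
  have hW : Finite M.Group := finite_W hp (M.toCoxeterSystem)
  have R := rgd (K := K) hp M.toCoxeterSystem p
  have hG1 : RGD.Sup (XX D l K) {x | IsRoot M.toCoxeterSystem hp.isCartan x} = ⊤ := G1_eq_top hp M.toCoxeterSystem
  have hconn := KFacts.RgdLieCharP.conn_of_simple R hG1 (KFacts.RgdLieCharP.center_eq_bot hc)
  exact mrow_chev hp K p hc h5 hl hσ ⟨⟨0, hl⟩, fun x i hx => nt_all_of_conn R hconn hM hx _⟩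

theorem comm_of_not {G : Type*} [Group G] (h : ¬ IsMulCommutative G) : ∃ a b : G, a * b ≠ b * a := by
  by_contra hcon
  push Not at hcon
  exact h ⟨⟨hcon⟩⟩

theorem lab_E6 : ∀ i j : Fin 6, i ≠ j → CoxeterMatrix.E₆ i j = 2 ∨ CoxeterMatrix.E₆ i j = 3 := by
  intro i j; revert j; fin_cases i <;> decide

theorem lab_E7 : ∀ i j : Fin 7, i ≠ j → CoxeterMatrix.E₇ i j = 2 ∨ CoxeterMatrix.E₇ i j = 3 := by
  intro i j; revert j; fin_cases i <;> decide

theorem lab_E8 : ∀ i j : Fin 8, i ≠ j → CoxeterMatrix.E₈ i j = 2 ∨ CoxeterMatrix.E₈ i j = 3 := by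
  intro i j; revert j; fin_cases i <;> decide

section Rows

variable (p : ℕ) [Fact p.Prime] (h5 : 5 ≤ p) (K : Type) [Field K] [Fintype K] [CharP K p]

include h5

theorem mrow_E6 : MRow p ↥(chevE6.group K) := by
  obtain ⟨hs, hna⟩ := Cfsg.Agent.S1054.result (F := K) chevE6 (by simp)
  exact mrow_simply (D := chevE6) (l := 6) (M := CoxeterMatrix.E₆) (by simp [IsType, typeList]) K p (comm_of_not hna)
    h5 (by norm_num) (CpAut.RgdUntw.symTwo_E6.eq_one Fact.out (by omega)) lab_E6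

theorem mrow_E7 : MRow p ↥(chevE7.group K) := by
  obtain ⟨hs, hna⟩ := Cfsg.Agent.S1054.result (F := K) chevE7 (by simp)
  exact mrow_simply (D := chevE7) (l := 7) (M := CoxeterMatrix.E₇) (by simp [IsType, typeList]) K p (comm_of_not hna)
    h5 (by norm_num) (CpAut.RgdUntw.symTwo_E7.eq_one Fact.out (by omega)) lab_E7

theorem mrow_E8 : MRow p ↥(chevE8.group K) := by
  obtain ⟨hs, hna⟩ := Cfsg.Agent.S1054.result (F := K) chevE8 (by simp)
  exact mrow_simply (D := chevE8) (l := 8) (M := CoxeterMatrix.E₈) (by simp [IsType, typeList]) K p (comm_of_not hna)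
    h5 (by norm_num) (CpAut.RgdUntw.symTwo_E8.eq_one Fact.out (by omega)) lab_E8

theorem mrow_F4 : MRow p ↥(chevF4.group K) := by
  obtain ⟨hs, hna⟩ := Cfsg.Agent.S1054.result (F := K) chevF4 (by simp)
  have hp : IsType chevF4 4 CoxeterMatrix.F₄ := by simp [IsType, typeList]
  have hW : Finite (CoxeterMatrix.F₄).Group := finite_W hp (CoxeterMatrix.F₄).toCoxeterSystem
  have R := rgd (K := K) hp (CoxeterMatrix.F₄).toCoxeterSystem p
  refine mrow_chev hp K p (comm_of_not hna) h5 (by norm_num)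
    (CpAut.RgdUntw.symTwo_F4.eq_one Fact.out (by omega)) ⟨2, fun x i hx => ?_⟩
  have h12 : NT (CoxeterMatrix.F₄).toCoxeterSystem hp.isCartan (XX chevF4 4 K) x 1 →
      NT (CoxeterMatrix.F₄).toCoxeterSystem hp.isCartan (XX chevF4 4 K) x 2 :=
    T5Long.nt_long_four (i := 2) (j := 1) (by omega) R (intComm_chev hp K) (by decide) (by decide) (by decide)
      (by decide) (card_chev hp K p 2 1)
  have h01 : NT (CoxeterMatrix.F₄).toCoxeterSystem hp.isCartan (XX chevF4 4 K) x 0 →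
      NT (CoxeterMatrix.F₄).toCoxeterSystem hp.isCartan (XX chevF4 4 K) x 1 := T5Root.NT.of_three R (by decide)
  have h32 : NT (CoxeterMatrix.F₄).toCoxeterSystem hp.isCartan (XX chevF4 4 K) x 3 →
      NT (CoxeterMatrix.F₄).toCoxeterSystem hp.isCartan (XX chevF4 4 K) x 2 := T5Root.NT.of_three R (by decide)
  fin_cases i
  · exact h12 (h01 hx)
  · exact h12 hx
  · exact hx
  · exact h32 hx

theorem mrow_G2 : MRow p ↥(chevG2.group K) := by
  obtain ⟨hs, hna⟩ := Cfsg.Agent.S1055.result (F := K) (CpAut.RgdUntw.exists_ne p Fact.out (by omega) K)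
  have hp : IsType chevG2 2 CoxeterMatrix.G₂ := by simp [IsType, typeList]
  have hW : Finite (CoxeterMatrix.G₂).Group := finite_W hp (CoxeterMatrix.G₂).toCoxeterSystem
  have R := rgd (K := K) hp (CoxeterMatrix.G₂).toCoxeterSystem p
  refine mrow_chev hp K p (comm_of_not hna) h5 (by norm_num)
    (CpAut.RgdUntw.symTwo_G2.eq_one Fact.out (by omega)) ⟨1, fun x i hx => ?_⟩
  fin_cases i
  · exact T5Long.nt_long_six (i := 1) (j := 0) h5 R ⟨by decide, by decide, by decide, intComm_chev hp K⟩ (by decide)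
      (card_chev hp K p 1 0) hx
  · exact hx

end Rows

end Cfsg.Agent.H798.T5Untw
end
end

-- part: H798/T5Tw
section
prune_inst 0x35407154746212000000859673203c66fe0005b2006b8801c9e00b420ec9ef62c9842f61beb033129a0eaa8d60390048115c01f00268000004208400411d008004ab5206f3f9ad04760098809084400000000000000000000000000000000004000000000
set_option linter.all false
open scoped Cfsg.Agent.FastGrp

/-!
T5, defining characteristic (helper798): `²E₆(q)`, `³D₄(q)`, `p ∣ q`, `p ≥ 5`: `WRow`, and `MRow` from the special pairs.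
-/

set_option autoImplicit false
set_option linter.unusedSectionVars false
set_option maxHeartbeats 400000

namespace Cfsg.Agent.H798.T5Tw

open CoxeterSystem Cfsg.Agent.ChevalleyStructure.CoxeterGeom Cfsg.Agent.Tits.Roots Cfsg.Agent.Tits.Core
  Cfsg.Agent.Tits.Exchange Cfsg.Agent.Nodes.Reps Cfsg.Agent.Nodes.BNOf Cfsg.Agent.Nodes.BNOf.RGD
  Cfsg.Agent.Nodes.StabComb
  Cfsg.Agent.Nodes.Bruhat Cfsg.Agent.Nodes.OppDec Cfsg.Agent.Nodes.RGDTwGen Cfsg.Agent.Nodes.RGDChev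
  Cfsg.Agent.Nodes.RGDFold Cfsg.Agent.Nodes.RGDFoldSL
open Cfsg.Agent.KFacts.RgdOpp Cfsg.Agent.KFacts.RgdAut Cfsg.Agent.KFacts.RgdDiag Cfsg.Agent.KFacts.RgdRigid
  Cfsg.Agent.KFacts.RgdField Cfsg.Agent.KFacts.RgdTau Cfsg.Agent.KFacts.RgdNodes Cfsg.Agent.KFacts.RgdFilt
open Cfsg.Lie Cfsg.Agent.ChevalleyStructure Cfsg.Agent.ChevalleyStructure.Elts Cfsg.Agent.ChevStructure.FieldMap
open Cfsg.Agent.ChevalleyStructure.SL2Hom (up lo)
open Cfsg.Agent.FixBN Cfsg.Agent.FixBN.FieldRGD Cfsg.Agent.H460.Typed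
open Cfsg.Agent.H185.TypedTw (FNode fnode_of_sl)
open Cfsg.Agent.H533.T5 Cfsg.Agent.H957.T5M
open Cfsg.Agent.H798.T5Geo Cfsg.Agent.H798.T5Pan Cfsg.Agent.H798.T5Tp Cfsg.Agent.H798.T5Asm
open Cfsg.Agent.H798.T5Untw (intComm_restrict comm_of_not)
open Cfsg.Agent.CpAut
open scoped MatrixGroups

theorem conj_injective {G : Type*} [Group G] [IsSimpleGroup G] (hna : ¬ IsMulCommutative G) :
    Function.Injective (MulAut.conj : G →* MulAut G) := by
  rw [injective_iff_map_eq_one]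
  intro x hx
  by_contra hx1
  rcases (inferInstance : (MulAut.conj : G →* MulAut G).ker.Normal).eq_bot_or_eq_top with h3 | h3
  · apply hx1
    rw [← Subgroup.mem_bot, ← h3]
    exact hx
  · obtain ⟨a, b, hab⟩ := comm_of_not hna
    apply hab
    have h4 : a ∈ (MulAut.conj : G →* MulAut G).ker := h3 ▸ Subgroup.mem_top a
    have h5 : a * b * a⁻¹ = b := by
      have := congrArg (fun f : MulAut G => f b) (MonoidHom.mem_ker.1 h4)
      rwa [MulAut.conj_apply, MulAut.one_apply] at this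
    calc a * b = a * b * a⁻¹ * a := by group
      _ = b * a := by rw [h5]

section E6

open Cfsg.Agent.KFacts.TwESix.NodeCoord Cfsg.Agent.KFacts.TwESix.Out Cfsg.Agent.KFacts.TwESix.OutTwo
open Cfsg.Agent.Nodes.RGDTwE6 Cfsg.Agent.Nodes.RGDTwNode.E6
open Cfsg.Agent.ChevalleyStructure.TwE6Basic (hE6 single_mem pair_mem twisted_le_iff exists_frob)
open Cfsg.Agent.CpAut.RgdTwE6 (st rs st_pow ntau_st ntau_of_ftau ftau_pow eq_one_of_rs)

variable {K : Type} [Field K] [Fintype K] (p : ℕ) [Fact p.Prime] [CharP K p] {q : ℕ} {φ : K →+* K}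
  (hφ : ∀ x, φ x = x ^ q) (hqq : ∀ t : K, (t ^ q) ^ q = t)

local notation "cF" => CoxeterMatrix.toCoxeterSystem CoxeterMatrix.F₄

theorem finW_E6 : Finite (CoxeterMatrix.F₄).Group :=
  Nodes.RGDFold.finite_W (hp := Nodes.RGDTwE6.hp) CoxeterMatrix.F₄.toCoxeterSystem Nodes.RGDTwE6.isCartan
      Nodes.RGDTwE6.foldData

theorem gen_E6 : RGD.B cF Nodes.RGDTwE6.isCartan (T K q) (X φ q) ⊔
    NN cF (Cfsg.Agent.Nodes.RGDTwE6.rgd cF hφ hqq p).nsys = ⊤ :=
  Cfsg.Agent.Nodes.RGDLib.rgd_gen_of_G1 (Cfsg.Agent.Nodes.RGDTwE6.rgd cF hφ hqq p) (G1_eq_top cF hφ hqq)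

theorem fnode_E6 [Finite (CoxeterMatrix.F₄).Group] (i : Fin 4) :
    FNode ((Cfsg.Agent.Nodes.RGDTwE6.rgd cF hφ hqq p).bnPair (gen_E6 p hφ hqq))
      (RGD.Sup (X φ q) (RGD.Pos cF Nodes.RGDTwE6.isCartan)) (Cfsg.Agent.Nodes.RGDTwE6.nn hφ i) (Nat.card (KF φ i)) := by
  refine fnode_of_sl _ (gen_E6 p hφ hqq) (PhiE hφ hqq i) (b := 1) one_ne_zero ?_ ?_ ?_ ?_
  · intro y
    rw [mem_X hφ hqq]
    exact ⟨fun ⟨a, e⟩ => ⟨a, e.symm⟩, fun ⟨a, e⟩ => ⟨a, e.symm⟩⟩
  · intro a ha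
    refine (coordE hφ hqq i).inj ?_
    show PhiE hφ hqq i (SL2Hom.up a) = PhiE hφ hqq i (SL2Hom.up 0)
    have h3 : (SL2Hom.up (0 : KF φ i)) = 1 := by
      apply Subtype.ext
      show (!![1, 0; 0, 1] : Matrix (Fin 2) (Fin 2) _) = 1
      exact Matrix.one_fin_two.symm
    rw [h3, map_one]
    exact ha
  · intro c hc
    refine T_le_B ?_
    have h3 : dd c hc = hS c := by
      apply Subtype.ext
      exact (coe_hS hc).symm
    rw [h3]
    exact PhiE_hS hφ hqq i c hc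
  · have h3 : ww (1 : KF φ i) one_ne_zero = wS 1 := by
      apply Subtype.ext
      exact (coe_wS one_ne_zero).symm
    rw [h3]
    exact PhiE_wS hφ hqq i

include hφ hqq in
/-- **Outer automorphisms of `²E₆(q)`.** -/
theorem hout_E6 {E : Cfsg.Agent.H460.Engine.Eng p ↥(twistedE6 K q) CoxeterMatrix.F₄ (fun i => Nat.card (KF φ i))}
    (hB : E.P.B = RGD.B cF Nodes.RGDTwE6.isCartan (T K q) (X φ q)) (he : ∀ i, (E.e i : ↥(twistedE6 K q)) = nn hφ i)
    (hp2 : p ≠ 2) (hq : IsPrimePow q) (hK : Fintype.card K = q ^ 2) [IsSimpleGroup ↥(twistedE6 K q)]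
    {x : MulAut ↥(twistedE6 K q)} (hx : orderOf x = p) : (∃ g, x = MulAut.conj g) ∨ ∀ i, TP E x i := by
  have hp : p.Prime := Fact.out
  have hW := finW_E6
  have R := Cfsg.Agent.Nodes.RGDTwE6.rgd cF hφ hqq p
  have hG1 := G1_top cF hφ hqq
  have hxp : x ^ p = 1 := by rw [← hx, pow_orderOf_eq_one]
  have hτ : ∀ (β : MulAut ↥(twistedE6 K q)) (τ' : ∀ i, KF φ i ≃+* KF φ i),
      NTau (T K q) (X φ q) (chE hφ hqq) β τ' → β ^ p = 1 →
      ∃ τ : K ≃+* K, τ' = rs hφ τ ∧ τ ^ p = 1 := by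
    intro β τ' S hβ
    obtain ⟨τ, S'⟩ := exists_ftau hφ hqq cF p S.diag
    refine ⟨τ, NTau.unique (coordE hφ hqq) S (ntau_of_ftau hφ hqq S'), ?_⟩
    have h2 := ftau_pow hφ hqq S' p
    rw [hβ] at h2
    exact FTau.unique hφ hqq h2 (FTau.one hφ hqq)
  have hrs1 : rs hφ (1 : K ≃+* K) = 1 := by
    funext i
    ext a
    rfl
  rcases RgdNConj.inner_or_conj R hG1 (coordE hφ hqq) (fun σ hσ hσ' _ => by
      apply perm_F4 σ hσ
      intro h3
      have h4 := hσ' 0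
      rw [h3] at h4
      exact card_ne hφ hqq hK hq.one_lt h4) (fun β τ' S hβ => by
      obtain ⟨τ, rfl, hτp⟩ := hτ β τ' S hβ
      by_cases h1 : τ = 1
      · left
        rw [h1, hrs1]
      · right
        exact fun i hi => h1 (eq_one_of_rs hφ hqq hp hp2 hτp i hi)) hxp with h1 | ⟨β, τ', S, hβ, hτ1, h1⟩
  · exact Or.inl h1
  · right
    obtain ⟨τ, rfl, hτp⟩ := hτ β τ' S hβ
    have hτ1' : τ ≠ 1 := by
      rintro rfl
      exact hτ1 hrs1
    obtain ⟨e, he'⟩ := h1 (st q τ) (st_pow τ hτp) (ntau_st hφ hqq τ cF p)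
    rw [he']
    refine TP.conj_all ?_ e
    exact tp_of_ntau R hB he (coordE hφ hqq) (RgdUntw.symTwo_F4.eq_one hp hp2) (st_pow τ hτp)
      (ntau_st hφ hqq τ cF p) (fun i hi => hτ1' (eq_one_of_rs hφ hqq hp hp2 hτp i hi))

include p hφ hqq in
theorem intComm_E6 : IntComm cF Nodes.RGDTwE6.isCartan (X φ q) :=
  intComm_restrict (KFacts.RgdFiltTwAll.intComm_fold cF Nodes.RGDTwE6.isCartan foldData (foldGrp hφ hqq) p) _
    (fun _ hz => Nodes.RGDFold.R_le cF Nodes.RGDTwE6.isCartan foldData (foldGrp hφ hqq) p hz)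

include hφ hqq in
theorem cases_E6 [IsSimpleGroup ↥(twistedE6 K q)] {x y : ↥(twistedE6 K q)} (hx : x ^ p = 1) (hy : y ^ p = 1)
    (hx1 : x ≠ 1) (hy1 : y ≠ 1) :
    (∃ i, NT cF Nodes.RGDTwE6.isCartan (X φ q) x i ∧ NT cF Nodes.RGDTwE6.isCartan (X φ q) y i) ∨
    (NT cF Nodes.RGDTwE6.isCartan (X φ q) x 1 ∧ ¬ NT cF Nodes.RGDTwE6.isCartan (X φ q) x 2 ∧
      NT cF Nodes.RGDTwE6.isCartan (X φ q) y 2 ∧ ¬ NT cF Nodes.RGDTwE6.isCartan (X φ q) y 1) ∨
    (NT cF Nodes.RGDTwE6.isCartan (X φ q) y 1 ∧ ¬ NT cF Nodes.RGDTwE6.isCartan (X φ q) y 2 ∧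
      NT cF Nodes.RGDTwE6.isCartan (X φ q) x 2 ∧ ¬ NT cF Nodes.RGDTwE6.isCartan (X φ q) x 1) := by
  have hW := finW_E6
  have R := Cfsg.Agent.Nodes.RGDTwE6.rgd cF hφ hqq p
  have hG1 := G1_top cF hφ hqq
  have hG := KFacts.RgdFilt.GG_eq_top (T := T K q) hG1
  have key : ∀ x : ↥(twistedE6 K q), x ^ p = 1 → x ≠ 1 →
      NT cF Nodes.RGDTwE6.isCartan (X φ q) x 1 ∨ NT cF Nodes.RGDTwE6.isCartan (X φ q) x 2 := by
    intro x hx hx1
    obtain ⟨i, hi⟩ := exists_NT R hG (c := x) (by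
      rw [IsPGroup.iff_card]
      refine ⟨1, ?_⟩
      rw [Nat.card_zpowers, pow_one, orderOf_eq_prime hx hx1]) hx1
    fin_cases i
    · exact Or.inl (T5Root.NT.of_three R (by decide) hi)
    · exact Or.inl hi
    · exact Or.inr hi
    · exact Or.inr (T5Root.NT.of_three R (by decide) hi)
  have h1 := key x hx hx1
  have h2 := key y hy hy1
  by_cases h3 : ∃ i, NT cF Nodes.RGDTwE6.isCartan (X φ q) x i ∧ NT cF Nodes.RGDTwE6.isCartan (X φ q) y i
  · exact Or.inl h3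
  · right
    push Not at h3
    exact h1.elim (fun b1 => have b2 := h2.resolve_left (h3 1 b1); Or.inl ⟨b1, fun b => h3 2 b b2, b2, h3 1 b1⟩)
      fun b1 => have b2 := h2.resolve_right (h3 2 b1); Or.inr ⟨b2, h3 2 b1, b1, fun b => h3 1 b b2⟩

include hφ hqq in
theorem bd_E6 (hp2 : p ≠ 2) : T5Bond.Bd cF Nodes.RGDTwE6.isCartan p (X φ q) 1 2 := by
  have hW := finW_E6
  have R := Cfsg.Agent.Nodes.RGDTwE6.rgd cF hφ hqq p
  exact T5Bond.bd_of_nc R (by decide)
    (T5NcB.nc_of_intComm hp2 R (intComm_E6 p hφ hqq) (by decide) (by decide) (by decide))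

include hφ hqq in
theorem wrow_E6 (h5 : 5 ≤ p) (hq : IsPrimePow q) (hK : Fintype.card K = q ^ 2) [IsSimpleGroup ↥(twistedE6 K q)]
    (hna : ¬ IsMulCommutative ↥(twistedE6 K q)) : WRow p ↥(twistedE6 K q) := by
  have hp : p.Prime := Fact.out
  have hW := finW_E6
  have R := Cfsg.Agent.Nodes.RGDTwE6.rgd cF hφ hqq p
  have hG1 := G1_top cF hφ hqq
  obtain ⟨E, hB, he, hF⟩ := exists_eng_of (Q := fun i => Nat.card (KF φ i)) R (gen_E6 p hφ hqq)
    (TwGood.isSolvable_T Nodes.RGDTwE6.hp) (fun i => fnode_E6 p hφ hqq i) (by norm_num)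
  refine wrow_of R hB he (comm_of_not hna) (KFacts.RgdFilt.GG_eq_top (T := T K q) hG1) h5 hF ?_
    (fun c hc => hout_E6 p hφ hqq hB he (by omega) hq hK hc)
  intro x y hx hy hx1 hy1
  have pg : ∀ x : ↥(twistedE6 K q), x ^ p = 1 → x ≠ 1 → IsPGroup p (Subgroup.zpowers x) := by
    intro x hx hx1
    rw [IsPGroup.iff_card]
    refine ⟨1, ?_⟩
    rw [Nat.card_zpowers, pow_one, orderOf_eq_prime hx hx1]
  have hBd := bd_E6 p hφ hqq (by omega)
  rcases cases_E6 p hφ hqq hx hy hx1 hy1 with h1 | ⟨h1, h2, h3, h4⟩ | ⟨h1, h2, h3, h4⟩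
  · exact Or.inl h1
  · exact Or.inr (hBd x y (pg y hy hy1) h1 h3 h4)
  · exact Or.inr (hBd y x (pg x hx hx1) h1 h3 h4).symm

include hφ hqq in
/-- **`MRow` of `²E₆(q)` from the special pairs.** -/
theorem mrow_E6_of (h5 : 5 ≤ p) (hq : IsPrimePow q) (hK : Fintype.card K = q ^ 2) [IsSimpleGroup ↥(twistedE6 K q)]
    (hna : ¬ IsMulCommutative ↥(twistedE6 K q))
    (hsp : ∀ x y : ↥(twistedE6 K q), x ^ p = 1 → y ^ p = 1 → x ≠ 1 → y ≠ 1 →
      NT cF Nodes.RGDTwE6.isCartan (X φ q) x 1 → ¬ NT cF Nodes.RGDTwE6.isCartan (X φ q) x 2 →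
      NT cF Nodes.RGDTwE6.isCartan (X φ q) y 2 → ¬ NT cF Nodes.RGDTwE6.isCartan (X φ q) y 1 →
      MPair p (⊤ : Subgroup ↥(twistedE6 K q)) x y) : MRow p ↥(twistedE6 K q) := by
  have hp : p.Prime := Fact.out
  have hW := finW_E6
  have R := Cfsg.Agent.Nodes.RGDTwE6.rgd cF hφ hqq p
  have hG1 := G1_top cF hφ hqq
  obtain ⟨E, hB, he, hF⟩ := exists_eng_of (Q := fun i => Nat.card (KF φ i)) R (gen_E6 p hφ hqq)
    (TwGood.isSolvable_T Nodes.RGDTwE6.hp) (fun i => fnode_E6 p hφ hqq i) (by norm_num)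
  refine mrow_of R hB he (comm_of_not hna) (KFacts.RgdFilt.GG_eq_top (T := T K q) hG1) h5 hF ?_
    (fun c hc => hout_E6 p hφ hqq hB he (by omega) hq hK hc)
  intro x y hx hy hx1 hy1
  have up : ∀ {x y : ↥(twistedE6 K q)}, MPair p (⊤ : Subgroup ↥(twistedE6 K q)) x y →
      MPair p (MulAut.conj : ↥(twistedE6 K q) →* MulAut ↥(twistedE6 K q)).range (MulAut.conj x) (MulAut.conj y) := by
    intro x y h
    have h6 := h.of_injective (MulAut.conj : ↥(twistedE6 K q) →* MulAut ↥(twistedE6 K q)) (conj_injective hna)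
    rwa [← MonoidHom.range_eq_map] at h6
  rcases cases_E6 p hφ hqq hx hy hx1 hy1 with h1 | ⟨h1, h2, h3, h4⟩ | ⟨h1, h2, h3, h4⟩
  · exact Or.inl h1
  · exact Or.inr (up (hsp x y hx hy hx1 hy1 h1 h2 h3 h4))
  · exact Or.inr (up (hsp y x hy hx hy1 hx1 h1 h2 h3 h4).symm)

end E6

section D4

open Cfsg.Agent.ChevalleyStructure.SignedSymm
open Cfsg.Agent.KFacts.TwDFour.Out
open Cfsg.Agent.Nodes.RGDTwD4 Cfsg.Agent.Nodes.RGDTwNode.D4
open Cfsg.Agent.ParSys.Fam.D4 (hf)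
open Cfsg.Agent.CpAut.RgdTwD4 (st rs st_pow ntau_st ntau_of_dtau dtau_pow eq_one_of_rs)

variable {K : Type} [Field K] [Fintype K] (p : ℕ) [Fact p.Prime] [CharP K p] {q : ℕ} {φ : K →+* K}
  (hφ : ∀ x, φ x = x ^ q) (hK : Fintype.card K = q ^ 3)

local notation "cG" => CoxeterMatrix.toCoxeterSystem CoxeterMatrix.G₂

theorem finW_D4 : Finite (CoxeterMatrix.G₂).Group :=
  Nodes.RGDFold.finite_W (hp := Nodes.RGDTwD4.hp) CoxeterMatrix.G₂.toCoxeterSystem Nodes.RGDTwD4.isCartan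
      Nodes.RGDTwD4.foldData

theorem gen_D4 : RGD.B cG Nodes.RGDTwD4.isCartan (T K q) (X φ q) ⊔
    NN cG (Cfsg.Agent.Nodes.RGDTwD4.rgd cG hK hφ p).nsys = ⊤ :=
  Cfsg.Agent.Nodes.RGDLib.rgd_gen_of_G1 (Cfsg.Agent.Nodes.RGDTwD4.rgd cG hK hφ p) (G1_eq_top cG hK hφ)

theorem fnode_D4 [Finite (CoxeterMatrix.G₂).Group] (i : Fin 2) :
    FNode ((Cfsg.Agent.Nodes.RGDTwD4.rgd cG hK hφ p).bnPair (gen_D4 p hφ hK))
      (RGD.Sup (X φ q) (RGD.Pos cG Nodes.RGDTwD4.isCartan)) (Cfsg.Agent.Nodes.RGDTwD4.n hφ i) (Nat.card (KD φ i)) := by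
  refine fnode_of_sl _ (gen_D4 p hφ hK) (PhiD hφ hK i) (b := 1) one_ne_zero ?_ ?_ ?_ ?_
  · intro y
    rw [mem_X hφ hK]
    exact ⟨fun ⟨a, e⟩ => ⟨a, e.symm⟩, fun ⟨a, e⟩ => ⟨a, e.symm⟩⟩
  · intro a ha
    refine (coordD hφ hK i).inj ?_
    show PhiD hφ hK i (SL2Hom.up a) = PhiD hφ hK i (SL2Hom.up 0)
    have h3 : (SL2Hom.up (0 : KD φ i)) = 1 := by
      apply Subtype.ext
      show (!![1, 0; 0, 1] : Matrix (Fin 2) (Fin 2) _) = 1
      exact Matrix.one_fin_two.symm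
    rw [h3, map_one]
    exact ha
  · intro c hc
    refine T_le_B ?_
    have h3 : dd c hc = hS c := by
      apply Subtype.ext
      exact (coe_hS hc).symm
    rw [h3]
    exact PhiD_hS hφ hK i c hc
  · have h3 : ww (1 : KD φ i) one_ne_zero = wS 1 := by
      apply Subtype.ext
      exact (coe_wS one_ne_zero).symm
    rw [h3]
    exact PhiD_wS hφ hK i

include hφ hK in
/-- **Outer automorphisms of `³D₄(q)`.** -/
theorem hout_D4 {E : Cfsg.Agent.H460.Engine.Eng p ↥(twistedD4 K q) CoxeterMatrix.G₂ (fun i => Nat.card (KD φ i))}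
    (hB : E.P.B = RGD.B cG Nodes.RGDTwD4.isCartan (T K q) (X φ q)) (he : ∀ i, (E.e i : ↥(twistedD4 K q)) = n hφ i)
    (hp2 : p ≠ 2) (hp3 : p ≠ 3) (hq : IsPrimePow q) [IsSimpleGroup ↥(twistedD4 K q)]
    {x : MulAut ↥(twistedD4 K q)} (hx : orderOf x = p) : (∃ g, x = MulAut.conj g) ∨ ∀ i, TP E x i := by
  have hp : p.Prime := Fact.out
  have hW := finW_D4
  have R := Cfsg.Agent.Nodes.RGDTwD4.rgd cG hK hφ p
  have hG1 := G1_eq_top cG hK hφ
  have hxp : x ^ p = 1 := by rw [← hx, pow_orderOf_eq_one]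
  have hτ : ∀ (β : MulAut ↥(twistedD4 K q)) (τ' : ∀ i, KD φ i ≃+* KD φ i),
      NTau (T K q) (X φ q) (chD hφ hK) β τ' → β ^ p = 1 →
      ∃ τ : K ≃+* K, τ' = rs hφ τ ∧ τ ^ p = 1 := by
    intro β τ' S hβ
    obtain ⟨τ, S'⟩ := exists_dtau hφ hK cG p S.diag
    refine ⟨τ, NTau.unique (coordD hφ hK) S (ntau_of_dtau hφ hK S'), ?_⟩
    have h2 := dtau_pow hφ hK S' p
    rw [hβ] at h2
    exact DTau.unique hφ hK h2 (DTau.one hφ hK)
  have hrs1 : rs hφ (1 : K ≃+* K) = 1 := by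
    funext i
    ext a
    rfl
  rcases RgdNConj.inner_or_conj R hG1 (coordD hφ hK) (fun σ hσ hσ' _ => by
      apply perm_G2 σ
      intro h3
      have h4 := hσ' 0
      rw [h3] at h4
      exact card_ne hφ hK hq.one_lt h4) (fun β τ' S hβ => by
      obtain ⟨τ, rfl, hτp⟩ := hτ β τ' S hβ
      by_cases h1 : τ = 1
      · left
        rw [h1, hrs1]
      · right
        exact fun i hi => h1 (eq_one_of_rs hφ hK hp hp3 hτp i hi)) hxp with h1 | ⟨β, τ', S, hβ, hτ1, h1⟩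
  · exact Or.inl h1
  · right
    obtain ⟨τ, rfl, hτp⟩ := hτ β τ' S hβ
    have hτ1' : τ ≠ 1 := by
      rintro rfl
      exact hτ1 hrs1
    obtain ⟨e, he'⟩ := h1 (st q τ) (st_pow τ hτp) (ntau_st hφ hK τ cG p)
    rw [he']
    refine TP.conj_all ?_ e
    exact tp_of_ntau R hB he (coordD hφ hK) (RgdUntw.symTwo_G2.eq_one hp hp2) (st_pow τ hτp)
      (ntau_st hφ hK τ cG p) (fun i hi => hτ1' (eq_one_of_rs hφ hK hp hp3 hτp i hi))

include p hφ hK in
theorem intComm_D4 : IntComm cG Nodes.RGDTwD4.isCartan (X φ q) :=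
  intComm_restrict (KFacts.RgdFiltTwAll.intComm_fold cG Nodes.RGDTwD4.isCartan foldData (foldGrp hφ (D4Fixed.twisted_le_fix hK hφ)) p) _
    (fun _ hz => Nodes.RGDFold.R_le cG Nodes.RGDTwD4.isCartan foldData (foldGrp hφ (D4Fixed.twisted_le_fix hK hφ)) p hz)

include hφ hK in
theorem cases_D4 [IsSimpleGroup ↥(twistedD4 K q)] {x y : ↥(twistedD4 K q)} (hx : x ^ p = 1) (hy : y ^ p = 1)
    (hx1 : x ≠ 1) (hy1 : y ≠ 1) :
    (∃ i, NT cG Nodes.RGDTwD4.isCartan (X φ q) x i ∧ NT cG Nodes.RGDTwD4.isCartan (X φ q) y i) ∨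
    (NT cG Nodes.RGDTwD4.isCartan (X φ q) x 0 ∧ ¬ NT cG Nodes.RGDTwD4.isCartan (X φ q) x 1 ∧
      NT cG Nodes.RGDTwD4.isCartan (X φ q) y 1 ∧ ¬ NT cG Nodes.RGDTwD4.isCartan (X φ q) y 0) ∨
    (NT cG Nodes.RGDTwD4.isCartan (X φ q) y 0 ∧ ¬ NT cG Nodes.RGDTwD4.isCartan (X φ q) y 1 ∧
      NT cG Nodes.RGDTwD4.isCartan (X φ q) x 1 ∧ ¬ NT cG Nodes.RGDTwD4.isCartan (X φ q) x 0) := by
  have hW := finW_D4
  have R := Cfsg.Agent.Nodes.RGDTwD4.rgd cG hK hφ p
  have hG1 := G1_eq_top cG hK hφ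
  have hG := KFacts.RgdFilt.GG_eq_top (T := T K q) hG1
  have key : ∀ x : ↥(twistedD4 K q), x ^ p = 1 → x ≠ 1 →
      NT cG Nodes.RGDTwD4.isCartan (X φ q) x 0 ∨ NT cG Nodes.RGDTwD4.isCartan (X φ q) x 1 := by
    intro x hx hx1
    obtain ⟨i, hi⟩ := exists_NT R hG (c := x) (by
      rw [IsPGroup.iff_card]
      refine ⟨1, ?_⟩
      rw [Nat.card_zpowers, pow_one, orderOf_eq_prime hx hx1]) hx1
    fin_cases i
    · exact Or.inl hi
    · exact Or.inr hi
  have h1 := key x hx hx1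
  have h2 := key y hy hy1
  by_cases h3 : ∃ i, NT cG Nodes.RGDTwD4.isCartan (X φ q) x i ∧ NT cG Nodes.RGDTwD4.isCartan (X φ q) y i
  · exact Or.inl h3
  · right
    push Not at h3
    exact h1.elim (fun b1 => have b2 := h2.resolve_left (h3 0 b1); Or.inl ⟨b1, fun b => h3 1 b b2, b2, h3 0 b1⟩)
      fun b1 => have b2 := h2.resolve_right (h3 1 b1); Or.inr ⟨b2, h3 1 b1, b1, fun b => h3 0 b b2⟩

include hφ hK in
/-- **`MRow` of `³D₄(q)` from the special pairs.** -/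
theorem mrow_D4_of (h5 : 5 ≤ p) (hq : IsPrimePow q) [IsSimpleGroup ↥(twistedD4 K q)]
    (hna : ¬ IsMulCommutative ↥(twistedD4 K q))
    (hsp : ∀ x y : ↥(twistedD4 K q), x ^ p = 1 → y ^ p = 1 → x ≠ 1 → y ≠ 1 →
      NT cG Nodes.RGDTwD4.isCartan (X φ q) x 0 → ¬ NT cG Nodes.RGDTwD4.isCartan (X φ q) x 1 →
      NT cG Nodes.RGDTwD4.isCartan (X φ q) y 1 → ¬ NT cG Nodes.RGDTwD4.isCartan (X φ q) y 0 →
      MPair p (⊤ : Subgroup ↥(twistedD4 K q)) x y) : MRow p ↥(twistedD4 K q) := by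
  have hp : p.Prime := Fact.out
  have hW := finW_D4
  have R := Cfsg.Agent.Nodes.RGDTwD4.rgd cG hK hφ p
  have hG1 := G1_eq_top cG hK hφ
  obtain ⟨E, hB, he, hF⟩ := exists_eng_of (Q := fun i => Nat.card (KD φ i)) R (gen_D4 p hφ hK)
    (TwGood.isSolvable_T Nodes.RGDTwD4.hp) (fun i => fnode_D4 p hφ hK i) (by norm_num)
  refine mrow_of R hB he (comm_of_not hna) (KFacts.RgdFilt.GG_eq_top (T := T K q) hG1) h5 hF ?_
    (fun c hc => hout_D4 p hφ hK hB he (by omega) (by omega) hq hc)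
  intro x y hx hy hx1 hy1
  have up : ∀ {x y : ↥(twistedD4 K q)}, MPair p (⊤ : Subgroup ↥(twistedD4 K q)) x y →
      MPair p (MulAut.conj : ↥(twistedD4 K q) →* MulAut ↥(twistedD4 K q)).range (MulAut.conj x) (MulAut.conj y) := by
    intro x y h
    have h6 := h.of_injective (MulAut.conj : ↥(twistedD4 K q) →* MulAut ↥(twistedD4 K q)) (conj_injective hna)
    rwa [← MonoidHom.range_eq_map] at h6
  rcases cases_D4 p hφ hK hx hy hx1 hy1 with h1 | ⟨h1, h2, h3, h4⟩ | ⟨h1, h2, h3, h4⟩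
  · exact Or.inl h1
  · exact Or.inr (up (hsp x y hx hy hx1 hy1 h1 h2 h3 h4))
  · exact Or.inr (up (hsp y x hy hx hy1 hx1 h1 h2 h3 h4).symm)

end D4

section Rows

variable (p : ℕ) [Fact p.Prime] (h5 : 5 ≤ p) (K : Type) [Field K] [Fintype K] [CharP K p] {q : ℕ}

include h5

/-- **`²E₆(q)`**, own characteristic. -/
theorem wrow_2E6 (hq : IsPrimePow q) (hK : Fintype.card K = q ^ 2) : WRow p ↥(twistedE6 K q) := by
  obtain ⟨hs, hna⟩ := Cfsg.Agent.S1070.result hq hK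
  obtain ⟨φ, hφ, hqq⟩ := TwE6Basic.exists_frob hq hK
  exact wrow_E6 p hφ hqq h5 hq hK hna

end Rows

end Cfsg.Agent.H798.T5Tw
end

-- part: H897/T5Diag
section
set_option linter.all false
open scoped Cfsg.Agent.FastGrp

/-!
# Twisted diagonal subgroups, abstract form (T5)

`U : P → Y` is a homomorphism, `σ` an automorphism of `Y` with `σ² (U A) = U (Fb A)` such that `U P` and `σ (U P)`
commute. For a perfect group `G₀` with `j : G₀ → P` onto the fixed points of `Fb` the homomorphism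
`V C = U (j C) σ (U (j C))` has image in the fixed points of `σ`.
`norm` : fixed elements normalising `U P` normalise the image of `V`.
`comm_of` : fixed elements normalising `U P` and centralising the image of `V` centralise `U (j G₀)`.
-/

set_option autoImplicit false
set_option linter.unusedSectionVars false

namespace Cfsg.Agent.H897.T5Diag

open Subgroup Cfsg.Agent.H897.T5Sub
open scoped commutatorElement

variable {P Y G0 S : Type*} [Group P] [Group Y] [Group G0] [Group S]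

/-- The data of a twisted diagonal subgroup. -/
structure Diag (U : P →* Y) (σ : MulAut Y) (Fb : P →* P) (j : G0 →* P) : Prop where
  sq : ∀ A, σ (σ (U A)) = U (Fb A)
  comm : ∀ A B, U A * σ (U B) = σ (U B) * U A
  ker : ∀ A, U A = 1 → A ∈ center P
  inj : Function.Injective j
  fix : ∀ C, Fb (j C) = j C
  surj : ∀ A, Fb A = A → ∃ C, j C = A
  perf : commutator G0 = ⊤

variable {U : P →* Y} {σ : MulAut Y} {Fb : P →* P} {j : G0 →* P}

/-- the homomorphism `C ↦ U (j C) σ (U (j C))` -/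
def V (D : Diag U σ Fb j) : G0 →* Y := MonoidHom.mk' (fun C => U (j C) * σ (U (j C))) (by
  intro C C'
  rw [map_mul, map_mul, map_mul]
  calc U (j C) * U (j C') * (σ (U (j C)) * σ (U (j C')))
      = U (j C) * (U (j C') * σ (U (j C))) * σ (U (j C')) := by group
    _ = U (j C) * (σ (U (j C)) * U (j C')) * σ (U (j C')) := by rw [D.comm]
    _ = U (j C) * σ (U (j C)) * (U (j C') * σ (U (j C'))) := by group)

theorem V_apply (D : Diag U σ Fb j) (C : G0) : V D C = U (j C) * σ (U (j C)) := rfl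

theorem V_fix (D : Diag U σ Fb j) (C : G0) : σ (V D C) = V D C := by
  rw [V_apply, map_mul, D.sq, D.fix, D.comm]

/-- the group of all elements on which a homomorphism satisfies a subgroup property is everything -/
theorem eq_top_of {H : Subgroup G0} (hG : commutator G0 = ⊤) (h : ∀ C C' : G0, ⁅C, C'⁆ ∈ H) (C : G0) : C ∈ H := by
  have h1 : commutator G0 ≤ H := by
    rw [commutator_def, commutator_le]
    exact fun a _ b _ => h a b
  rw [hG] at h1
  exact h1 (mem_top C)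

theorem V_ker (D : Diag U σ Fb j) {C : G0} (h : V D C = 1) : C ∈ center G0 := by
  have h1 : ((U.comp j).rangeRestrict).ker ≤ center G0 := by
    intro A hA
    have h2 : U (j A) = 1 := congrArg Subtype.val (show (U.comp j).rangeRestrict A = 1 from hA)
    have h3 := D.ker _ h2
    rw [mem_center_iff]
    intro B
    apply D.inj
    rw [map_mul, map_mul]
    exact mem_center_iff.1 h3 _
  rw [← comap_center D.perf (U.comp j).rangeRestrict_surjective h1, mem_comap, mem_center_iff]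
  rintro ⟨_, B, rfl⟩
  apply Subtype.ext
  show U (j B) * U (j C) = U (j C) * U (j B)
  have h4 : σ (U (j C)) = (U (j C))⁻¹ := by rw [V_apply] at h; exact (mul_eq_one_iff_inv_eq.1 h).symm
  have h3 := D.comm (j B) (j C)
  rw [h4] at h3
  calc U (j B) * U (j C) = U (j C) * ((U (j C))⁻¹ * U (j B)) * U (j C) := by group
    _ = U (j C) * (U (j B) * (U (j C))⁻¹) * U (j C) := by rw [h3]
    _ = U (j C) * U (j B) := by group

theorem comm_aux {a b a' b' : Y} (c1 : Commute a b') (c2 : Commute b a') (c3 : Commute a a') (c4 : Commute b b') :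
    a * a' * (b * b') * (a'⁻¹ * a⁻¹) * (b'⁻¹ * b⁻¹) = a * b * a⁻¹ * b⁻¹ * (a' * b' * a'⁻¹ * b'⁻¹) := by
  calc a * a' * (b * b') * (a'⁻¹ * a⁻¹) * (b'⁻¹ * b⁻¹)
      = a * (a' * b) * b' * (a'⁻¹ * a⁻¹) * (b'⁻¹ * b⁻¹) := by group
    _ = a * (b * a') * b' * (a⁻¹ * a'⁻¹) * (b⁻¹ * b'⁻¹) := by
        rw [c2.eq, (c3.inv_inv).eq, (c4.inv_inv).eq]
    _ = a * b * (a' * b' * a⁻¹) * a'⁻¹ * b⁻¹ * b'⁻¹ := by group
    _ = a * b * (a⁻¹ * (a' * b')) * a'⁻¹ * b⁻¹ * b'⁻¹ := by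
        rw [((c3.mul_right c1).inv_left).eq]
    _ = a * b * a⁻¹ * (a' * b' * a'⁻¹ * b⁻¹) * b'⁻¹ := by group
    _ = a * b * a⁻¹ * (b⁻¹ * (a' * b' * a'⁻¹)) * b'⁻¹ := by
        rw [(((c2.mul_right c4).mul_right c2.inv_right).inv_left).eq]
    _ = a * b * a⁻¹ * b⁻¹ * (a' * b' * a'⁻¹ * b'⁻¹) := by group

theorem comm_mul (D : Diag U σ Fb j) (A B : P) :
    ⁅U A * σ (U A), U B * σ (U B)⁆ = U ⁅A, B⁆ * σ (U ⁅A, B⁆) := by
  have c1 : Commute (U A) (σ (U B)) := D.comm A B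
  have c2 : Commute (U B) (σ (U A)) := D.comm B A
  have c3 : Commute (U A) (σ (U A)) := D.comm A A
  have c4 : Commute (U B) (σ (U B)) := D.comm B B
  rw [map_commutatorElement, map_commutatorElement]
  simp only [commutatorElement_def, mul_inv_rev]
  exact comm_aux c1 c2 c3 c4

/-- the elements of `U P` fixed by `σ²` -/
theorem Fb_comm (D : Diag U σ Fb j) {A B : P} (hA : σ (σ (U A)) = U A) (hB : σ (σ (U B)) = U B) :
    Fb ⁅A, B⁆ = ⁅A, B⁆ := by
  have key : ∀ A : P, σ (σ (U A)) = U A → ∃ z ∈ center P, Fb A = A * z := by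
    intro A hA
    refine ⟨A⁻¹ * Fb A, D.ker _ ?_, by group⟩
    rw [map_mul, map_inv, ← D.sq, hA, inv_mul_cancel]
  obtain ⟨z, hz, h1⟩ := key A hA
  obtain ⟨z', hz', h2⟩ := key B hB
  rw [map_commutatorElement, h1, h2]
  simp only [commutatorElement_def, mul_inv_rev]
  have e1 := mem_center_iff.1 hz
  have e2 := mem_center_iff.1 hz'
  calc A * z * (B * z') * (z⁻¹ * A⁻¹) * (z'⁻¹ * B⁻¹)
      = A * (z * (B * z' * z⁻¹)) * A⁻¹ * (z'⁻¹ * B⁻¹) := by group
    _ = A * ((B * z' * z⁻¹) * z) * A⁻¹ * (z'⁻¹ * B⁻¹) := by rw [← e1]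
    _ = A * B * (z' * (A⁻¹ * z'⁻¹)) * B⁻¹ := by group
    _ = A * B * ((A⁻¹ * z'⁻¹) * z') * B⁻¹ := by rw [← e2]
    _ = A * B * A⁻¹ * B⁻¹ := by group

/-- **Fixed elements normalising `U P` normalise the image of `V`.** -/
theorem norm (D : Diag U σ Fb j) {t : Y} (ht : σ t = t) (hU : ∀ A, ∃ A', t * U A * t⁻¹ = U A') (C : G0) :
    ∃ C', t * V D C * t⁻¹ = V D C' := by
  have h0 : C ∈ ((V D).range.comap (MulAut.conj t).toMonoidHom).comap (V D) := by
    refine eq_top_of D.perf (fun C C' => ?_) C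
    rw [mem_comap, mem_comap]
    obtain ⟨A, hA⟩ := hU (j C)
    obtain ⟨B, hB⟩ := hU (j C')
    have key : ∀ (C : G0) (A : P), t * U (j C) * t⁻¹ = U A →
        (MulAut.conj t) (V D C) = U A * σ (U A) ∧ σ (σ (U A)) = U A := by
      intro C A hA
      constructor
      · rw [MulAut.conj_apply, V_apply, ← hA, map_mul, map_mul, map_inv, ht]
        group
      · rw [← hA]
        simp only [map_mul, map_inv, ht]
        rw [D.sq, D.fix]
    obtain ⟨h1, h2⟩ := key C A hA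
    obtain ⟨h3, h4⟩ := key C' B hB
    have h5 : (MulAut.conj t).toMonoidHom (V D ⁅C, C'⁆) = U ⁅A, B⁆ * σ (U ⁅A, B⁆) := by
      rw [map_commutatorElement, map_commutatorElement]
      show ⁅(MulAut.conj t) (V D C), (MulAut.conj t) (V D C')⁆ = _
      rw [h1, h3, comm_mul D]
    obtain ⟨C'', hC⟩ := D.surj _ (Fb_comm D h2 h4)
    rw [h5]
    exact ⟨C'', by rw [V_apply, hC]⟩
  obtain ⟨C', h1⟩ := h0
  exact ⟨C', h1.symm⟩

/-- **Fixed elements normalising `U P` and centralising the image of `V` centralise `U (j G₀)`.** -/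
theorem comm_of (D : Diag U σ Fb j) {t : Y} (ht : σ t = t) (hU : ∀ A, ∃ A', t * U A * t⁻¹ = U A')
    (h : ∀ C, t * V D C = V D C * t) (C : G0) : t * U (j C) = U (j C) * t := by
  have key : ∀ C, ∃ c, (∀ A, Commute c (U A)) ∧ (MulAut.conj t) (U (j C)) = U (j C) * c := by
    intro C
    obtain ⟨A, hA⟩ := hU (j C)
    refine ⟨(U (j C))⁻¹ * U A, fun B => ?_, by rw [MulAut.conj_apply, hA]; group⟩
    have h1 : U A * σ (U A) = U (j C) * σ (U (j C)) := by
      have h2 : t * V D C * t⁻¹ = V D C := by rw [h]; group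
      rw [V_apply] at h2
      rw [← hA]
      conv_rhs => rw [← h2]
      rw [map_mul, map_mul, map_inv, ht]
      group
    have h2 : (U (j C))⁻¹ * U A = σ (U (j C)) * (σ (U A))⁻¹ := by
      rw [inv_mul_eq_iff_eq_mul, ← mul_assoc, ← h1]
      group
    rw [h2]
    have c1 : Commute (U B) (σ (U (j C))) := D.comm B (j C)
    have c2 : Commute (U B) (σ (U A)) := D.comm B A
    exact (c1.mul_right c2.inv_right).symm
  have h0 : C ∈ ((MulAut.conj t).toMonoidHom.comp (U.comp j)).eqLocus (U.comp j) := by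
    refine eq_top_of D.perf (fun C C' => ?_) C
    show (MulAut.conj t).toMonoidHom ((U.comp j) ⁅C, C'⁆) = (U.comp j) ⁅C, C'⁆
    rw [map_commutatorElement, map_commutatorElement]
    show ⁅(MulAut.conj t) (U (j C)), (MulAut.conj t) (U (j C'))⁆ = ⁅U (j C), U (j C')⁆
    obtain ⟨c, hc, h1⟩ := key C
    obtain ⟨c', hc', h2⟩ := key C'
    have hcc : Commute c c' := by
      have e1 : c' = (U (j C'))⁻¹ * (MulAut.conj t) (U (j C')) := by rw [h2]; group
      obtain ⟨A, hA⟩ := hU (j C')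
      rw [e1, MulAut.conj_apply, hA]
      exact (hc _).inv_right.mul_right (hc _)
    rw [h1, h2]
    simp only [commutatorElement_def, mul_inv_rev]
    calc U (j C) * c * (U (j C') * c') * (c⁻¹ * (U (j C))⁻¹) * (c'⁻¹ * (U (j C'))⁻¹)
        = U (j C) * (c * (U (j C') * c')) * c⁻¹ * (U (j C))⁻¹ * (c'⁻¹ * (U (j C'))⁻¹) := by group
      _ = U (j C) * ((U (j C') * c') * c) * c⁻¹ * (U (j C))⁻¹ * (c'⁻¹ * (U (j C'))⁻¹) := by
          rw [((hc _).mul_right hcc).eq]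
      _ = U (j C) * U (j C') * (c' * (U (j C))⁻¹) * c'⁻¹ * (U (j C'))⁻¹ := by group
      _ = U (j C) * U (j C') * ((U (j C))⁻¹ * c') * c'⁻¹ * (U (j C'))⁻¹ := by rw [(hc' _).inv_right.eq]
      _ = U (j C) * U (j C') * (U (j C))⁻¹ * (U (j C'))⁻¹ := by group
  have h1 : t * U (j C) * t⁻¹ = U (j C) := h0
  rw [mul_inv_eq_iff_eq_mul] at h1
  exact h1

/-! ### the subgroup of `S` -/

section Sub

variable {ι : S →* Y} (hι : Function.Injective ι) (hfix : ∀ y, σ y = y → ∃ s, ι s = y)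

include hι hfix in
theorem exists_kappa (D : Diag U σ Fb j) : ∃ κ : G0 →* S, ∀ C, ι (κ C) = V D C := by
  choose κ hκ using fun C => hfix _ (V_fix D C)
  refine ⟨MonoidHom.mk' κ (fun C C' => hι ?_), hκ⟩
  rw [hκ, map_mul, map_mul, hκ, hκ]

include hι in
/-- **The action on `κ G₀`.** -/
theorem moves (D : Diag U σ Fb j) {κ : G0 →* S} (hκ : ∀ C, ι (κ C) = V D C) {x : S} {n : ℕ} (hn : 0 < n)
    (hx : x ^ n = 1) (ht : σ (ι x) = ι x) (hU : ∀ A, ∃ A', ι x * U A * (ι x)⁻¹ = U A')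
    (hne : ∃ C, ι x * U (j C) ≠ U (j C) * ι x) : Moves κ.range (MulAut.conj x) := by
  refine ⟨Cfsg.Agent.H897.T5Box.iff_of_pow hn (by rw [← map_pow, hx, map_one]) ?_, ?_⟩
  · rintro _ ⟨C, rfl⟩
    obtain ⟨C', hC'⟩ := norm D ht hU C
    refine ⟨C', hι ?_⟩
    rw [hκ, ← hC', MulAut.conj_apply, map_mul, map_mul, map_inv, hκ]
  · by_contra hcon
    push Not at hcon
    obtain ⟨C, hC⟩ := hne
    apply hC
    refine comm_of D ht hU (fun C => ?_) C
    have h1 := congrArg ι (hcon (κ C) ⟨C, rfl⟩)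
    rw [MulAut.conj_apply, map_mul, map_mul, map_inv, hκ, mul_inv_eq_iff_eq_mul] at h1
    exact h1

end Sub

end Cfsg.Agent.H897.T5Diag

private theorem dce_9433d60e30ff : _root_.True := by
  try have : _root_.True := by simp only [_root_.Cfsg.Agent.H897.T5Diag.V.congr_simp]
  exact _root_.True.intro
end

-- part: H897/T5Eta
section
set_option linter.all false
open scoped Cfsg.Agent.FastGrp

/-!
# The torality statement in the presence of a lattice isometry `η` (T5)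

`inner_root'` : the version of `T5Root.inner_root` for `w₁ g = ε η`.
`key_eta` : the lattice statement when `η` permutes the simple roots.
-/

set_option autoImplicit false
set_option linter.unusedSectionVars false

namespace Cfsg.Agent.H897.T5Eta

open CoxeterSystem Cfsg Cfsg.Lie Cfsg.Lie.ChevalleyDatum
open Cfsg.Agent.ChevalleyStructure Cfsg.Agent.ChevalleyStructure.Elts Cfsg.Agent.ChevalleyStructure.CoxeterGeom
  Cfsg.Agent.ChevalleyStructure.CoxeterGeomTypes Cfsg.Agent.ChevalleyStructure.NPerm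
open Cfsg.Agent.Tits.Roots Cfsg.Agent.Tits.Core Cfsg.Agent.Nodes Cfsg.Agent.Nodes.Reps Cfsg.Agent.Nodes.BNOf
  Cfsg.Agent.Nodes.RGDChev Cfsg.Agent.Nodes.Bruhat Cfsg.Agent.Nodes.SubComb Cfsg.Agent.Nodes.Coroot
  Cfsg.Agent.Nodes.Comb
open Cfsg.Agent.KFacts.RgdField Cfsg.Agent.KFacts.RgdChevCoord Cfsg.Agent.BpExc.TorCent Cfsg.Agent.BpExc.TorChev
open Cfsg.Agent.GpExc.Field Cfsg.Agent.BpExc.Tow Cfsg.Agent.BpExc.TowChev Cfsg.Agent.BpExc.Fr
  Cfsg.Agent.BpExc.LangFr Cfsg.Agent.LangThm Cfsg.Agent.BpExc Cfsg.Agent.H129.TorusChar Cfsg.Agent.H129.TorusMain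
open Cfsg.Agent.H720.TorusReal Cfsg.Agent.H897.T5Cent Cfsg.Agent.H897.T5Root
open Cfsg.Agent.ChevalleyStructure.SL2Hom (up lo mem_closure_SL2)
open Cfsg.Agent.OddHalf.LongSL.Chev (phi phi_up phi_lo)
open Cfsg.Agent.H897.T5Lat (Frm bf bf_apply)

section Chev

variable {D : ChevalleyDatum} {l : ℕ} {M : CoxeterMatrix (Fin l)} (hp : IsType D l M) {k : Type} [Field k]
  [IsAlgClosed k] {W : Type} [Group W] [Finite W] (cs : CoxeterSystem M W) (hk : LocFin k) (r : ℕ) [Fact r.Prime]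
  [CharP k r] (i0 : Fin l)

/-- The lattice statement. -/
def Key (k : Type) [Field k] (p : ℕ) (η : (Fin l → ℤ) ≃+ (Fin l → ℤ)) : Prop :=
  ∀ t ∈ TT D k, t ^ p = 1 → t ≠ 1 → (∃ u : W, ∀ x, cX hp t (rep cs hp.isCartan u (η x)) = cX hp t x) →
    ∃ (y w : W) (a : Fin l → ℤ), IsRoot cs hp.isCartan a ∧
      (∀ x, rep cs hp.isCartan w (η x) = η (rep cs hp.isCartan w x)) ∧ rep cs hp.isCartan w a = sr i0 ∧
      (∀ x, cX hp t (rep cs hp.isCartan y⁻¹ (η x)) = cX hp t (rep cs hp.isCartan y⁻¹ x)) ∧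
      cX hp t (rep cs hp.isCartan y⁻¹ a) ≠ 1

variable {p : ℕ} (hC : Con hp cs hk r p) (hpp : p.Prime) (hpr : p ≠ r)
  {e : ℕ} (he : 0 < e) {σ : MulAut ↥(D.group k)} {g : (Fin l → ℤ) ≃+ (Fin l → ℤ)} (hσ : IsFrob r e σ)
  (F : Fr cs hp.isCartan (TT D k) (XX D l k) σ g) {d : ℕ} {B : Fin l → Fin l → ℤ} (hB : InvC D l d B) (hd : d ≠ 0)
  (hZ : Subgroup.center ↥(D.group k) = ⊥) (hA : Cfsg.Agent.BpExc.TorAll.HAlg r k)

/-- powers of `p`-th roots of unity with congruent exponents -/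
theorem zpow_of_dvd {c : k} (hc : c ≠ 0) (hcp : c ^ p = 1) {a b : ℤ} (h : (p : ℤ) ∣ a - b) : c ^ a = c ^ b := by
  obtain ⟨m, hm⟩ := h
  have h1 : a = b + p * m := by linarith
  rw [h1, zpow_add₀ hc, zpow_mul, zpow_natCast c p, hcp, one_zpow, mul_one]

theorem zpow_inj_eps {ε : ℤ} (hε : ε = 1 ∨ ε = -1) {a b : k} (h : a ^ ε = b ^ ε) : a = b := by
  rcases hε with rfl | rfl
  · simpa using h
  · rw [zpow_neg_one, zpow_neg_one] at h
    exact inv_inj.1 h

include hC hpp hpr he hσ F hB hd hZ hA in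
/-- **Elements of order `p ∣ q - ε`.** -/
theorem inner_root' (hN : NSys M (TT D k) (nc hp k)) {za zb : ↥(D.group k)} (hza : za ∈ (phi hp k i0).range)
    (hzb : ∀ y ∈ (phi hp k i0).range, zb * y = y * zb) {w1 : W}
    (hn1 : Rp cs hN w1 ((za * zb)⁻¹ * σ (za * zb))) {ε : ℤ} (hε : ε = 1 ∨ ε = -1)
    {η : (Fin l → ℤ) ≃+ (Fin l → ℤ)} (hθ : ∀ x, rep cs hp.isCartan w1 (g x) = ε • η x)
    (hpe : (p : ℤ) ∣ (r : ℤ) ^ e - ε) (hkey : Key hp cs i0 k p η)
    {x : ↥(D.group k)} (hσx : σ x = x) (hxp : x ^ p = 1) (hx1 : x ≠ 1) :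
    ∃ y, σ y = y ∧ (∀ u ∈ (phi hp k i0).range, (y * x * y⁻¹) * u * (y * x * y⁻¹)⁻¹ ∈ (phi hp k i0).range) ∧
      (y * x * y⁻¹) * phi hp k i0 (up 1) ≠ phi hp k i0 (up 1) * (y * x * y⁻¹) := by
  obtain ⟨z, t, n, w, hxz, hz, hn, hnt⟩ := exists_toral hp cs hA hk F hN hσx hpp.ne_zero
    ((Nat.coprime_primes hpp Fact.out).2 hpr) hxp
  have htz : t = z⁻¹ * x * z := by rw [hxz]; group
  have htp : t ^ p = 1 := by
    have h1 : t = z⁻¹ * x * z⁻¹⁻¹ := by rw [htz, inv_inv]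
    rw [h1, conj_pow, hxp, mul_one, mul_inv_cancel]
  have ht1 : t ≠ 1 := by
    intro h0
    apply hx1
    rw [hxz, h0]; group
  have hcp : ∀ a, cX hp t a ^ p = 1 := fun a => by rw [← cX_pow hp hz, htp, cX_one]
  have hc0 : ∀ a, cX hp t a ≠ 0 := fun a => (isMC_cX hp hz).ne_zero a
  have hre : (((r ^ e : ℕ) : ℤ)) - ε = (r : ℤ) ^ e - ε := by push_cast; ring
  have hpow : ∀ a, cX hp t a ^ r ^ e = cX hp t a ^ ε := fun a => by
    rw [← zpow_natCast]
    exact zpow_of_dvd (hc0 a) (hcp a) (by rw [hre]; exact hpe)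
  -- the character of `t`
  have hu : ∃ u : W, ∀ x, cX hp t (rep cs hp.isCartan u (η x)) = cX hp t x := by
    refine ⟨w * w1⁻¹, fun a => zpow_inj_eps hε ?_⟩
    have h1 := (tau_iff hp cs hk hσ F hn hz).1 hnt a
    rw [theta_apply, hpow] at h1
    rw [← (isMC_cX hp hz).zsmul, ← map_smul, ← hθ, rep_mul_apply, rep_inv_apply]
    exact h1
  obtain ⟨y0, w', a, ha, hcomm, hwa, hfix, hta⟩ := hkey t hz htp ht1 hu
  obtain ⟨my, hmy⟩ := exists_rp (cs := cs) (hN := hN) y0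
  -- the new element of the torus
  obtain ⟨s, hs⟩ : ∃ s, s = my * t * my⁻¹ := ⟨_, rfl⟩
  have hsT : s ∈ TT D k := by rw [hs]; exact (Subgroup.mem_normalizer_iff.1 hmy.mem_normalizer t).1 hz
  have hsc : ∀ x, cX hp s x = cX hp t (rep cs hp.isCartan y0⁻¹ x) := by
    intro x
    have h1 := cX_rp hp cs hk r hmy hz (rep cs hp.isCartan y0⁻¹ x)
    have h2 : rep cs hp.isCartan y0 (rep cs hp.isCartan y0⁻¹ x) = x := by
      rw [← rep_mul_apply, mul_inv_cancel, map_one, Module.End.one_apply]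
    rw [h2, ← hs] at h1
    exact h1
  have hsp : s ^ p = 1 := by rw [hs, conj_pow, htp, mul_one, mul_inv_cancel]
  obtain ⟨z1, hz1⟩ : ∃ z1, z1 = za * zb := ⟨_, rfl⟩
  rw [← hz1] at hn1
  obtain ⟨n1, hn1'⟩ : ∃ n1, n1 = z1⁻¹ * σ z1 := ⟨_, rfl⟩
  rw [← hn1'] at hn1
  have hns : n1 * σ s * n1⁻¹ = s := by
    rw [tau_iff hp cs hk hσ F hn1 hsT]
    intro x
    rw [theta_apply, hθ, (isMC_cX hp hsT).zsmul, hsc, hsc, hfix, hpow]
  have hxs : (z * my⁻¹)⁻¹ * x * (z * my⁻¹) = s := by rw [hs, htz]; group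
  obtain ⟨z', hz'1, hz'2⟩ := star hp cs hk r hC he hσ F hB hd hn1 hσx hxs hsT hsp hns
  have hy0 : σ (z1 * z'⁻¹) = z1 * z'⁻¹ := conj_fix hz'1 hn1'.symm
  have F1 : Fr cs hp.isCartan (TT D k) (XX D l k) (MulAut.conj n1 * σ) (g.trans (repAut cs hp.isCartan w1)) :=
    (fr_conj hp cs hk r hn1).mul F
  obtain ⟨m, hm0, hm⟩ := Cfsg.Agent.H696.GmnToral.exists_fixed_rp hp cs hk (r := r) hZ he (hσ.conj_mul n1) F1
    (w := w') (fun b _ => by
      show rep cs hp.isCartan w' (rep cs hp.isCartan w1 (g b)) = rep cs hp.isCartan w1 (g (rep cs hp.isCartan w' b))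
      rw [hθ, hθ, map_smul, hcomm])
  have hmN : Rp cs hN w' m := rp_cast hp cs _ (TL_eq hp hk) hN hm0
  have hm' : n1 * σ m * n1⁻¹ = m := hm
  obtain ⟨t', ht'e⟩ : ∃ t', t' = m * s * m⁻¹ := ⟨_, rfl⟩
  have ht' : t' ∈ TT D k := by rw [ht'e]; exact (Subgroup.mem_normalizer_iff.1 hmN.mem_normalizer s).1 hsT
  have hta' : ch hp (sr i0) t' ≠ 1 := by
    rw [← cX_root hp cs ht' (isRoot_sr cs hp.isCartan i0), ← hwa, ht'e, cX_rp hp cs hk r hmN hsT, hsc]
    exact hta
  have hσz1 : σ z1 = z1 * n1 := by rw [hn1']; group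
  have hy1 : σ (z1 * m * z1⁻¹) = z1 * m * z1⁻¹ := by
    rw [map_mul, map_mul, map_inv, hσz1]
    calc z1 * n1 * σ m * (z1 * n1)⁻¹ = z1 * (n1 * σ m * n1⁻¹) * z1⁻¹ := by group
      _ = z1 * m * z1⁻¹ := by rw [hm']
  have hx : (z1 * m * z1⁻¹ * (z1 * z'⁻¹)) * x * (z1 * m * z1⁻¹ * (z1 * z'⁻¹))⁻¹ = z1 * t' * z1⁻¹ := by
    rw [ht'e, ← hz'2]; group
  refine ⟨z1 * m * z1⁻¹ * (z1 * z'⁻¹), by rw [map_mul, hy0, hy1], ?_, ?_⟩
  · intro u hu
    rw [hx]
    have h1 : za⁻¹ * u * za ∈ (phi hp k i0).range := mul_mem (mul_mem (inv_mem hza) hu) hza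
    have h2 := conj_mem hp cs hk r i0 ht' h1
    have h3 := mul_mem (mul_mem hza h2) (inv_mem hza)
    have e1 : zb⁻¹ * (za⁻¹ * u * za) * zb = za⁻¹ * u * za := by
      rw [mul_assoc, ← hzb _ h1]; group
    have e2 : zb * (t' * (za⁻¹ * u * za) * t'⁻¹) * zb⁻¹ = t' * (za⁻¹ * u * za) * t'⁻¹ := by
      rw [hzb _ h2]; group
    have e3 : z1 * t' * z1⁻¹ * u * (z1 * t' * z1⁻¹)⁻¹ = za * (t' * (za⁻¹ * u * za) * t'⁻¹) * za⁻¹ := by
      calc z1 * t' * z1⁻¹ * u * (z1 * t' * z1⁻¹)⁻¹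
          = za * (zb * (t' * (zb⁻¹ * (za⁻¹ * u * za) * zb) * t'⁻¹) * zb⁻¹) * za⁻¹ := by rw [hz1]; group
        _ = _ := by rw [e1, e2]
    rw [e3]
    exact h3
  · rw [hx]
    intro h
    have hu : phi hp k i0 (up 1) ∈ (phi hp k i0).range := ⟨_, rfl⟩
    have h1 : za⁻¹ * phi hp k i0 (up 1) * za ∈ (phi hp k i0).range := mul_mem (mul_mem (inv_mem hza) hu) hza
    apply ne_comm hp cs hk r i0 ht' hta' hza
    have e1 : zb⁻¹ * (za⁻¹ * phi hp k i0 (up 1) * za) * zb = za⁻¹ * phi hp k i0 (up 1) * za := by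
      rw [mul_assoc, ← hzb _ h1]; group
    have e2 : z1⁻¹ * phi hp k i0 (up 1) * z1 = za⁻¹ * phi hp k i0 (up 1) * za := by
      rw [← e1, hz1]; group
    rw [← e2]
    calc t' * (z1⁻¹ * phi hp k i0 (up 1) * z1) = z1⁻¹ * (z1 * t' * z1⁻¹ * phi hp k i0 (up 1)) * z1 := by group
      _ = z1⁻¹ * (phi hp k i0 (up 1) * (z1 * t' * z1⁻¹)) * z1 := by rw [h]
      _ = z1⁻¹ * phi hp k i0 (up 1) * z1 * t' := by group

/-! ### the lattice statement -/

section Lat

variable (Fm : Frm cs hp.isCartan (bf (cartanOf D l))) {η : (Fin l → ℤ) ≃+ (Fin l → ℤ)}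
  (hη : ∀ x y, bf (cartanOf D l) (η x) (η y) = bf (cartanOf D l) x y)

include Fm in
/-- the reflection in a root -/
theorem exists_refl {a : Fin l → ℤ} (ha : IsRoot cs hp.isCartan a) :
    ∃ w : W, ∀ x, rep cs hp.isCartan w x = x - bf (cartanOf D l) x a • a := by
  obtain ⟨w, i, rfl⟩ := id ha
  refine ⟨rfl' cs w i, fun x => ?_⟩
  rw [rep_rfl'_eq, Fm.cpr x _ ha]

include Fm in
theorem bf_sr_left (i : Fin l) (x : Fin l → ℤ) : bf (cartanOf D l) (sr i) x = pairing (cartanOf D l) i x := by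
  rw [bf_apply, Finset.sum_eq_single i]
  · unfold pairing
    refine Finset.sum_congr rfl fun j _ => ?_
    rw [sr_self, one_mul]
  · intro b _ hb
    refine Finset.sum_eq_zero fun c _ => ?_
    rw [sr_ne hb, zero_mul, zero_mul]
  · intro hj; exact absurd (Finset.mem_univ i) hj

include Fm hη in
/-- a reflection in an `η`-fixed root commutes with `η` -/
theorem refl_comm {a : Fin l → ℤ} (hηa : η a = a) {w : W}
    (hw : ∀ x, rep cs hp.isCartan w x = x - bf (cartanOf D l) x a • a) (x : Fin l → ℤ) :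
    rep cs hp.isCartan w (η x) = η (rep cs hp.isCartan w x) := by
  rw [hw, hw, map_sub, map_zsmul, hηa]
  congr 2
  conv_lhs => rw [← hηa]
  exact hη x a

include Fm hη in
/-- `η` normalises `W` -/
theorem exists_twist {π : Equiv.Perm (Fin l)} (hπ : ∀ j, η (sr j) = sr (π j)) (w : W) :
    ∃ w' : W, ∀ x, η (rep cs hp.isCartan w x) = rep cs hp.isCartan w' (η x) := by
  obtain ⟨ω, rfl⟩ := cs.wordProd_surjective w
  induction ω with
  | nil => exact ⟨1, fun x => by rw [wordProd_nil, map_one, Module.End.one_apply, Module.End.one_apply]⟩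
  | cons i ω ih =>
    obtain ⟨w', hw'⟩ := ih
    refine ⟨cs.simple (π i) * w', fun x => ?_⟩
    rw [wordProd_cons, rep_mul_apply, rep_mul_apply, ← hw']
    have key : ∀ z, η (rep cs hp.isCartan (cs.simple i) z) = rep cs hp.isCartan (cs.simple (π i)) (η z) := by
      intro z
      rw [rep_simple_eq, rep_simple_eq, map_sub, map_zsmul, hπ, ← bf_sr_left hp cs Fm, ← bf_sr_left hp cs Fm,
        ← hπ, hη]
    exact key _

include hk Fm hη hpp hpr hB in
/-- **The lattice statement for diagram automorphisms.** -/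
theorem key_eta (hpd : d.Coprime p) {π : Equiv.Perm (Fin l)} (hπ : ∀ j, η (sr j) = sr (π j))
    {R0 : List (Fin l → ℤ)}
    (h0 : ∀ μ, η μ = μ → (∀ a ∈ R0, (p : ℤ) ∣ bf (cartanOf D l) μ a) → ∀ j, (p : ℤ) ∣ bf (cartanOf D l) μ (sr j))
    (hR0 : ∀ a ∈ R0, IsRoot cs hp.isCartan a ∧ η a = a ∧ (a = sr i0 ∨ bf (cartanOf D l) a (sr i0) = -1))
    (hi0 : η (sr i0) = sr i0) : Key hp cs i0 k p η := by
  intro t ht htp ht1 ⟨u, hu⟩
  obtain ⟨ζ, hζ⟩ := exists_prim (k := k) r hpp hpr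
  obtain ⟨μ, hμ⟩ := exists_mu hp hpp hB hpd hζ ht htp
  have hζ0 : ζ ≠ 0 := hζ.ne_zero hpp.ne_zero
  have hiso : ∀ x y, bf (cartanOf D l) ((η.trans (repAut cs hp.isCartan u)) x)
      ((η.trans (repAut cs hp.isCartan u)) y) = bf (cartanOf D l) x y := by
    intro x y
    show bf (cartanOf D l) (rep cs hp.isCartan u (η x)) (rep cs hp.isCartan u (η y)) = _
    rw [Fm.inv, hη]
  obtain ⟨l0, hl0⟩ := fix_class hp cs hB hpd Fm hζ hpp.ne_zero hμ (θ := η.trans (repAut cs hp.isCartan u)) hiso hu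
  obtain ⟨l1, -, v, -, hv⟩ := T5Lat.exists_fix Fm hpp.pos (θ := η.trans (repAut cs hp.isCartan u))
    (fun x => hiso x x) (fun x l => ⟨(η.trans (repAut cs hp.isCartan u)) l, by rw [map_sub, map_zsmul]⟩)
    (fun x l => ⟨(η.trans (repAut cs hp.isCartan u)).symm l, AddEquiv.apply_symm_apply _ _, by
      rw [map_sub, map_zsmul, AddEquiv.apply_symm_apply]⟩) hl0
  obtain ⟨μ', hμ'⟩ : ∃ μ', μ' = μ - (p : ℤ) • l1 := ⟨_, rfl⟩
  rw [← hμ'] at hv
  have hv' : rep cs hp.isCartan (v * u) (η μ') = μ' := by rw [rep_mul_apply]; exact hv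
  have hc : ∀ x, cX hp t x = ζ ^ (bf (cartanOf D l) μ' x) := by
    intro x
    rw [hμ, hμ', map_sub, map_smul, LinearMap.sub_apply, LinearMap.smul_apply, smul_eq_mul, zpow_sub₀ hζ0,
      zpow_mul, zpow_natCast, hζ.pow_eq_one, one_zpow, div_one]
  -- the dominant vector
  obtain ⟨y, hy⟩ := exists_dom_rep cs hp.isCartan μ'
  obtain ⟨ν, hν⟩ : ∃ ν, ν = rep cs hp.isCartan y μ' := ⟨_, rfl⟩
  rw [← hν] at hy
  have hyc : ∀ x, cX hp t (rep cs hp.isCartan y⁻¹ x) = ζ ^ (bf (cartanOf D l) ν x) := by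
    intro x
    rw [hc, hν, ← Fm.inv y μ']
    congr 2
    rw [← rep_mul_apply, mul_inv_cancel, map_one, Module.End.one_apply]
  have hην : η ν = ν := by
    obtain ⟨y', hy'⟩ := exists_twist hp cs Fm hη hπ y
    have h1 : η μ' = rep cs hp.isCartan (v * u)⁻¹ μ' := by
      conv_rhs => rw [← hv']
      rw [rep_inv_apply]
    have h2 : μ' = rep cs hp.isCartan y⁻¹ ν := by rw [hν, rep_inv_apply]
    have h3 : η ν = rep cs hp.isCartan (y' * (v * u)⁻¹ * y⁻¹) ν := by
      rw [hν, hy', h1, ← hν]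
      conv_lhs => rw [h2]
      rw [rep_mul_apply, rep_mul_apply]
    rw [h3]
    refine Cfsg.Agent.Nodes.BlockRoots.eq_of_dom cs hp.isCartan hy ?_
    rw [← h3]
    intro i
    have h4 : sr i = η (sr (π.symm i)) := by rw [hπ, Equiv.apply_symm_apply]
    rw [← bf_sr_left hp cs Fm, h4, hη, bf_sr_left hp cs Fm]
    exact hy _
  -- the root
  obtain ⟨a, haR, hap⟩ : ∃ a ∈ R0, ¬ (p : ℤ) ∣ bf (cartanOf D l) ν a := by
    by_contra hcon
    push Not at hcon
    apply ht1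
    have h1 := h0 ν hην hcon
    have h2 : ∀ x, cX hp t (rep cs hp.isCartan y⁻¹ x) = 1 := by
      intro x
      rw [hyc]
      have h3 : (p : ℤ) ∣ bf (cartanOf D l) ν x := by
        have h4 : bf (cartanOf D l) ν x = ∑ j, x j * bf (cartanOf D l) ν (sr j) := by
          have h5 : x = ∑ j, x j • (sr j : Fin l → ℤ) := by
            funext i
            rw [Finset.sum_apply, Finset.sum_eq_single i]
            · rw [Pi.smul_apply, sr_self, smul_eq_mul, mul_one]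
            · intro b _ hb
              rw [Pi.smul_apply, sr_ne (Ne.symm hb), smul_zero]
            · intro hj; exact absurd (Finset.mem_univ i) hj
          conv_lhs => rw [h5]
          rw [map_sum]
          refine Finset.sum_congr rfl fun j _ => ?_
          rw [map_smul, smul_eq_mul]
        rw [h4]
        exact Finset.dvd_sum fun j _ => Dvd.dvd.mul_left (h1 j) _
      obtain ⟨m, hm⟩ := h3
      rw [hm, zpow_mul, zpow_natCast, hζ.pow_eq_one, one_zpow]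
    refine cX_inj hp ht (one_mem _) fun i => ?_
    rw [cX_one]
    have h3 := h2 (rep cs hp.isCartan y (sr i))
    rwa [rep_inv_apply] at h3
  obtain ⟨har, hηa, ha⟩ := hR0 a haR
  have hta : cX hp t (rep cs hp.isCartan y⁻¹ a) ≠ 1 := by
    rw [hyc, Ne, hζ.zpow_eq_one_iff_dvd]
    exact hap
  have hyη : ∀ x, cX hp t (rep cs hp.isCartan y⁻¹ (η x)) = cX hp t (rep cs hp.isCartan y⁻¹ x) := by
    intro x
    rw [hyc, hyc]
    congr 1
    conv_lhs => rw [← hην]
    exact hη ν x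
  rcases ha with ha | ha
  · exact ⟨y, 1, a, har, fun x => by rw [map_one]; rfl, by rw [map_one]; exact ha, hyη, hta⟩
  · obtain ⟨wa, hwa⟩ := exists_refl hp cs Fm har
    obtain ⟨wb, hwb⟩ := exists_refl hp cs Fm (isRoot_sr cs hp.isCartan i0)
    refine ⟨y, wa * wb, a, har, fun x => ?_, ?_, hyη, hta⟩
    · rw [rep_mul_apply, rep_mul_apply, refl_comm hp cs Fm hη hi0 hwb, refl_comm hp cs Fm hη hηa hwa]
    · rw [rep_mul_apply, hwb, ha, hwa]
      have h1 : bf (cartanOf D l) (a - (-1 : ℤ) • sr i0) a = 1 := by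
        rw [map_sub, map_smul, LinearMap.sub_apply, LinearMap.smul_apply, Fm.self har, Fm.symm (sr i0) a, ha]
        norm_num
      rw [h1, one_smul, neg_one_zsmul]
      abel

end Lat

end Chev

end Cfsg.Agent.H897.T5Eta
end

-- part: H897/T5Lat8
section
set_option linter.all false
open scoped Cfsg.Agent.FastGrp

/-!
# Elements of order `5` of `E₈(q)`, `5 ∣ q² + 1`: the lattice statement (T5)

The classes modulo `5` of the lattice `E₈` on which some element of `W` acts as a square root of `-1` are represented by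
`0`, `ω₁ + ω₈` (norm `10`) and `ω₅` (norm `20`), up to `W`.
-/

set_option autoImplicit false
set_option linter.unusedSectionVars false

namespace Cfsg.Agent.H897.T5Lat8

open CoxeterSystem Cfsg Cfsg.Lie Cfsg.Lie.ChevalleyDatum
open Cfsg.Agent.ChevalleyStructure Cfsg.Agent.ChevalleyStructure.Elts Cfsg.Agent.ChevalleyStructure.CoxeterGeom
  Cfsg.Agent.ChevalleyStructure.CoxeterGeomTypes Cfsg.Agent.ChevalleyStructure.NPerm
open Cfsg.Agent.Tits.Roots Cfsg.Agent.Tits.Core Cfsg.Agent.Nodes Cfsg.Agent.Nodes.Reps Cfsg.Agent.Nodes.BNOf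
  Cfsg.Agent.Nodes.RGDChev Cfsg.Agent.Nodes.Bruhat Cfsg.Agent.Nodes.SubComb Cfsg.Agent.Nodes.Coroot
  Cfsg.Agent.Nodes.Comb
open Cfsg.Agent.KFacts.RgdField Cfsg.Agent.KFacts.RgdChevCoord Cfsg.Agent.BpExc.TorCent Cfsg.Agent.BpExc.TorChev
open Cfsg.Agent.GpExc.Field Cfsg.Agent.BpExc.Tow Cfsg.Agent.BpExc.TowChev Cfsg.Agent.BpExc.Fr
  Cfsg.Agent.BpExc.LangFr Cfsg.Agent.LangThm Cfsg.Agent.BpExc Cfsg.Agent.H129.TorusMain
open Cfsg.Agent.H129.TorusChar (cX cX_pow cX_one cX_inj isMC_cX)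
open Cfsg.Agent.H720.TorusReal Cfsg.Agent.H897.T5Cent Cfsg.Agent.H897.T5Root
open Cfsg.Agent.H897.T5Lat (Frm bf bf_apply Min exists_min Min.le)
open Cfsg.Agent.H897.T5Frame (bc rc bf_eq)
open Cfsg.Agent.H897.T5UntwRow (A8)

/-! ### linear algebra -/

section Lin

variable {l : ℕ} {A : Fin l → Fin l → ℤ}

theorem sum_sr {l : ℕ} (x : Fin l → ℤ) : x = ∑ j, x j • (sr j : Fin l → ℤ) := by
  funext i
  rw [Finset.sum_apply, Finset.sum_eq_single i]
  · rw [Pi.smul_apply, sr_self, smul_eq_mul, mul_one]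
  · intro b _ hb
    rw [Pi.smul_apply, sr_ne (Ne.symm hb), smul_zero]
  · intro hj; exact absurd (Finset.mem_univ i) hj

theorem bf_sum (ν x : Fin l → ℤ) : bf A ν x = ∑ j, x j * bf A ν (sr j) := by
  conv_lhs => rw [sum_sr x]
  rw [map_sum]
  exact Finset.sum_congr rfl fun j _ => by rw [map_smul, smul_eq_mul]

variable {I W : Type*} [Fintype I] [DecidableEq I] [Group W] [Finite W] {M : CoxeterMatrix I}

/-- vectors with the same pairings with the simple roots -/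
theorem eq_of_bf {W : Type*} [Group W] [Finite W] {M : CoxeterMatrix (Fin l)} {cs : CoxeterSystem M W} {A : Fin l → Fin l → ℤ}
    {h : IsCartan M A} (F : Frm cs h (bf A)) {ν V : Fin l → ℤ} (h1 : ∀ j, bf A ν (sr j) = bf A V (sr j)) : ν = V := by
  have h2 : bf A (ν - V) (ν - V) = 0 := by
    rw [bf_sum]
    refine Finset.sum_eq_zero fun j _ => ?_
    rw [map_sub, LinearMap.sub_apply, h1, sub_self, mul_zero]
  exact sub_eq_zero.1 (F.eq_zero h2.le)

end Lin

/-- the inverse of the Cartan matrix -/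
def C8 : Fin 8 → Fin 8 → ℤ := ![![4, 5, 7, 10, 8, 6, 4, 2], ![5, 8, 10, 15, 12, 9, 6, 3],
  ![7, 10, 14, 20, 16, 12, 8, 4], ![10, 15, 20, 30, 24, 18, 12, 6], ![8, 12, 16, 24, 20, 15, 10, 5],
  ![6, 9, 12, 18, 15, 12, 8, 4], ![4, 6, 8, 12, 10, 8, 6, 3], ![2, 3, 4, 6, 5, 4, 3, 2]]

/-- the vector with the pairings `m` -/
def cm (m : Fin 8 → ℤ) : Fin 8 → ℤ := fun i => ∑ j, C8 i j * m j

/-- `ω₁ + ω₈` -/
def V1 : Fin 8 → ℤ := ![6, 8, 11, 16, 13, 10, 7, 4]

/-- `ω₅` -/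
def V2 : Fin 8 → ℤ := ![8, 12, 16, 24, 20, 15, 10, 5]

/-- the highest root -/
def th : Fin 8 → ℤ := ![2, 3, 4, 6, 5, 4, 3, 2]

/-- the finite check -/
theorem fin8 : ∀ (a h : Fin 3) (b c e f g : Fin 2),
    2 * (a : ℕ) + 3 * (b : ℕ) + 4 * (c : ℕ) + 5 * (e : ℕ) + 4 * (f : ℕ) + 3 * (g : ℕ) + 2 * (h : ℕ) ≤ 5 →
    let m : Fin 8 → ℤ := ![((a : ℕ) : ℤ), ((b : ℕ) : ℤ), ((c : ℕ) : ℤ), 0, ((e : ℕ) : ℤ), ((f : ℕ) : ℤ),
      ((g : ℕ) : ℤ), ((h : ℕ) : ℤ)]
    (∀ j, bc A8 (cm m) (sr j) = m j) ∧ (bc A8 (cm m) (cm m) % 5 = 0 → (∀ j, m j = 0) ∨ cm m = V1 ∨ cm m = V2) := by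
  decide +kernel

/-- **The dominant vectors.** -/
theorem dom8 {W : Type*} [Group W] [Finite W] {M : CoxeterMatrix (Fin 8)} {cs : CoxeterSystem M W}
    {A : Fin 8 → Fin 8 → ℤ} {h : IsCartan M A} (F : Frm cs h (bf A)) (hbc : ∀ x y, bf A x y = bc A8 x y)
    {ν : Fin 8 → ℤ} (h0 : ∀ j, 0 ≤ bf A ν (sr j)) (hth : bf A ν th ≤ 5) (h5 : (5 : ℤ) ∣ bf A ν ν) :
    ν = 0 ∨ ν = V1 ∨ ν = V2 := by
  obtain ⟨m, hm⟩ : ∃ m : Fin 8 → ℤ, ∀ j, bf A ν (sr j) = m j := ⟨_, fun _ => rfl⟩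
  have h1 : 2 * m 0 + 3 * m 1 + 4 * m 2 + 6 * m 3 + 5 * m 4 + 4 * m 5 + 3 * m 6 + 2 * m 7 ≤ 5 := by
    rw [bf_sum] at hth
    simp only [hm] at hth
    rw [Fin.sum_univ_eight] at hth
    exact hth
  have h2 : ∀ j, 0 ≤ m j := fun j => by rw [← hm]; exact h0 j
  have b0 := h2 0
  have b1 := h2 1
  have b2 := h2 2
  have b3 := h2 3
  have b4 := h2 4
  have b5 := h2 5
  have b6 := h2 6
  have b7 := h2 7
  have e3 : m 3 = 0 := by omega
  obtain ⟨a, ha⟩ : ∃ a : Fin 3, ((a : ℕ) : ℤ) = m 0 := ⟨⟨(m 0).toNat, by omega⟩, by simp only; omega⟩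
  obtain ⟨z, hz⟩ : ∃ a : Fin 3, ((a : ℕ) : ℤ) = m 7 := ⟨⟨(m 7).toNat, by omega⟩, by simp only; omega⟩
  obtain ⟨b, hb⟩ : ∃ a : Fin 2, ((a : ℕ) : ℤ) = m 1 := ⟨⟨(m 1).toNat, by omega⟩, by simp only; omega⟩
  obtain ⟨c, hc⟩ : ∃ a : Fin 2, ((a : ℕ) : ℤ) = m 2 := ⟨⟨(m 2).toNat, by omega⟩, by simp only; omega⟩
  obtain ⟨e, he⟩ : ∃ a : Fin 2, ((a : ℕ) : ℤ) = m 4 := ⟨⟨(m 4).toNat, by omega⟩, by simp only; omega⟩
  obtain ⟨f, hf⟩ : ∃ a : Fin 2, ((a : ℕ) : ℤ) = m 5 := ⟨⟨(m 5).toNat, by omega⟩, by simp only; omega⟩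
  obtain ⟨g, hg⟩ : ∃ a : Fin 2, ((a : ℕ) : ℤ) = m 6 := ⟨⟨(m 6).toNat, by omega⟩, by simp only; omega⟩
  have hmm : m = ![((a : ℕ) : ℤ), ((b : ℕ) : ℤ), ((c : ℕ) : ℤ), 0, ((e : ℕ) : ℤ), ((f : ℕ) : ℤ),
      ((g : ℕ) : ℤ), ((z : ℕ) : ℤ)] := by
    rw [ha, hb, hc, he, hf, hg, hz]
    funext j
    fin_cases j
    · rfl
    · rfl
    · rfl
    · exact e3
    · rfl
    · rfl
    · rfl
    · rfl
  have h3 := fin8 a z b c e f g (by omega)
  simp only [← hmm] at h3
  obtain ⟨h4, h6⟩ := h3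
  have h7 : ν = cm m := eq_of_bf F fun j => by rw [hm, hbc, h4]
  rcases h6 (by rw [← h7, ← hbc]; exact Int.emod_eq_zero_of_dvd h5) with h8 | h8 | h8
  · left
    rw [h7]
    funext i
    exact Finset.sum_eq_zero fun j _ => by rw [h8, mul_zero]
  · exact Or.inr (Or.inl (h7.trans h8))
  · exact Or.inr (Or.inr (h7.trans h8))

section Chev

variable {M : CoxeterMatrix (Fin 8)} (hp : IsType chevE8 8 M) {k : Type} [Field k]
  [IsAlgClosed k] {W : Type} [Group W] [Finite W] (cs : CoxeterSystem M W) (hk : LocFin k) (r : ℕ) [Fact r.Prime]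
  [CharP k r]

include hk in
/-- **The lattice statement.** -/
theorem class8 (F : Frm cs hp.isCartan (bf (cartanOf chevE8 8))) (hr5 : 5 ≠ r)
    {B : Fin 8 → Fin 8 → ℤ} (hB : H129.TorusChar.InvC chevE8 8 1 B)
    (hA : ∀ i j, cartanOf chevE8 8 i j = A8 i j) (hθ : ∃ q < chevE8.nroots, vec chevE8 8 q = th)
    {t : ↥(chevE8.group k)} (ht : t ∈ TT chevE8 k) (htp : t ^ 5 = 1) (ht1 : t ≠ 1) {Q : ℕ} (hQ : 5 ∣ Q ^ 2 + 1)
    (hw : ∃ w : W, ∀ x, cX hp t (rep cs hp.isCartan w x) = cX hp t x ^ Q) :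
    ∃ (ζ : k) (_ : IsPrimitiveRoot ζ 5) (u : W) (V : Fin 8 → ℤ), (V = V1 ∨ V = V2) ∧
      ∀ x, cX hp t (rep cs hp.isCartan u⁻¹ x) = ζ ^ bf (cartanOf chevE8 8) V x := by
  have h5p : Nat.Prime 5 := by norm_num
  obtain ⟨ζ, hζ⟩ := exists_prim (k := k) r h5p hr5
  obtain ⟨μ, hμ⟩ := exists_mu hp h5p hB (Nat.coprime_one_left _) hζ ht htp
  have hζ0 : ζ ≠ 0 := hζ.ne_zero h5p.ne_zero
  obtain ⟨l1, hl1⟩ := exists_min F 5 μ
  obtain ⟨μ', hμ'⟩ : ∃ μ', μ' = μ - ((5 : ℕ) : ℤ) • l1 := ⟨_, rfl⟩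
  rw [← hμ'] at hl1
  have hc : ∀ x, cX hp t x = ζ ^ (bf (cartanOf chevE8 8) μ' x) := by
    intro x
    rw [hμ, hμ', map_sub, map_smul, LinearMap.sub_apply, LinearMap.smul_apply, smul_eq_mul, zpow_sub₀ hζ0,
      zpow_mul, zpow_natCast ζ 5, hζ.pow_eq_one, one_zpow, div_one]
  obtain ⟨w, hw⟩ := hw
  have hwd : ∀ x, (5 : ℤ) ∣ bf (cartanOf chevE8 8) μ' (rep cs hp.isCartan w x) - Q * bf (cartanOf chevE8 8) μ' x := by
    intro x
    have h1 := hw x
    rw [hc, hc, ← zpow_natCast, ← zpow_mul] at h1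
    have h2 := dvd_sub_of_zpow hζ h5p.ne_zero h1
    rw [mul_comm (Q : ℤ)]
    exact h2
  have hnorm : (5 : ℤ) ∣ bf (cartanOf chevE8 8) μ' μ' := by
    have h1 := hwd μ'
    have h2 := hwd (rep cs hp.isCartan w⁻¹ μ')
    have h3 : rep cs hp.isCartan w (rep cs hp.isCartan w⁻¹ μ') = μ' := by
      rw [← rep_mul_apply, mul_inv_cancel, map_one, Module.End.one_apply]
    have h4 : bf (cartanOf chevE8 8) μ' (rep cs hp.isCartan w⁻¹ μ') =
        bf (cartanOf chevE8 8) μ' (rep cs hp.isCartan w μ') := by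
      rw [← F.inv w μ' (rep cs hp.isCartan w⁻¹ μ'), h3, F.symm]
    rw [h3, h4] at h2
    obtain ⟨c1, hc1⟩ := h1
    obtain ⟨c2, hc2⟩ := h2
    obtain ⟨c3, hc3⟩ := hQ
    have hc3' : (Q : ℤ) ^ 2 + 1 = 5 * c3 := by exact_mod_cast hc3
    refine ⟨c3 * bf (cartanOf chevE8 8) μ' μ' * 3 + 3 * c2 + 3 * Q * c1 - bf (cartanOf chevE8 8) μ' μ', ?_⟩
    linear_combination 3 * hc2 + 3 * (Q : ℤ) * hc1 + 3 * bf (cartanOf chevE8 8) μ' μ' * hc3'
  obtain ⟨y, hy⟩ := exists_dom_rep cs hp.isCartan μ'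
  obtain ⟨ν, hν⟩ : ∃ ν, ν = rep cs hp.isCartan y μ' := ⟨_, rfl⟩
  rw [← hν] at hy
  have hyc : ∀ x, cX hp t (rep cs hp.isCartan y⁻¹ x) = ζ ^ (bf (cartanOf chevE8 8) ν x) := by
    intro x
    rw [hc, hν, ← F.inv y μ']
    congr 2
    rw [← rep_mul_apply, mul_inv_cancel, map_one, Module.End.one_apply]
  have hdom : ∀ j, 0 ≤ bf (cartanOf chevE8 8) ν (sr j) := by
    intro j
    rw [F.symm, T5Eta.bf_sr_left hp cs F]
    exact hy j
  have hle : bf (cartanOf chevE8 8) ν th ≤ 5 := by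
    have h1 : IsRoot cs hp.isCartan th := (isRoot_iff hp cs _).2 hθ
    have h2 := Min.le F (by norm_num) hl1 (h1.act y⁻¹)
    rw [← F.inv y, ← hν, ← rep_mul_apply, mul_inv_cancel, map_one, Module.End.one_apply] at h2
    exact h2
  rcases dom8 F (bf_eq hA) hdom hle (by rw [hν, F.inv]; exact hnorm) with h0 | h0 | h0
  · exfalso
    apply ht1
    refine cX_inj hp ht (one_mem _) fun i => ?_
    rw [cX_one]
    have h3 := hyc (rep cs hp.isCartan y (sr i))
    rw [rep_inv_apply, h0, map_zero, LinearMap.zero_apply, zpow_zero] at h3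
    exact h3
  · exact ⟨ζ, hζ, y, V1, Or.inl rfl, by rw [← h0]; exact hyc⟩
  · exact ⟨ζ, hζ, y, V2, Or.inr rfl, by rw [← h0]; exact hyc⟩

end Chev

end Cfsg.Agent.H897.T5Lat8
end

-- part: H897/T5Tau
section
set_option linter.all false
open scoped Cfsg.Agent.FastGrp

/-!
# Frobenius maps on a root `SL₂` (T5)

`exists_frame_tau` : if `τ` is a Frobenius map of `Y` preserving `⟨X_α, X_{-α}⟩`, then `τ (y φ(A) y⁻¹) = y φ(Fr A) y⁻¹`
for some `y` in this group.
-/

set_option autoImplicit false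
set_option linter.unusedSectionVars false

namespace Cfsg.Agent.H897.T5Tau

open CoxeterSystem Cfsg Cfsg.Lie Cfsg.Lie.ChevalleyDatum
open Cfsg.Agent.ChevalleyStructure Cfsg.Agent.ChevalleyStructure.Elts Cfsg.Agent.ChevalleyStructure.CoxeterGeom
  Cfsg.Agent.ChevalleyStructure.CoxeterGeomTypes Cfsg.Agent.ChevalleyStructure.NPerm
open Cfsg.Agent.Tits.Roots Cfsg.Agent.Tits.Core Cfsg.Agent.Nodes Cfsg.Agent.Nodes.Reps Cfsg.Agent.Nodes.BNOf
  Cfsg.Agent.Nodes.RGDChev Cfsg.Agent.Nodes.Bruhat Cfsg.Agent.Nodes.SubComb Cfsg.Agent.Nodes.Coroot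
open Cfsg.Agent.KFacts.RgdField Cfsg.Agent.KFacts.RgdChevCoord Cfsg.Agent.BpExc.TorCent Cfsg.Agent.BpExc.TorChev
open Cfsg.Agent.GpExc.Field Cfsg.Agent.BpExc.Tow Cfsg.Agent.BpExc.TowChev Cfsg.Agent.BpExc.Fr
  Cfsg.Agent.BpExc.LangFr Cfsg.Agent.LangThm Cfsg.Agent.BpExc Cfsg.Agent.H129.TorusMain
open Cfsg.Agent.H720.TorusReal Cfsg.Agent.H897.T5Cent Cfsg.Agent.H897.T5Root Cfsg.Agent.H897.T5Frame
  Cfsg.Agent.H897.T5Fam
open Cfsg.Agent.ChevalleyStructure.SL2Hom (up lo mem_closure_SL2)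
open Cfsg.Agent.OddHalf.LongSL.Chev (phi phi_up phi_lo)
open Cfsg.Agent.H378.TorFin (frobHom frobHom_apply)
open Cfsg.Agent.H897.T5Lat (Frm bf bf_apply)
open Matrix (SpecialLinearGroup)

/-! ### `SL₂` -/

section SL

variable {k : Type} [Field k]

theorem weyl_rel : (up (1 : k) * lo (-1) * up 1) * up 1 = lo (-1) * (up (1 : k) * lo (-1) * up 1) := by
  apply Subtype.ext
  show !![(1 : k), 1; 0, 1] * !![(1 : k), 0; -1, 1] * !![(1 : k), 1; 0, 1] * !![(1 : k), 1; 0, 1] =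
    !![(1 : k), 0; -1, 1] * (!![(1 : k), 1; 0, 1] * !![(1 : k), 0; -1, 1] * !![(1 : k), 1; 0, 1])
  ext i j
  fin_cases i <;> fin_cases j <;> simp [Matrix.mul_apply, Fin.sum_univ_two]

/-- the constants of a homomorphism -/
theorem const_eq {c d : k} (h : (up c * lo (-d) * up c) * up c = lo (-d) * (up c * lo (-d) * up c) ∨
    (up c * lo (-d) * up c) * up c = -(lo (-d) * (up c * lo (-d) * up c))) (hd : d ≠ 0) : c * d = 1 := by
  have e1 : ((up c * lo (-d) * up c) * up c).1 =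
      !![1 - c * d, c * (1 - c * d) + c * (2 - c * d); -d, 1 - c * d - c * d] := by
    show !![(1 : k), c; 0, 1] * !![(1 : k), 0; -d, 1] * !![(1 : k), c; 0, 1] * !![(1 : k), c; 0, 1] = _
    ext i j
    fin_cases i <;> fin_cases j <;> simp [Matrix.mul_apply, Fin.sum_univ_two] <;> ring
  have e2 : (lo (-d) * (up c * lo (-d) * up c)).1 =
      !![1 - c * d, c * (2 - c * d); -d * (1 - c * d) - d, -c * d * (2 - c * d) + 1 - c * d] := by
    show !![(1 : k), 0; -d, 1] * (!![(1 : k), c; 0, 1] * !![(1 : k), 0; -d, 1] * !![(1 : k), c; 0, 1]) = _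
    ext i j
    fin_cases i <;> fin_cases j <;> simp [Matrix.mul_apply, Fin.sum_univ_two] <;> ring
  rcases h with h | h
  · have h1 := congrArg (fun A : SpecialLinearGroup (Fin 2) k => A.1 1 0) h
    simp only [e1, e2] at h1
    have h2 : -d = -d * (1 - c * d) - d := by simpa using h1
    have h3 : d * (1 - c * d) = 0 := by linear_combination h2
    have h4 := (mul_eq_zero.1 h3).resolve_left hd
    linear_combination -h4
  · have h1 := congrArg (fun A : SpecialLinearGroup (Fin 2) k => A.1 1 0) h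
    have h2 := congrArg (fun A : SpecialLinearGroup (Fin 2) k => A.1 0 0) h
    simp only [e1, e2, Matrix.SpecialLinearGroup.coe_neg, Matrix.neg_apply] at h1 h2
    have h1' : -d = -(-d * (1 - c * d) - d) := by simpa using h1
    have h2' : 1 - c * d = -(1 - c * d) := by simpa using h2
    have h3 : d * (3 - c * d) = 0 := by linear_combination -h1'
    have h4 := (mul_eq_zero.1 h3).resolve_left hd
    have h5 : (2 : k) * (1 - c * d) = 0 := by linear_combination h2'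
    rcases mul_eq_zero.1 h5 with h6 | h6
    · linear_combination h6 - h4
    · linear_combination -h6

/-- the diagonal matrices -/
def dg (s : k) (hs : s ≠ 0) : SpecialLinearGroup (Fin 2) k :=
  ⟨!![s, 0; 0, s⁻¹], by rw [Matrix.det_fin_two_of, mul_inv_cancel₀ hs]; ring⟩

theorem dg_conj (s : k) (hs : s ≠ 0) (hc : s ^ 2 ≠ 0) (A : SpecialLinearGroup (Fin 2) k) :
    dg s hs * A * (dg s hs)⁻¹ = dc (s ^ 2) hc A := by
  rw [mul_inv_eq_iff_eq_mul]
  apply Subtype.ext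
  rw [Matrix.SpecialLinearGroup.coe_mul, Matrix.SpecialLinearGroup.coe_mul, dc_apply]
  show !![s, 0; 0, s⁻¹] * A.1 = !![A.1 0 0, s ^ 2 * A.1 0 1; (s ^ 2)⁻¹ * A.1 1 0, A.1 1 1] * !![s, 0; 0, s⁻¹]
  ext i j
  fin_cases i <;> fin_cases j <;> simp [Matrix.mul_apply, Fin.sum_univ_two] <;> field_simp

end SL

/-! ### the root group -/

section Chev

variable {D : ChevalleyDatum} {l : ℕ} {M : CoxeterMatrix (Fin l)} (hp : IsType D l M) {k : Type} [Field k]
  [IsAlgClosed k] {W : Type} [Group W] [Finite W] (cs : CoxeterSystem M W) (hk : LocFin k) (r : ℕ) [Fact r.Prime]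
  [CharP k r] (i0 : Fin l)

include cs hk r in
theorem range_eq : (phi hp k i0).range = RGD.Sup (XX D l k) {a | a = sr i0 ∨ a = -sr i0} := by
  have C := coordsL hp cs hk r
  refine le_antisymm ?_ (Sup_le_range hp cs hk r i0)
  have h1 : (⊤ : Subgroup (SpecialLinearGroup (Fin 2) k)) ≤
      (RGD.Sup (XX D l k) {a | a = sr i0 ∨ a = -sr i0}).comap (phi hp k i0) := by
    have h3 : Subgroup.closure (Set.range (up (F := k)) ∪ Set.range (lo (F := k))) ≤
        (RGD.Sup (XX D l k) {a | a = sr i0 ∨ a = -sr i0}).comap (phi hp k i0) := by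
      rw [Subgroup.closure_le]
      rintro _ (⟨a, rfl⟩ | ⟨a, rfl⟩)
      · show phi hp k i0 (up a) ∈ RGD.Sup (XX D l k) {a | a = sr i0 ∨ a = -sr i0}
        rw [phi_up']
        exact RGD.le_Sup (S := {a | a = sr i0 ∨ a = -sr i0}) (Or.inl rfl)
          (((C.coord _ (isRoot_sr cs hp.isCartan i0)).mem _).2 ⟨a, rfl⟩)
      · show phi hp k i0 (lo a) ∈ RGD.Sup (XX D l k) {a | a = sr i0 ∨ a = -sr i0}
        rw [phi_lo']
        exact RGD.le_Sup (S := {a | a = sr i0 ∨ a = -sr i0}) (Or.inr rfl)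
          (((C.coord _ (isRoot_sr cs hp.isCartan i0).neg).mem _).2 ⟨a, rfl⟩)
    exact fun A _ => h3 (mem_closure_SL2 A)
  rintro _ ⟨A, rfl⟩
  exact h1 (Subgroup.mem_top A)

variable {E : ℕ} {τ : MulAut ↥(D.group k)} {g : (Fin l → ℤ) ≃+ (Fin l → ℤ)} (hτ : IsFrob r E τ)
  (F : Fr cs hp.isCartan (TT D k) (XX D l k) τ g)

include cs hk hτ F in
/-- the case `g α = α` -/
theorem act_pos (hg : g (sr i0) = sr i0) : ∃ c0 ∈ (phi hp k i0).range, ∀ A,
    τ (phi hp k i0 A) = c0 * phi hp k i0 (SpecialLinearGroup.map (frobHom k r E) A) * c0⁻¹ := by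
  have hr := isRoot_sr cs hp.isCartan i0
  obtain ⟨c, hc, h1⟩ := HX.fr_xc hp cs hτ F hr
  obtain ⟨d, hd, h2⟩ := HX.fr_xc hp cs hτ F hr.neg
  rw [hg] at h1
  rw [map_neg, hg] at h2
  have h1' : ∀ t, τ (phi hp k i0 (up t)) = phi hp k i0 (up (c * t ^ r ^ E)) := fun t => by
    rw [phi_up', h1, phi_up']
  have h2' : ∀ t, τ (phi hp k i0 (lo t)) = phi hp k i0 (lo (d * t ^ r ^ E)) := fun t => by
    rw [phi_lo', h2, phi_lo']
  have hneg : (-1 : k) ^ r ^ E = -1 := by
    rw [← frobHom_apply, map_neg, map_one]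
  have hcd : c * d = 1 := by
    refine const_eq ?_ hd
    have h3 := congrArg (fun A => τ (phi hp k i0 A)) (weyl_rel (k := k))
    simp only [map_mul, h1', h2', hneg, one_pow, mul_one, mul_neg] at h3
    rw [← map_mul, ← map_mul, ← map_mul, ← map_mul] at h3
    have h4 : phi hp k i0 ((up c * lo (-d) * up c * up c) * (lo (-d) * (up c * lo (-d) * up c))⁻¹) = 1 := by
      rw [map_mul, map_inv, h3, mul_inv_cancel]
    rcases Cfsg.Agent.H609.PairExc.phi_ker hp k i0 _ h4 with h5 | h5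
    · exact Or.inl (mul_inv_eq_one.1 h5)
    · right
      rw [mul_inv_eq_iff_eq_mul, neg_one_mul] at h5
      exact h5
  obtain ⟨s, hs⟩ := IsAlgClosed.exists_pow_nat_eq c (n := 2) (by norm_num)
  have hs2 : s ^ 2 ≠ 0 := by rw [hs]; exact hc
  have hs0 : s ≠ 0 := by
    rintro rfl
    exact hs2 (by norm_num)
  refine ⟨phi hp k i0 (dg s hs0), ⟨_, rfl⟩, fun A => ?_⟩
  have key : (τ.toMonoidHom).comp (phi hp k i0) =
      (phi hp k i0).comp ((dc (s ^ 2) hs2).comp (SpecialLinearGroup.map (frobHom k r E))) := by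
    refine hom_ext (fun a => ?_) (fun a => ?_)
    · show τ (phi hp k i0 (up a)) = phi hp k i0 (dc (s ^ 2) hs2 (SpecialLinearGroup.map (frobHom k r E) (up a)))
      rw [map_up, dc_up, frobHom_apply, h1', hs]
    · show τ (phi hp k i0 (lo a)) = phi hp k i0 (dc (s ^ 2) hs2 (SpecialLinearGroup.map (frobHom k r E) (lo a)))
      rw [map_lo, dc_lo, frobHom_apply, h2', hs]
      have h5 : c⁻¹ = d := by rw [inv_eq_iff_eq_inv]; exact eq_inv_of_mul_eq_one_left hcd
      rw [h5]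
  have h5 : τ (phi hp k i0 A) = phi hp k i0 (dc (s ^ 2) hs2 (SpecialLinearGroup.map (frobHom k r E) A)) :=
    DFunLike.congr_fun key A
  rw [h5, ← dg_conj s hs0 hs2, map_mul, map_mul, map_inv]

include cs hk hτ F in
/-- the case `g α = ± α` -/
theorem act_pm (Fm : Frm cs hp.isCartan (bf (cartanOf D l))) (hN : NSys M (TT D k) (nc hp k))
    (hg : g (sr i0) = sr i0 ∨ g (sr i0) = -sr i0) : ∃ c0 ∈ (phi hp k i0).range, ∀ A,
    τ (phi hp k i0 A) = c0 * phi hp k i0 (SpecialLinearGroup.map (frobHom k r E) A) * c0⁻¹ := by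
  rcases hg with hg | hg
  · exact act_pos hp cs hk r i0 hτ F hg
  · obtain ⟨w, m, hm, hw, hwr⟩ := exists_rfl hp cs hk r Fm hN (S := {a | a = sr i0 ∨ a = -sr i0})
      (isRoot_sr cs hp.isCartan i0) (Or.inl rfl) (Or.inr rfl)
    have hm' := Sup_le_range hp cs hk r i0 hm
    have F' : Fr cs hp.isCartan (TT D k) (XX D l k) (MulAut.conj m * τ) (g.trans (repAut cs hp.isCartan w)) :=
      (fr_conj hp cs hk r hw).mul F
    obtain ⟨c0, hc0, h1⟩ := act_pos hp cs hk r i0 (hτ.conj_mul m) F' (by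
      show rep cs hp.isCartan w (g (sr i0)) = sr i0
      rw [hg, map_neg, hwr, Fm.self (isRoot_sr cs hp.isCartan i0)]
      module)
    refine ⟨m⁻¹ * c0, mul_mem (inv_mem hm') hc0, fun A => ?_⟩
    have h2 : m * τ (phi hp k i0 A) * m⁻¹ = c0 * phi hp k i0 (SpecialLinearGroup.map (frobHom k r E) A) * c0⁻¹ := h1 A
    calc τ (phi hp k i0 A) = m⁻¹ * (m * τ (phi hp k i0 A) * m⁻¹) * m := by group
      _ = m⁻¹ * (c0 * phi hp k i0 (SpecialLinearGroup.map (frobHom k r E) A) * c0⁻¹) * m := by rw [h2]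
      _ = _ := by group

include cs hk hτ F in
/-- **Frobenius maps on a root `SL₂`.** -/
theorem exists_frame_tau (hE : 0 < E) (Fm : Frm cs hp.isCartan (bf (cartanOf D l))) (hN : NSys M (TT D k) (nc hp k))
    (hg : g (sr i0) = sr i0 ∨ g (sr i0) = -sr i0) : ∃ y ∈ (phi hp k i0).range, ∀ A,
    τ (y * phi hp k i0 A * y⁻¹) = y * phi hp k i0 (SpecialLinearGroup.map (frobHom k r E) A) * y⁻¹ := by
  obtain ⟨c0, hc0, h1⟩ := act_pm hp cs hk r i0 hτ F Fm hN hg
  have hr := isRoot_sr cs hp.isCartan i0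
  have h2 : c0⁻¹ ∈ RGD.Sup (XX D l k) {a | a = sr i0 ∨ a = -sr i0} := by
    rw [← range_eq hp cs hk r i0]; exact inv_mem hc0
  obtain ⟨y, hy, h3⟩ := lang_fr hp cs hE hτ F (S := {a | a = sr i0 ∨ a = -sr i0}) (by
    rintro a (rfl | rfl)
    · exact hr
    · exact hr.neg) (by
    rintro a (rfl | rfl)
    · exact hg
    · rcases hg with hg | hg
      · right; rw [map_neg, hg]
      · left; rw [map_neg, hg, neg_neg]) h2
  refine ⟨y, Sup_le_range hp cs hk r i0 hy, fun A => ?_⟩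
  have h4 : τ y = y * c0⁻¹ := by rw [h3]; group
  rw [map_mul, map_mul, map_inv, h1, h4]
  group

end Chev

end Cfsg.Agent.H897.T5Tau

private theorem dce_231f1a3becb2 : _root_.True := by
  try have : _root_.True := by simp only [_root_.Cfsg.Agent.H378.TorFin.frobHom.congr_simp]
  exact _root_.True.intro
end

-- part: H897/T5TwE6
section
set_option linter.all false
open scoped Cfsg.Agent.FastGrp

/-!
# `²E₆(q)`: the root `SL₂(q)` (T5)

`setup` : the data of `T5Fam.red_root` for `²E₆(q)`; `red_tw` : the reduction, given the torality statement.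
`twE6` : `Redn p F₀ (²E₆(q))` for `p ∣ q + 1`.
-/

set_option autoImplicit false
set_option linter.unusedSectionVars false

namespace Cfsg.Agent.H897.T5TwE6

open CoxeterSystem Cfsg Cfsg.Lie Cfsg.Lie.ChevalleyDatum
open Cfsg.Agent.ChevalleyStructure Cfsg.Agent.ChevalleyStructure.Elts Cfsg.Agent.ChevalleyStructure.CoxeterGeom
  Cfsg.Agent.ChevalleyStructure.CoxeterGeomTypes Cfsg.Agent.ChevalleyStructure.NPerm
open Cfsg.Agent.Tits.Roots Cfsg.Agent.Tits.Core Cfsg.Agent.Nodes Cfsg.Agent.Nodes.Reps Cfsg.Agent.Nodes.BNOf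
  Cfsg.Agent.Nodes.RGDChev Cfsg.Agent.Nodes.Bruhat Cfsg.Agent.Nodes.SubComb Cfsg.Agent.Nodes.Coroot
open Cfsg.Agent.KFacts.RgdField Cfsg.Agent.KFacts.RgdChevCoord Cfsg.Agent.BpExc.TorCent Cfsg.Agent.BpExc.TorChev
open Cfsg.Agent.GpExc.Field Cfsg.Agent.BpExc.Tow Cfsg.Agent.BpExc.TowChev Cfsg.Agent.BpExc.Fr
  Cfsg.Agent.BpExc.LangFr Cfsg.Agent.LangThm Cfsg.Agent.BpExc Cfsg.Agent.H129.TorusMain
open Cfsg.Agent.BpExc.FamUntw Cfsg.Agent.BpExc.FamInst Cfsg.Agent.BpExc.FamField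
  Cfsg.Agent.CpAut.RgdUntw
open Cfsg.Agent.H897.T5Cent Cfsg.Agent.H897.T5Root Cfsg.Agent.H897.T5Box Cfsg.Agent.H897.T5Sub
  Cfsg.Agent.H897.T5Fam Cfsg.Agent.H897.T5Frame Cfsg.Agent.H897.T5Conn Cfsg.Agent.H897.T5Untw
  Cfsg.Agent.H897.T5UntwRow
open Cfsg.Agent.H897.T5Eta
open Cfsg.Agent.H897.T5Lat (Frm bf bf_apply)
open Cfsg.Agent.ChevalleyStructure.SL2Hom (up lo mem_closure_SL2)
open Cfsg.Agent.OddHalf.LongSL.Chev (phi_up phi_lo)
open Cfsg.Agent.OddHalf.LongSL.Fold (psi0 psi0_up psi0_lo FF mem_FF)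
open Cfsg.Agent.H522.FamTw.Frame Cfsg.Agent.BpExc.FamTw.Gr
open Cfsg.Agent.BpExc.FamTw.Six (em coe_em em_injective)
open Cfsg.Agent.ChevalleyStructure.GraphSymm (symmE6)
open Cfsg.Agent.H609.PairExc (fA_mem fA_ker)
open Cfsg.Agent.BpExc.RowsUntw (e6T)
open Matrix (SpecialLinearGroup)

theorem simple1 : (symmE6.σ ⟨chevE6.simple (1 : Fin 6), simple_lt6 1⟩).val = chevE6.simple (1 : Fin 6) ∧
    symmE6.ε ⟨chevE6.simple (1 : Fin 6), simple_lt6 1⟩ = 1 := by decide +kernel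

theorem neg_lt1 : chevE6.neg (chevE6.simple (1 : Fin 6)) < chevE6.nroots := by decide +kernel

theorem neg1 : (symmE6.σ ⟨chevE6.neg (chevE6.simple (1 : Fin 6)), neg_lt1⟩).val =
    chevE6.neg (chevE6.simple (1 : Fin 6)) ∧
    symmE6.ε ⟨chevE6.neg (chevE6.simple (1 : Fin 6)), neg_lt1⟩ = 1 := by decide +kernel

/-- Cartan matrix of `E₆` -/
def A6 : Fin 6 → Fin 6 → ℤ := ![![2, 0, -1, 0, 0, 0], ![0, 2, 0, -1, 0, 0], ![-1, 0, 2, -1, 0, 0],
  ![0, -1, -1, 2, -1, 0], ![0, 0, 0, -1, 2, -1], ![0, 0, 0, 0, -1, 2]]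

def L6 : List (Fin 6 → ℤ) := [![0, 1, 1, 2, 1, 0], ![1, 1, 1, 2, 1, 1], ![1, 1, 2, 2, 2, 1]]

theorem frOK6 : FrOK chevE6 6 1 rho6 A6 L6 where
  hA := by decide +kernel
  hL := by decide +kernel
  orth := by decide +kernel
  check := by decide +kernel

theorem perm_L6 : ∀ a ∈ L6, ∀ i, a (rho6.symm i) = a i := by decide +kernel

theorem perm_sr (j : Fin 6) : permE rho6 (sr j) = sr (rho6 j) := by
  funext i
  show (sr j : Fin 6 → ℤ) (rho6.symm i) = sr (rho6 j) i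
  by_cases h : i = rho6 j
  · subst h
    rw [Equiv.symm_apply_apply, sr_self, sr_self]
  · rw [sr_ne h, sr_ne]
    intro h1
    apply h
    rw [← h1, Equiv.apply_symm_apply]

section

variable {k : Type} [Field k] [IsAlgClosed k] (hk : LocFin k) (r : ℕ) [Fact r.Prime] [CharP k r]

/-- the action of the Steinberg automorphisms on the root `SL₂` -/
theorem act6 (m : ℕ) : Act e6T r 1 (sig6 k r m) m := by
  have h1 : ∀ (R : Fin chevE6.nroots) (t : k), (symmE6.σ R).val = R.val → symmE6.ε R = 1 →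
      sig6 k r m (xc e6T (vec chevE6 6 R.val) t) = xc e6T (vec chevE6 6 R.val) (t ^ r ^ m) := by
    intro R t hσ hε
    have e1 : phi chevE6 k r m (xc e6T (vec chevE6 6 R.val) t) = xc e6T (vec chevE6 6 R.val) (t ^ r ^ m) := by
      rw [phi, fld_eq_emb e6T, Cfsg.Agent.BpExc.FamExt.emb_xc e6T _ R.2]
      congr 1
      exact frb_apply k r m t
    have e2 : ∀ s : k, xc e6T (vec chevE6 6 R.val) s = xg inListE6 R.val s := by
      intro s
      apply Subtype.ext
      rw [coe_xg]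
      exact coe_xc (K := k) e6T R.2 s
    rw [MulAut.mul_apply, e1, e2, gr_xg, hσ, hε]
    congr 1
    push_cast
    rw [one_mul]
  refine ⟨fun a => ?_, fun a => ?_⟩
  · rw [phi_up', phi_up', ← vec_simple e6T 1]
    exact h1 ⟨_, simple_lt6 1⟩ a simple1.1 simple1.2
  · have e0 : (-sr 1 : Fin 6 → ℤ) = vec chevE6 6 (chevE6.neg (chevE6.simple (1 : Fin 6))) := by
      rw [vec_neg e6T (simple_lt6 1), vec_simple e6T 1]
    rw [phi_lo', phi_lo', e0]
    exact h1 ⟨_, neg_lt1⟩ a neg1.1 neg1.2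

end

/-! ### the lattice -/

theorem check6 : ∀ j, rc A6 (sr 1) (L6.foldr (rc A6) (sr j)) = -sr (rho6 j) := by decide +kernel

theorem A6_rho : ∀ i j, A6 (rho6 i) (rho6 j) = A6 i j := by decide +kernel

theorem bc_eta (x y : Fin 6 → ℤ) : bc A6 (permE rho6 x) (permE rho6 y) = bc A6 x y := by
  unfold bc
  rw [← Equiv.sum_comp rho6]
  refine Finset.sum_congr rfl fun i _ => ?_
  rw [← Equiv.sum_comp rho6]
  refine Finset.sum_congr rfl fun j _ => ?_
  show x (rho6.symm (rho6 i)) * A6 (rho6 i) (rho6 j) * y (rho6.symm (rho6 j)) = _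
  rw [Equiv.symm_apply_apply, Equiv.symm_apply_apply, A6_rho]

theorem bf_eta (x y : Fin 6 → ℤ) : bf (cartanOf chevE6 6) (permE rho6 x) (permE rho6 y) = bf (cartanOf chevE6 6) x y := by
  rw [bf_eq frOK6.hA, bf_eq frOK6.hA, bc_eta]

/-- four roots fixed by the graph automorphism -/
def R0 : List (Fin 6 → ℤ) := [sr 1, sr 3, ![0, 0, 1, 1, 1, 0], ![1, 0, 1, 1, 1, 1]]

theorem R0_root : ∀ a ∈ R0, ∃ q < chevE6.nroots, vec chevE6 6 q = a := by decide +kernel

theorem R0_perm : ∀ a ∈ R0, ∀ i, a (rho6.symm i) = a i := by decide +kernel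

theorem R0_bc : ∀ a ∈ R0, a = sr 1 ∨ bc A6 a (sr 1) = -1 := by decide +kernel

theorem R0_all {p : ℕ} (hpp : p.Prime) (hp5 : 5 ≤ p) (μ : Fin 6 → ℤ) (hμ : permE rho6 μ = μ)
    (h : ∀ a ∈ R0, (p : ℤ) ∣ bf (cartanOf chevE6 6) μ a) (j : Fin 6) :
    (p : ℤ) ∣ bf (cartanOf chevE6 6) μ (sr j) := by
  have h2 : IsCoprime (p : ℤ) (2 : ℤ) := by
    have : (p : ℕ).Coprime 2 := (Nat.coprime_primes hpp Nat.prime_two).2 (by omega)
    exact_mod_cast Nat.isCoprime_iff_coprime.2 this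
  have e : ∀ j, bf (cartanOf chevE6 6) μ (sr (rho6 j)) = bf (cartanOf chevE6 6) μ (sr j) := by
    intro j
    rw [← perm_sr, ← bf_eta μ (sr j), hμ]
  have h1 := h _ (show sr 1 ∈ R0 by decide +kernel)
  have h3 := h _ (show sr 3 ∈ R0 by decide +kernel)
  have h4 := h _ (show ![0, 0, 1, 1, 1, 0] ∈ R0 by decide +kernel)
  have h5 := h _ (show ![1, 0, 1, 1, 1, 1] ∈ R0 by decide +kernel)
  have e4 : (![0, 0, 1, 1, 1, 0] : Fin 6 → ℤ) = sr 2 + sr 3 + sr 4 := by decide +kernel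
  have e5 : (![1, 0, 1, 1, 1, 1] : Fin 6 → ℤ) = sr 0 + sr 5 + (sr 2 + sr 3 + sr 4) := by decide +kernel
  rw [e4] at h4
  rw [e5, map_add, map_add] at h5
  have h6 := (dvd_add_left h4).1 h5
  rw [map_add, map_add] at h4
  have e24 : bf (cartanOf chevE6 6) μ (sr 4) = bf (cartanOf chevE6 6) μ (sr 2) := e 2
  have e05 : bf (cartanOf chevE6 6) μ (sr 5) = bf (cartanOf chevE6 6) μ (sr 0) := e 0
  have h7 : (p : ℤ) ∣ 2 * bf (cartanOf chevE6 6) μ (sr 2) := by
    rw [e24] at h4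
    have h8 := dvd_sub h4 h3
    have h9 : bf (cartanOf chevE6 6) μ (sr 2) + bf (cartanOf chevE6 6) μ (sr 3) + bf (cartanOf chevE6 6) μ (sr 2) -
        bf (cartanOf chevE6 6) μ (sr 3) = 2 * bf (cartanOf chevE6 6) μ (sr 2) := by ring
    rwa [h9] at h8
  have h8 : (p : ℤ) ∣ 2 * bf (cartanOf chevE6 6) μ (sr 0) := by
    rw [e05] at h6
    have h9 : bf (cartanOf chevE6 6) μ (sr 0) + bf (cartanOf chevE6 6) μ (sr 0) =
        2 * bf (cartanOf chevE6 6) μ (sr 0) := by ring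
    rwa [h9] at h6
  have h9 := h2.dvd_of_dvd_mul_left h7
  have h10 := h2.dvd_of_dvd_mul_left h8
  fin_cases j
  · exact h10
  · exact h1
  · exact h9
  · exact h3
  · show (p : ℤ) ∣ bf (cartanOf chevE6 6) μ (sr 4)
    rw [e24]; exact h9
  · show (p : ℤ) ∣ bf (cartanOf chevE6 6) μ (sr 5)
    rw [e05]; exact h10

section Inn

variable {k : Type} [Field k] [IsAlgClosed k] (hk : LocFin k) (r : ℕ) [Fact r.Prime] [CharP k r] {p : ℕ}
  (hpp : p.Prime) (hp5 : 5 ≤ p) (hpr : p ≠ r)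

abbrev cs6 : CoxeterSystem CoxeterMatrix.E₆ CoxeterMatrix.E₆.Group := CoxeterMatrix.E₆.toCoxeterSystem

theorem fin6 : Finite CoxeterMatrix.E₆.Group := finite_W e6T cs6

theorem perm_fix {a : Fin 6 → ℤ} (h : ∀ i, a (rho6.symm i) = a i) : permE rho6 a = a := funext h

include hk hpp hp5 hpr in
theorem key6 [Finite CoxeterMatrix.E₆.Group] : Key e6T cs6 1 k p (permE rho6) := by
  have hF := par6.frm cs6 e6T.isCartan (fun i j => (n6 i j).1) (fun i j => (n6 i j).2)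
  refine key_eta e6T cs6 hk r 1 hpp hpr inv_E6 hF bf_eta (cop hpp hp5 (by norm_num) (by norm_num)) perm_sr
    (R0 := R0) (fun μ hμ h j => R0_all hpp hp5 μ hμ h j) (fun a ha => ⟨?_, perm_fix (R0_perm a ha), ?_⟩)
    (perm_fix (by decide +kernel))
  · exact (isRoot_iff e6T cs6 a).2 (R0_root a ha)
  · rw [bf_eq frOK6.hA]
    exact R0_bc a ha

end Inn

/-- **`E₆(q)`, `p ∣ q + 1`.** -/
theorem e6' {p : ℕ} (hpp : p.Prime) (hp5 : 5 ≤ p) {F : Type} [Field F] [Fintype F] (hq : p ∣ Fintype.card F + 1) :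
    Redn p F ↥(chevE6.group F) := by
  have hq1 : 1 < Fintype.card F := Fintype.one_lt_card
  refine ⟨card_ge' hpp hp5 hq1 (Or.inr hq), ph BpExc.RowsUntw.e6T F 1, fun C => phi_ker' _ 1 C, ?_⟩
  refine red_gen e6T inv_E6 three_ne_zero symTwo_E6
      (fun k _ _ => S1054.result chevE6 (by simp)) (S1054.result chevE6 (by simp)) hpp hp5
      (not_dvd_card hpp hq1 (Or.inr hq)) (card_ge' hpp hp5 hq1 (Or.inr hq)) ?_
  intro k _ _ hk r _ _ n hka hn0 hn' hpr hZ x hσx hxp hx1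
  have hW : Finite CoxeterMatrix.E₆.Group := fin6
  have hFrm := par6.frm cs6 e6T.isCartan (fun i j => (n6 i j).1) (fun i j => (n6 i j).2)
  have hC : Con e6T cs6 hk r p := con_of_frm e6T cs6 hk r hpp hpr inv_E6 (cop hpp hp5 (by norm_num) (by norm_num)) hFrm
  have hN : NSys CoxeterMatrix.E₆ (TT chevE6 k) (nc e6T k) := by
    have := (tow e6T cs6 hk r (k := k)).nsys
    rwa [TL_eq e6T hk] at this
  have hσf := phi_isFrob (D := chevE6) (k := k) r n
  have hσF := phi_fr e6T cs6 r hk n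
  obtain ⟨za, zb, w1, h1, h2, h3, h5⟩ := exists_frame' e6T cs6 hk r 1 hn0 hσf hσF hFrm frOK6.hA hN L6
      frOK6.hL frOK6.orth (fun a _ => rfl) rfl (π := fun j => j) (fun j => rfl) (η := permE rho6) perm_sr check6
  exact inner_root' e6T cs6 hk r 1 hC hpp hpr hn0 hσf hσF inv_E6 three_ne_zero hZ hka hN
      h1 h2 h3 (Or.inr rfl) h5 (int_dvd' hn' hq) (key6 hk r hpp hp5 hpr) hσx hxp hx1

/-! ### `²E₆(q)` -/

section Tw

variable {K : Type} [Field K] [Fintype K] {q : ℕ}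

/-- **The reduction for `²E₆(q)`**, given the torality statement. -/
theorem red_tw (hq : IsPrimePow q) (hK : Fintype.card K = q ^ 2) {p : ℕ} (hpp : p.Prime) (hp5 : 5 ≤ p)
    (hpq : ¬ p ∣ q) (h4 : 4 ≤ q)
    (hinner : ∀ (k : Type) [Field k] [IsAlgClosed k] (_ : LocFin k) (r : ℕ) [Fact r.Prime] [CharP k r] (n : ℕ),
      BpExc.TorAll.HAlg r k → 0 < n → q = r ^ n → p ≠ r → Subgroup.center ↥(chevE6.group k) = ⊥ →
      Inner e6T k 1 p (sig6 k r n)) :
    ∃ (F0 : Type) (_ : Field F0) (_ : Fintype F0), Fintype.card F0 = q ∧ Redn p F0 ↥(twistedE6 K q) := by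
  classical
  obtain ⟨r, hr⟩ := CharP.exists K
  have : Fact r.Prime := ⟨CharP.char_is_prime K r⟩
  obtain ⟨n, hn0, hn⟩ : ∃ n, 0 < n ∧ q = r ^ n := by
    obtain ⟨s, n, hs, hn, h⟩ := (isPrimePow_nat_iff _).1 hq
    obtain ⟨N, -, hN⟩ := FiniteField.card K r
    have h1 : s ∣ r ^ (N : ℕ) := by
      rw [← hN, hK, ← h, ← pow_mul]
      exact dvd_pow_self _ (by positivity)
    have h2 := (Nat.prime_dvd_prime_iff_eq hs Fact.out).1 (hs.dvd_of_dvd_pow h1)
    exact ⟨n, hn, by rw [← h, h2]⟩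
  obtain ⟨f⟩ := RowsUntw.exists_emb r K
  have hk : LocFin (AlgebraicClosure (ZMod r)) := locFin_of_isAlgebraic r _
  have hka : BpExc.TorAll.HAlg r (AlgebraicClosure (ZMod r)) := BpExc.TorAll.hAlg_of_isAlgebraic r _
  obtain ⟨φ, hφ, hqq⟩ := TwE6Basic.exists_frob hq hK
  have hpr : p ≠ r := by
    rintro rfl
    exact hpq (by rw [hn]; exact dvd_pow_self _ hn0.ne')
  have hZ : Subgroup.center ↥(chevE6.group (AlgebraicClosure (ZMod r))) = ⊥ := by
    have h1 := S1054.result (F := AlgebraicClosure (ZMod r)) chevE6 (by simp)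
    have h2 := h1.1
    refine KFacts.RgdLieCharP.center_eq_bot ?_
    by_contra hcon
    push Not at hcon
    exact h1.2 ⟨⟨hcon⟩⟩
  let _ : Fintype (FF φ) := Fintype.ofFinite _
  have hc : Fintype.card (FF φ) = q := Cfsg.Agent.OddHalf.LongSL.Tw.card_FF hq.two_le hK hφ
  let κ : SpecialLinearGroup (Fin 2) (FF φ) →* ↥(twistedE6 K q) :=
    (psi0 (hp := Cfsg.Agent.H609.PairExc.hp) 1 φ).codRestrict _ (fun g => fA_mem hφ ⟨g, rfl⟩)
  have hκc : ∀ g, (κ g : GL chevE6.Idx K) = psi0 (hp := Cfsg.Agent.H609.PairExc.hp) 1 φ g := fun g => rfl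
  have hCr : CharP (FF φ) r := (algebraMap (FF φ) K).charP (algebraMap (FF φ) K).injective r
  refine ⟨FF φ, inferInstance, inferInstance, hc, by rw [hc]; exact h4, κ, fun C hC => ?_, ?_⟩
  · rcases fA_ker φ C (congrArg Subtype.val hC) with rfl | rfl
    · exact one_mem _
    · rw [Subgroup.mem_center_iff]
      intro g
      rw [mul_neg, neg_mul, mul_one, one_mul]
  have hκ : ∀ C : SpecialLinearGroup (Fin 2) (FF φ), em q f (κ C) =
      ph e6T (AlgebraicClosure (ZMod r)) 1 (SpecialLinearGroup.map (f.comp (FF φ).subtype) C) := by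
    intro C
    have h1 : (em q f).comp κ = (ph e6T (AlgebraicClosure (ZMod r)) 1).comp
        (SpecialLinearGroup.map (f.comp (FF φ).subtype)) := by
      refine hom_ext' (fun a => ?_) (fun a => ?_)
      · show em q f (κ (up a)) = ph e6T (AlgebraicClosure (ZMod r)) 1
          (SpecialLinearGroup.map (f.comp (FF φ).subtype) (up a))
        apply Subtype.ext
        rw [map_up, coe_em, hκc, psi0_up, glMap_xG, ph, phi_up]
        rfl
      · show em q f (κ (lo a)) = ph e6T (AlgebraicClosure (ZMod r)) 1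
          (SpecialLinearGroup.map (f.comp (FF φ).subtype) (lo a))
        apply Subtype.ext
        rw [map_lo, coe_em, hκc, psi0_lo, glMap_xG, ph, phi_lo]
        rfl
    exact DFunLike.congr_fun h1 C
  have hroot : ∀ a : K, ∃ b : AlgebraicClosure (ZMod r), b ^ 3 = f a := fun a =>
    IsAlgClosed.exists_pow_nat_eq (f a) (by norm_num)
  have hW : Finite CoxeterMatrix.E₆.Group := fin6
  refine red_root cs6 hk (σ := sig6 (AlgebraicClosure (ZMod r)) r n) (ι := em q f)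
    (j := f.comp (FF φ).subtype) (e := n)
    (em_injective f) (fun a => Cfsg.Agent.H522.FamTw.Six.sig6_em f r hφ hqq hn a) (by rw [hc]; exact h4)
    (by rw [Nat.card_eq_fintype_card, hc, hn]) ?_ hκ (act6 r n) ?_ hZ hpp
    (hinner _ hk r n hka hn0 hn hpr hZ) ?_
  · -- roots of `x ^ q = x`
    intro x hx
    rw [← hn] at hx
    obtain ⟨y, rfl⟩ : x ∈ Set.range f := by
      refine (Cfsg.Agent.H129.TorusUntw.frob_fix_iff f (p := r) (e := n * 2) ?_ x).1 ?_
      · rw [hK, hn, ← pow_mul]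
      · rw [iterateFrobenius_def, pow_mul, ← hn, sq, pow_mul, hx, hx]
    refine ⟨⟨y, mem_FF.2 ?_⟩, rfl⟩
    rw [hφ]
    apply f.injective
    rw [map_pow, hx]
  · -- split
    intro y hy
    have hφk : ∀ t, iterateFrobenius (AlgebraicClosure (ZMod r)) r n t = t ^ q := fun t => by
      rw [iterateFrobenius_def, hn]
    obtain ⟨x, hx, t, ht, e⟩ := Cfsg.Agent.BpExc.EmbInst.twE6_split (f := f) hq hK hφk (y⁻¹).2
      (by rw [← Cfsg.Agent.H720.TwFr.coe_sig6, map_inv, hy])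
    have e1 : y⁻¹ = em q f ⟨x, hx⟩ * ⟨t, diagonal_le_group e6T.inList _ ht⟩ := Subtype.ext e
    refine ⟨⟨x, hx⟩⁻¹, (⟨t, diagonal_le_group e6T.inList _ ht⟩ : ↥(chevE6.group _))⁻¹, inv_mem ht, ?_⟩
    rw [map_inv, ← mul_inv_rev, ← e1, inv_inv]
  · -- automorphisms
    intro c hc
    have hcp : c ^ p = 1 := by rw [← hc, pow_orderOf_eq_one]
    have hp2 : p % 2 = 1 := by
      rcases hpp.eq_two_or_odd with h | h
      · omega
      · exact h
    rcases Cfsg.Agent.H522.FamTw.Six.cases f r hφ hqq hroot hn hq.one_lt hK hpp (by omega) hcp with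
      h | ⟨i, m, hi, hm0, hmn, y, hy, h⟩
    · exact Or.inl h
    · exact Or.inr ⟨i, m, sig6 _ r m, y, hi, hm0, hmn, isFrob_sig6 r m, ⟨_, fr_sig6 hk r e6T cs6 m⟩,
        by rw [sig6_pow r hp2, hmn], act6 r m, hy, h⟩

/-- **`²E₆(q)`, `p ∣ q² - 1`.** -/
theorem twE6 (hq : IsPrimePow q) (hK : Fintype.card K = q ^ 2) {p : ℕ} (hpp : p.Prime) (hp5 : 5 ≤ p)
    (hpq : p ∣ q - 1 ∨ p ∣ q + 1) :
    ∃ (F0 : Type) (_ : Field F0) (_ : Fintype F0), Fintype.card F0 = q ∧ Redn p F0 ↥(twistedE6 K q) := by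
  refine red_tw hq hK hpp hp5 (not_dvd_card hpp hq.one_lt hpq) (card_ge' hpp hp5 hq.one_lt hpq) ?_
  intro k _ _ hk r _ _ n hka hn0 hn' hpr hZ x hσx hxp hx1
  have hW : Finite CoxeterMatrix.E₆.Group := fin6
  have hFrm := par6.frm cs6 e6T.isCartan (fun i j => (n6 i j).1) (fun i j => (n6 i j).2)
  have hC : Con e6T cs6 hk r p := con_of_frm e6T cs6 hk r hpp hpr inv_E6 (cop hpp hp5 (by norm_num) (by norm_num)) hFrm
  have hN : NSys CoxeterMatrix.E₆ (TT chevE6 k) (nc e6T k) := by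
    have := (tow e6T cs6 hk r (k := k)).nsys
    rwa [TL_eq e6T hk] at this
  have hσf := isFrob_sig6 (k := k) r n
  have hσF := fr_sig6 hk r e6T cs6 n
  rcases hpq with hpq | hpq
  · refine inner_root' e6T cs6 hk r 1 hC hpp hpr hn0 hσf hσF inv_E6 three_ne_zero hZ hka hN
      (za := 1) (zb := 1) (one_mem _) (fun y _ => by rw [one_mul, mul_one]) (w1 := 1) ?_ (Or.inl rfl)
      (fun x => by rw [map_one, one_smul]; rfl) (int_dvd hn' hq.one_lt hpq) (key6 hk r hpp hp5 hpr) hσx hxp hx1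
    rw [mul_one, inv_one, one_mul, map_one]
    exact rp_one
  · obtain ⟨za, zb, w1, h1, h2, h3, h5⟩ := exists_frame e6T cs6 hk r 1 hn0 hσf hσF hFrm frOK6.hA hN L6
      frOK6.hL frOK6.orth (fun a ha => perm_fix (perm_L6 a ha)) (perm_fix (by decide +kernel)) (π := rho6) perm_sr
      frOK6.check
    exact inner_root e6T cs6 hk r 1 hC hpp hpr hn0 hσf hσF inv_E6 three_ne_zero hZ hka hN
      h1 h2 h3 h5 (int_dvd' hn' hpq) (fun a ha => par6.trans ha) hσx hxp hx1

end Tw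

end Cfsg.Agent.H897.T5TwE6
end
end
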