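import Cfsg.Agent.H957.T5RowPSU_m3
import Cfsg.Agent.H194.MOwn.SpRow_m3
import Cfsg.Agent.H957.T5RowPSL_m3
import Cfsg.Agent.H28.T5TwF_mg_m3
import Cfsg.Agent.H28.T5RankOne
import Cfsg.Agent.H573.DefCharLie
import Cfsg.Agent.H28.T5TorRows
import Cfsg.Agent.H106.MTwD4_m3
import Cfsg.Agent.H862.T5.SpRow
import Mathlib
import Cfsg.Agent.H31.TwoCyc.MThirteen
import Cfsg.Agent.H193.StrP.LieFill_m3
import Cfsg.Agent.H496.SpTwF.Row
import Cfsg.Agent.H49.ThFiveRow
import Cfsg.Agent.H746.MEleven.Final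
import Cfsg.Agent.H154.StrP.M13
import Cfsg.Agent.S0000
import Cfsg.Agent.S3833
import Cfsg.Agent.S5303
import Cfsg.Agent.FastGrp
import Cfsg.Agent.Prune
set_option linter.all false
prune_inst 0x7ffdfeff9bf83ddfffff7e7ffff7dffc39909fffefdff94bffecebff3bff230e0de5fbad8de090fe1ed6621c10b87853fbfffeffe36bfc7ffffd5ff45ffbee1ff7ffbd0c71d7ac341ffe6ffffbf07f8e7f3fffffffffffffffffffffffffffbeffbfffffffff
open scoped Cfsg.Agent.FastGrp

-- part: H106/MClass
section
/-!
# The middle rows of the classical groups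

`rowFam_psu`, `rowFam_psp`, `rowFam_odd`, `rowFam_plus`, `rowFam_minus`.
-/

set_option autoImplicit false

universe u

namespace Cfsg.Agent.H106.MClass

open Cfsg Cfsg.Agent.H533.T5 Cfsg.Agent.H957.T5M Cfsg.Agent.H106.MB Cfsg.Agent.H106.MT
open Cfsg.Agent.H106.MAll

theorem rowFam_psu {p : ℕ} (hp : p.Prime) (h5 : 5 ≤ p) : RowFam.{u} p (fun S _ => IsPSU S) := by
  rintro S _ _ _ - ⟨F, _, _, n, q, hF, hn, h32, ⟨e⟩⟩ -
  have := Fact.mk hp
  by_cases h : p ∣ Fintype.card F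
  · have := charP_of_dvd hp h
    exact MOwnU.mrow_psu_own hF hn h5 e
  · exact H957.T5RowPSU.row_PSU_cross hF hn h32 hp h5
      (fun h1 => h (by rw [hF]; exact dvd_pow h1 (by norm_num))) e

variable {p : ℕ} (hp : p.Prime) (h5 : 5 ≤ p)

include hp h5

theorem rowFam_psp (C : ∀ (F : Type) [Field F] [Fintype F] (m : ℕ), 2 ≤ m →
    (m = 2 → 3 ≤ Fintype.card F) → ¬ p ∣ Fintype.card F → MRow p (PSp m F)) :
    RowFam.{u} p (fun S _ => IsPSp S) := by
  rintro S _ _ _ - ⟨F, _, _, m, hm, hm2, ⟨e⟩⟩ -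
  have := Fact.mk hp
  by_cases h : p ∣ Fintype.card F
  · have := charP_of_dvd hp h
    exact H194.MOwn.Spo.mrow_psp hm h5 e
  · exact MRow.congr e (C F m hm hm2 h)

variable (hAA : AAHyp.{0} p)

include hAA

theorem rowFam_odd : RowFam.{u} p (fun S _ => IsPOmegaOdd S) := by
  intro S _ _ _ _ h _
  by_cases hch : IsPOmegaOddChar p S
  · obtain ⟨F, _, _, hF, m, hm, -, ⟨e⟩⟩ := hch
    have := Fact.mk hp
    exact H194.MOwn.Om.mrow_odd hm h5 e
  · exact H862.T5.ORow.pomegaOdd_mrow h hp h5 hch hAA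

theorem rowFam_plus : RowFam.{u} p (fun S _ => IsPOmegaPlus S) := by
  intro S _ _ _ _ h _
  by_cases hch : IsPOmegaPlusChar p S
  · obtain ⟨F, _, _, hF, m, hm, ⟨e⟩⟩ := hch
    have := Fact.mk hp
    exact H194.MOwn.Om.mrow_plus hm h5 e
  · exact H862.T5.ORow.pomegaPlus_mrow h hp h5 hch hAA

theorem rowFam_minus : RowFam.{u} p (fun S _ => IsPOmegaMinus S) := by
  intro S _ _ _ _ h _
  by_cases hch : IsPOmegaMinusChar p S
  · obtain ⟨F, _, _, hF, m, a, b, hm, hab, ⟨e⟩⟩ := hch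
    have := Fact.mk hp
    exact H194.MOwn.Om.mrow_minus (by omega) hab h5 e
  · exact H862.T5.ORow.pomegaMinus_mrow h hp h5 hch hAA

end Cfsg.Agent.H106.MClass
end

-- part: H106/MExcAll
section
/-!
# The middle rows of all exceptional groups

`AbFacts` : abelian Sylow subgroups of `E₆`, `²E₆`, `E₇`, `E₈` for `p = 5, 7`.
`rowFam_exc` : all exceptional groups from the own characteristic rows and `AbFacts`.
-/

set_option autoImplicit false

universe u

namespace Cfsg.Agent.H106.MExcAll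

open Cfsg Cfsg.Agent.H533.T5 Cfsg.Agent.H957.T5M Cfsg.Agent.H106.MB Cfsg.Agent.H106.MT
open Cfsg.Agent.H106.MAll Cfsg.Agent.H106.InnerAb Cfsg.Agent.H106.MExc
open Cfsg.Agent.H193.StrP (LieRow SporRow TitsRow)
open Cfsg.Agent.H778.Exc Cfsg.Agent.Nodes.RGDChev

/-- The abelian Sylow subgroups of the exceptional groups for `p ∣ |W|`. -/
structure AbFacts : Prop where
  e6_five : ∀ (F : Type) [Field F] [Fintype F], 5 ∣ Fintype.card F ^ 2 + 1 →
    ∀ P : Sylow 5 ↥(Lie.chevE6.group F), IsMulCommutative ↥(P : Subgroup ↥(Lie.chevE6.group F))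
  e7_five : ∀ (F : Type) [Field F] [Fintype F], 5 ∣ Fintype.card F ^ 2 + 1 →
    ∀ P : Sylow 5 ↥(Lie.chevE7.group F), IsMulCommutative ↥(P : Subgroup ↥(Lie.chevE7.group F))
  tw_five : ∀ (K : Type) [Field K] [Fintype K] (q : ℕ), IsPrimePow q → Fintype.card K = q ^ 2 →
    5 ∣ q ^ 2 + 1 →
    ∀ P : Sylow 5 ↥(Lie.twistedE6 K q), IsMulCommutative ↥(P : Subgroup ↥(Lie.twistedE6 K q))
  e7_seven : ∀ (F : Type) [Field F] [Fintype F], ¬ 7 ∣ Fintype.card F →
    ¬ 7 ∣ Fintype.card F ^ 2 - 1 →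
    ∀ P : Sylow 7 ↥(Lie.chevE7.group F), IsMulCommutative ↥(P : Subgroup ↥(Lie.chevE7.group F))
  e8_seven : ∀ (F : Type) [Field F] [Fintype F], ¬ 7 ∣ Fintype.card F →
    ¬ 7 ∣ Fintype.card F ^ 2 - 1 →
    ∀ P : Sylow 7 ↥(Lie.chevE8.group F), IsMulCommutative ↥(P : Subgroup ↥(Lie.chevE8.group F))

/-- commutativity of Sylow subgroups along isomorphisms -/
theorem comm_equiv' {G H : Type*} [Group G] [Group H] {p : ℕ} [Fact p.Prime] [Finite G]
    (e : G ≃* H) (h : ∀ P : Sylow p H, IsMulCommutative ↥(P : Subgroup H)) (P : Sylow p G) :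
    IsMulCommutative ↥(P : Subgroup G) :=
  haveI : Finite H := Finite.of_equiv G e.toEquiv
  Cfsg.Agent.H573.comm_equiv e.symm (fun Q => h Q) P

theorem dich_five {q : ℕ} (h : ¬ 5 ∣ q) : 5 ∣ q ^ 2 - 1 ∨ 5 ∣ q ^ 2 + 1 := by
  have h1 : q % 5 < 5 := Nat.mod_lt _ (by norm_num)
  have h2 : q ^ 2 % 5 = ((q % 5) ^ 2) % 5 := Nat.pow_mod q 2 5
  have h3 : q % 5 ≠ 0 := fun h3 => h (Nat.dvd_of_mod_eq_zero h3)
  have h4 : 1 ≤ q ^ 2 := Nat.one_le_pow _ _ (Nat.pos_of_ne_zero (by rintro rfl; simp at h3))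
  interval_cases hq : q % 5
  · exact absurd rfl h3
  · left; omega
  · right; omega
  · right; omega
  · left; omega

theorem dvd_split {p q : ℕ} (hp : p.Prime) (h : p ∣ q ^ 2 - 1) : p ∣ q - 1 ∨ p ∣ q + 1 := by
  have e1 : q ^ 2 - 1 = (q + 1) * (q - 1) := by
    rw [← Nat.sq_sub_sq, one_pow]
  rw [e1] at h
  exact (hp.dvd_mul.1 h).symm

section Fam

variable {p : ℕ} [hp : Fact p.Prime] (B : Box.{u} p) (A : AbFacts) (h5 : 5 ≤ p) {S : Type u}
  [Group S] [Finite S] [IsSimpleGroup S] (hna : ¬ IsMulCommutative S)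
  (hlt : Below.{u} p (Nat.card S))

theorem lt_eleven (h1 : ¬ 11 ≤ p) (h5 : 5 ≤ p) : p = 5 ∨ p = 7 := by
  have h := hp.out
  have h2 : p < 11 := by omega
  interval_cases p
  · exact Or.inl rfl
  · revert h; norm_num
  · exact Or.inr rfl
  · revert h; norm_num
  · revert h; norm_num
  · revert h; norm_num

include B A h5 hna hlt

theorem e6_cross {F : Type} [Field F] [Fintype F] (hF : ¬ p ∣ Fintype.card F)
    (e : S ≃* Lie.chevE6.group F) : MRow p S := by
  by_cases h7 : 7 ≤ p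
  · exact MExc.mrow_e6 B h5 hna hF hlt h7 e
  have hp5 : p = 5 := by
    rcases lt_eleven (p := p) (by omega) h5 with h | h
    · exact h
    · omega
  subst hp5
  rcases dich_five hF with hq | hq
  · rcases dvd_split Nat.prime_five hq with hq | hq
    · exact mrow_e6_one Nat.prime_five le_rfl hF hq e
    · exact MRow.congr e ((H897.T5TwE6.e6' Nat.prime_five le_rfl hq).mrow Nat.prime_five
        (mrow_psl2 Nat.prime_five le_rfl hF))
  · exact H897.T5Hfix.mrow_e6 Nat.prime_five B.aa le_rfl (inner_chev B le_rfl hna hF hlt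
      (Or.inr (Or.inr (Or.inl ⟨e⟩))) (comm_equiv' e (A.e6_five F hq))) hF e

theorem e7_cross {F : Type} [Field F] [Fintype F] (hF : ¬ p ∣ Fintype.card F)
    (e : S ≃* Lie.chevE7.group F) : MRow p S := by
  by_cases h11 : 11 ≤ p
  · exact MExc.mrow_e7 B h5 hna hF hlt h11 e
  by_cases hq : p ∣ Fintype.card F ^ 2 - 1
  · exact mrow_e7_two hp.out h5 hF hq e
  rcases lt_eleven h11 h5 with h | h
  · subst h
    exact H897.T5Hfix.mrow_e7 Nat.prime_five B.aa le_rfl (inner_chev B le_rfl hna hF hlt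
      (Or.inr (Or.inr (Or.inr (Or.inl ⟨e⟩))))
      (comm_equiv' e (A.e7_five F ((dich_five hF).resolve_left hq)))) hF e
  · subst h
    exact H897.T5Hfix.mrow_e7 hp.out B.aa h5 (inner_chev B h5 hna hF hlt
      (Or.inr (Or.inr (Or.inr (Or.inl ⟨e⟩))))
      (comm_equiv' e (A.e7_seven F hF hq))) hF e

theorem e8_cross {F : Type} [Field F] [Fintype F] (hF : ¬ p ∣ Fintype.card F)
    (e : S ≃* Lie.chevE8.group F) : MRow p S := by
  by_cases h11 : 11 ≤ p
  · exact MExc.mrow_e8 B h5 hna hF hlt h11 e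
  by_cases hq : p ∣ Fintype.card F ^ 2 - 1
  · exact mrow_e8_two hp.out h5 hF hq e
  rcases lt_eleven h11 h5 with h | h
  · subst h
    exact H897.T5E8Row.mrow_e8_five B.aa ((dich_five hF).resolve_left hq) e
  · subst h
    exact H897.T5Hfix.mrow_e8 hp.out B.aa h5 (inner_chev B h5 hna hF hlt
      (Or.inr (Or.inr (Or.inr (Or.inr ⟨e⟩))))
      (comm_equiv' e (A.e8_seven F hF hq))) hF e

theorem twE6_cross {K : Type} [Field K] [Fintype K] {q : ℕ} (hq : IsPrimePow q)
    (hc : Fintype.card K = q ^ 2) (hK : ¬ p ∣ Fintype.card K) (e : S ≃* Lie.twistedE6 K q) :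
    MRow p S := by
  by_cases h7 : 7 ≤ p
  · exact MExc.mrow_twE6 B h5 hna hq hK hlt h7 hc e
  have hp5 : p = 5 := by
    rcases lt_eleven (p := p) (by omega) h5 with h | h
    · exact h
    · omega
  subst hp5
  have hpq : ¬ 5 ∣ q := fun h => hK (by rw [hc]; exact dvd_pow h (by norm_num))
  rcases dich_five hpq with h | h
  · obtain ⟨F0, _, _, hF0, h1⟩ := H897.T5TwE6.twE6 hq hc Nat.prime_five le_rfl
      (dvd_split Nat.prime_five h)
    exact MRow.congr e (h1.mrow Nat.prime_five (mrow_psl2 Nat.prime_five le_rfl (by rwa [hF0])))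
  · obtain ⟨r, _, _, hpr⟩ := exists_char_ne (p := 5) K hK
    exact H897.T5Hfix.mrow_twE6 Nat.prime_five B.aa le_rfl (inner_lie B le_rfl hpr hna
      (Or.inr (Or.inr (Or.inr (Or.inr (Or.inr (Or.inr (Or.inr (Or.inl
      ⟨K, _, _, inferInstance, q, hq, Or.inl ⟨hc, ⟨e⟩⟩⟩))))))))
      (comm_equiv' e (A.tw_five K q hq hc h)) hlt) hq hc hpq e

end Fam

/-- **All exceptional groups.** -/
theorem rowFam_exc {p : ℕ} (hp : p.Prime) (h5 : 5 ≤ p) (B : Box.{u} p) (A : AbFacts)
    (hTi : TitsRow.{u})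
    (ownC : RowFam.{u} p (fun S _ => IsExceptionalChevChar p S))
    (ownT : RowFam.{u} p (fun S _ => IsTwistedE6D4Char p S)) :
    RowFam.{u} p (fun S _ => IsExceptionalLieType S) := by
  have hpf : Fact p.Prime := ⟨hp⟩
  have hown : ∀ (F : Type) [Field F] [Fintype F], p ∣ Fintype.card F → ∀ (S : Type u) [Group S]
      [Finite S] [IsSimpleGroup S], ¬ IsMulCommutative S → Below.{u} p (Nat.card S) →
      ((3 ≤ Fintype.card F ∧ Nonempty (S ≃* Lie.chevG2.group F)) ∨
        Nonempty (S ≃* Lie.chevF4.group F) ∨ Nonempty (S ≃* Lie.chevE6.group F) ∨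
        Nonempty (S ≃* Lie.chevE7.group F) ∨ Nonempty (S ≃* Lie.chevE8.group F)) → MRow p S := by
    intro F _ _ hF S _ _ _ hna hlt h
    have := charP_of_dvd hp hF
    exact ownC S hna ⟨F, _, _, this, h⟩ hlt
  intro S _ _ _ hna h hlt
  rcases h with h | h | h | h | h | h | h | h | h | h | h
  · obtain ⟨F, _, _, h3, ⟨e⟩⟩ := h
    by_cases hF : p ∣ Fintype.card F
    · exact hown F hF S hna hlt (Or.inl ⟨h3, ⟨e⟩⟩)
    · exact MExc.mrow_g2 B h5 hna hF hlt h3 e
  · obtain ⟨F, _, _, ⟨e⟩⟩ := h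
    by_cases hF : p ∣ Fintype.card F
    · exact hown F hF S hna hlt (Or.inr (Or.inl ⟨e⟩))
    · exact MExc.mrow_f4 B h5 hna hF hlt e
  · obtain ⟨F, _, _, ⟨e⟩⟩ := h
    by_cases hF : p ∣ Fintype.card F
    · exact hown F hF S hna hlt (Or.inr (Or.inr (Or.inl ⟨e⟩)))
    · exact e6_cross B A h5 hna hlt hF e
  · obtain ⟨F, _, _, ⟨e⟩⟩ := h
    by_cases hF : p ∣ Fintype.card F
    · exact hown F hF S hna hlt (Or.inr (Or.inr (Or.inr (Or.inl ⟨e⟩))))
    · exact e7_cross B A h5 hna hlt hF e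
  · obtain ⟨F, _, _, ⟨e⟩⟩ := h
    by_cases hF : p ∣ Fintype.card F
    · exact hown F hF S hna hlt (Or.inr (Or.inr (Or.inr (Or.inr ⟨e⟩))))
    · exact e8_cross B A h5 hna hlt hF e
  · obtain ⟨K, _, _, q, hq, hK, ⟨e⟩⟩ := h
    by_cases hF : p ∣ Fintype.card K
    · have := charP_of_dvd hp hF
      exact ownT S hna ⟨K, _, _, this, q, hq, Or.inl ⟨hK, ⟨e⟩⟩⟩ hlt
    · exact twE6_cross B A h5 hna hlt hq hK hF e
  · obtain ⟨K, _, _, q, hq, hK, ⟨e⟩⟩ := h
    by_cases hF : p ∣ Fintype.card K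
    · have := charP_of_dvd hp hF
      exact ownT S hna ⟨K, _, _, this, q, hq, Or.inr ⟨hK, ⟨e⟩⟩⟩ hlt
    · exact MExc.mrow_twD4 B h5 hna hq hF hlt hK e
  · obtain ⟨F, _, _, m, hm, hF, ⟨e⟩⟩ := h
    exact H28.T5Sz32.mrow_sz_all hm hF hp (by omega) e B.aa
  · obtain ⟨K, _, _, m, hm, hK, ⟨e⟩⟩ := h
    exact H28.T5RankOne.mrow_ree hm hK hp h5 e B.aa
  · obtain ⟨K, _, _, m, hm, hK, ⟨e⟩⟩ := h
    have hKp : ¬ p ∣ Fintype.card K := by
      rw [hK]
      exact fun h => not_dvd_lt (by norm_num) (by omega) (hp.dvd_of_dvd_pow h)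
    refine H28.T5TwF.mrow_twF4 hm hK hp h5 e B.aa (inner_lie B (r := 2) h5 (by omega) hna
      (Or.inr (Or.inr (Or.inr (Or.inr (Or.inr (Or.inr (Or.inr (Or.inr (Or.inr (Or.inl
        ⟨rfl, K, _, _, m, hm, hK, ⟨e⟩⟩)))))))))) (fun P => ?_) hlt)
    exact comm_of_weyl type_F4 CoxeterMatrix.F₄.toCoxeterSystem (W_F4 h5) hKp
      (e0 := (Subgroup.inclusion (genSubgroup_le_group type_F4.inList
        (Lie.f4Words K (2 ^ m)))).comp e.toMonoidHom)
      ((Subgroup.inclusion_injective (genSubgroup_le_group type_F4.inList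
        (Lie.f4Words K (2 ^ m)))).comp e.injective) P
  · by_cases hp5 : p = 5
    · subst hp5
      exact H143.T5FiTits.mrow_tits B.aa hna h
    · refine MRow.of_inner hna (fun a ha => H143.T5FiTits.inner_range (Or.inr h) hp h5 a ha)
        (inner_of_row B.aa B.irr hna (hTi p (by omega) hp5 S h) (fun P => ?_) hlt)
      apply comm_of_card
      obtain ⟨e⟩ := h
      rw [Nat.card_congr e.toEquiv, Omega.TitsIso.TitsSide.facts.2.2,
        show 17971200 = 2 ^ 11 * 3 ^ 3 * 5 ^ 2 * 13 by norm_num]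
      intro h1
      have h7 : 7 ≤ p := by
        by_contra h7
        have h8 : p = 6 := by omega
        subst h8
        revert hp; norm_num
      have h2 : ¬ p ∣ 2 ^ 11 * 3 ^ 3 * 5 ^ 2 := nd_five h7
      have h3 : (p ^ 2).Coprime (2 ^ 11 * 3 ^ 3 * 5 ^ 2) :=
        Nat.Coprime.pow_left 2 ((Nat.Prime.coprime_iff_not_dvd hp).2 h2)
      have h4 := h3.dvd_of_dvd_mul_left h1
      have h5 := Nat.le_of_dvd (by norm_num) h4
      nlinarith

end Cfsg.Agent.H106.MExcAll
end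

-- part: H28/T5AbFacts
section
/-!
# The abelian Sylow facts (T1)
-/

set_option autoImplicit false

namespace Cfsg.Agent.H28.T5AbFacts

open Cfsg Cfsg.Agent.H28.T5TorRows

/-- the order modulo `7` -/
theorem dich_seven {q : ℕ} (h0 : ¬ 7 ∣ q) (h2 : ¬ 7 ∣ q ^ 2 - 1) :
    orderOf (q : ZMod 7) = 3 ∨ orderOf (q : ZMod 7) = 6 := by
  have hq0 : (q : ZMod 7) ≠ 0 := fun h => h0 ((CharP.cast_eq_zero_iff (ZMod 7) 7 q).1 h)
  have hq1 : 1 ≤ q := Nat.pos_of_ne_zero (by rintro rfl; exact h0 (dvd_zero _))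
  have hq2 : (q : ZMod 7) ^ 2 ≠ 1 := by
    intro h
    apply h2
    rw [← CharP.cast_eq_zero_iff (ZMod 7) 7, Nat.cast_sub (Nat.one_le_pow _ _ hq1), Nat.cast_pow, Nat.cast_one,
      h, sub_self]
  have h6 : orderOf (q : ZMod 7) ∣ 6 := orderOf_dvd_of_pow_eq_one (by
    have key : ∀ x : ZMod 7, x ≠ 0 → x ^ 6 = 1 := by decide
    exact key _ hq0)
  have hn2 : ¬ orderOf (q : ZMod 7) ∣ 2 := fun h => hq2 (orderOf_dvd_iff_pow_eq_one.1 h)
  have hle := Nat.le_of_dvd (by norm_num) h6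
  generalize orderOf (q : ZMod 7) = n at h6 hn2 hle
  interval_cases n <;> revert h6 hn2 <;> decide

/-- **The abelian Sylow facts.** -/
theorem abFacts : H106.MExcAll.AbFacts where
  e6_five := fun _ _ _ h P => comm_E6 (order5 h) P
  e7_five := fun _ _ _ h P => comm_E7 (order5 h) P
  tw_five := fun _ _ _ _ hq hK h P => comm_twE6 hq hK (order5 h) P
  e7_seven := fun _ _ _ h0 h2 P => (dich_seven h0 h2).elim (fun h => comm_E7_three h P) fun h => comm_E7_six h P
  e8_seven := fun _ _ _ h0 h2 P => (dich_seven h0 h2).elim (fun h => comm_E8_three h P) fun h => comm_E8_six h P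

end Cfsg.Agent.H28.T5AbFacts
end

-- part: H957/T5Sp5
section
/-!
# The middle row of `PSp_2m(q)` in cross characteristic
-/

set_option autoImplicit false
set_option linter.unusedSectionVars false

namespace Cfsg.Agent.H957.T5RowPSp

open Cfsg Cfsg.Agent.ClassicalGeometry.SympBasic Cfsg.Agent.ClassicalGeometry.SympAutSemi
open Cfsg.Agent.ClassicalGeometry.SympGamma
open Cfsg.Agent.H862.T5.SpCore Cfsg.Agent.H862.T5.SpRow Cfsg.Agent.H533.T5
open Cfsg.Agent.H957.T5V Cfsg.Agent.H957.T5Conf Cfsg.Agent.H957.T5Pairs Cfsg.Agent.H957.T5S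
open Cfsg.Agent.H957.T5M
open Module

variable {F : Type} [Field F] [Fintype F] {m p : ℕ}

/-! ### Field automorphisms -/

theorem semi_frob (φ : F ≃+* F) : T5V.Semi φ (frobPerm m φ) :=
  ⟨(isSemi_frobPerm φ).1, (isSemi_frobPerm φ).2.1⟩

theorem frob_single (φ : F ≃+* F) (i : Fin m ⊕ Fin m) :
    frobPerm m φ (Pi.single i 1) = Pi.single i 1 := by
  funext j
  rw [frobPerm_apply]
  by_cases h : j = i
  · subst h
    rw [Pi.single_eq_same, map_one]
  · rw [Pi.single_eq_of_ne h, map_zero]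

/-- Families of fixed vectors. -/
theorem gm_fixed {φ : F ≃+* F} (hφ : φ ≠ 1) {k : ℕ} (hk : 0 < k) {G : Fin k → Fin k → F}
    {b : Fin k → VV m F} (hb : LinearIndependent F b)
    (hG : ∀ i j, sympBilin m F (b i) (b j) = G i j) (hfix : ∀ i, frobPerm m φ (b i) = b i) :
    Gm (sympBilin m F) G (frobPerm m φ) := by
  have hs := semi_frob (m := m) φ
  refine ⟨b, hb, hG, ?_, ?_⟩
  · intro w hw
    induction hw using Submodule.span_induction with
    | mem x hx =>
      obtain ⟨i, rfl⟩ := hx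
      rw [hfix]
      exact Submodule.subset_span ⟨i, rfl⟩
    | zero => rw [hs.zero]; exact Submodule.zero_mem _
    | add x y _ _ hx hy => rw [hs.add]; exact Submodule.add_mem _ hx hy
    | smul a x _ hx => rw [hs.smul]; exact Submodule.smul_mem _ _ hx
  · rintro ⟨t, ht⟩
    apply hφ
    ext a
    have h1 := ht (b ⟨0, hk⟩) (Submodule.subset_span ⟨_, rfl⟩)
    have h2 := ht (a • b ⟨0, hk⟩) (Submodule.smul_mem _ _ (Submodule.subset_span ⟨_, rfl⟩))
    rw [hfix] at h1
    have hne := hb.ne_zero ⟨0, hk⟩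
    have h3 : (1 - t) • b ⟨0, hk⟩ = 0 := by rw [sub_smul, one_smul, ← h1, sub_self]
    have h4 : t = 1 := (sub_eq_zero.1 ((smul_eq_zero.1 h3).resolve_right hne)).symm
    rw [h4, one_smul, hs.smul, hfix] at h2
    have h5 : (φ a - a) • b ⟨0, hk⟩ = 0 := by rw [sub_smul, h2, sub_self]
    exact sub_eq_zero.1 ((smul_eq_zero.1 h5).resolve_right hne)

theorem gm_hyp_frob (hm : 0 < m) {φ : F ≃+* F} (hφ : φ ≠ 1) :
    Gm (sympBilin m F) hyp (frobPerm m φ) := by
  refine gm_fixed hφ (by norm_num)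
    (b := ![Pi.single (Sum.inr ⟨0, hm⟩) 1, Pi.single (Sum.inl ⟨0, hm⟩) 1]) ?_ ?_ ?_
  · rw [li2_iff]
    intro x y h
    have h1 := congrFun h (Sum.inr ⟨0, hm⟩)
    have h2 := congrFun h (Sum.inl ⟨0, hm⟩)
    simp at h1 h2
    exact ⟨h1, h2⟩
  · intro i j
    fin_cases i <;> fin_cases j <;> simp [hyp, sympForm_single_inr_left, sympForm_single_inl_left]
  · intro i
    fin_cases i <;> exact frob_single φ _

theorem gm_zero_frob {φ : F ≃+* F} (hφ : φ ≠ 1) {e : ℕ} (he0 : 0 < e) (he : e ≤ m) :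
    Gm (sympBilin m F) (fun _ _ : Fin e => 0) (frobPerm m φ) := by
  refine gm_fixed hφ he0
    (b := fun i => Pi.single (Sum.inl (Fin.castLE he i)) 1) ?_ ?_ ?_
  · have h1 : LinearIndependent F (fun i : Fin m ⊕ Fin m => (Pi.single i 1 : VV m F)) := by
      have := (Pi.basisFun F (Fin m ⊕ Fin m)).linearIndependent
      have e : (⇑(Pi.basisFun F (Fin m ⊕ Fin m))) = fun i => (Pi.single i 1 : VV m F) := by
        funext i
        exact Pi.basisFun_apply F _ i
      rwa [e] at this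
    refine h1.comp (fun i : Fin e => Sum.inl (Fin.castLE he i)) ?_
    intro i j hij
    exact Fin.castLE_injective he (Sum.inl_injective hij)
  · intro i j
    simp [sympForm_single_inl_left]
  · intro i
    exact frob_single φ _

theorem ri_frob (hm : 2 ≤ m) {φ : F ≃+* F} (hφ : φ ≠ 1) : RI (sympBilin m F) (frobPerm m φ) := by
  obtain ⟨b, hb⟩ : ∃ b, φ b ≠ b := by
    by_contra h
    push Not at h
    exact hφ (RingEquiv.ext h)
  have h01 : (⟨0, by omega⟩ : Fin m) ≠ ⟨1, by omega⟩ := by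
    intro h
    have := congrArg Fin.val h
    simp at this
  generalize (⟨0, by omega⟩ : Fin m) = i0 at h01
  generalize (⟨1, by omega⟩ : Fin m) = i1 at h01
  have h10 := h01.symm
  have hs := semi_frob (m := m) φ
  have hc : frobPerm m φ (Pi.single (Sum.inr i1) 1 + b • Pi.single (Sum.inl i1) 1)
      = Pi.single (Sum.inr i1) 1 + φ b • Pi.single (Sum.inl i1) 1 := by
    rw [hs.add, hs.smul, frob_single, frob_single]
  refine ⟨Pi.single (Sum.inr i1) 1 + b • Pi.single (Sum.inl i1) 1, Pi.single (Sum.inl i0) 1,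
    frob_single φ _, ?_, ?_, ?_, ?_⟩
  · simp [sympForm_single_inl_left, h01]
  · rw [hc]
    simp [sympForm_single_inl_left, h01]
  · rw [hc]
    simp [sympForm_single_inl_left, sympForm_single_inr_left]
    intro h
    apply hb
    linear_combination h
  · rw [hc, li3_iff]
    intro x y z h
    have e1 := congrFun h (Sum.inl i0)
    have e2 := congrFun h (Sum.inr i1)
    have e3 := congrFun h (Sum.inl i1)
    simp [h01, h10] at e1 e2 e3
    have hz : z * (φ b - b) = 0 := by linear_combination e3 - b * e2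
    have hz0 := (mul_eq_zero.1 hz).resolve_right (sub_ne_zero.2 hb)
    subst hz0
    refine ⟨e1, ?_, rfl⟩
    simpa using e2

/-! ### Transfer -/

theorem semi_rho (A : Matrix.symplecticGroup (Fin m) F) :
    T5V.Semi (1 : F ≃+* F) (rho m F A) := ⟨(isSemi_rho A).1, (isSemi_rho A).2.1⟩

theorem li1_rho {A : Matrix.symplecticGroup (Fin m) F} (hp : p.Prime) (hA : orderOf A = p) :
    LI1 (sympBilin m F) p (rho m F A) where
  semi := semi_rho A
  form := fun u v => by
    have h := (isSemi_rho A).2.2 u v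
    rw [one_mul] at h
    exact h
  cp := by rw [← map_pow, ← hA, pow_orderOf_eq_one, map_one]
  ne := by
    intro h
    have h1 : A = 1 := by
      apply rho_injective
      rw [map_one, h]
    rw [h1, orderOf_one] at hA
    exact hp.one_lt.ne hA

theorem mpair_of_sp (hm : 1 ≤ m) {g₁ g₂ : semiSim m F} (h : SP (sympBilin m F) p g₁.1 g₂.1) :
    MPair p (MulAut.conj : PSp m F →* MulAut (PSp m F)).range (Psi m F g₁) (Psi m F g₂) := by
  obtain ⟨T, hT, i, j, h⟩ := h
  obtain ⟨C, hC⟩ := Cfsg.Agent.H951.exists_Sp_of_equiv T (fun u v => hT u v)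
  have hCT : rho m F C = toA T := by
    ext1 v
    have h1 := LinearMap.congr_fun hC v
    rw [Matrix.toLin'_apply] at h1
    exact h1
  refine ⟨MulAut.conj (QuotientGroup.mk C : PSp m F), ⟨_, rfl⟩, i, j, fun k hk => h k ?_⟩
  rw [← Psi_lin, ← map_inv, ← map_mul, ← map_mul, ← map_pow, ← map_pow, ← map_mul,
    ← map_pow] at hk
  obtain ⟨a, ha⟩ := exists_scal hm hk
  rw [← hCT]
  exact ⟨a, ha⟩

theorem MPair.conj_right' {X : Type*} [Group X] {S : Subgroup X} {c d s : X} (hs : s ∈ S)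
    (h : MPair p S c d) : MPair p S c (s * d * s⁻¹) := by
  refine MPair.conj_right (S.inv_mem hs) ?_
  have e : s⁻¹ * (s * d * s⁻¹) * s⁻¹⁻¹ = d := by group
  rw [e]
  exact h

theorem frob_scal {φ : F ≃+* F} (hφ : orderOf φ = p) : IsScal F (frobPerm m φ ^ p) := by
  have h1 : frobS m φ ^ p = 1 := by
    rw [frobS_pow, ← hφ, pow_orderOf_eq_one]
    apply Subtype.ext
    ext1 v
    rfl
  have h2 : frobPerm m φ ^ p = 1 := congrArg Subtype.val h1
  exact ⟨1, fun v => by rw [h2, one_smul]; rfl⟩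

theorem ne_one_of_order {φ : F ≃+* F} (hp : p.Prime) (hφ : orderOf φ = p) : φ ≠ 1 := by
  intro h
  rw [h, orderOf_one] at hφ
  exact hp.one_lt.ne hφ

/-- **The middle row of `PSp_2m(q)`**, `p ≥ 5` prime to `q`. -/
theorem mrow_psp (hm : 2 ≤ m) (h22 : m = 2 → 3 ≤ Fintype.card F) (hp : p.Prime) (h5 : 5 ≤ p)
    (hpF : (p : F) ≠ 0) : MRow p (PSp m F) := by
  have : Fact p.Prime := ⟨hp⟩
  have hp2 : p ≠ 2 := by omega
  have hodd : Odd p := hp.odd_of_ne_two hp2
  have hsimple : IsSimpleGroup (PSp m F) := S0270.result m hm h22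
  have hna : ¬ IsMulCommutative (PSp m F) := Cfsg.Agent.H458.RowPSp.not_comm hm h22
  have hB : (sympBilin m F).Nondegenerate := sympBilin_nondegenerate
  have hA : (sympBilin m F).IsAlt := sympBilin_isAlt
  -- inner elements
  have hin : ∀ s' : PSp m F, orderOf (MulAut.conj s') = p → ∃ A : Matrix.symplecticGroup (Fin m) F,
      s' = QuotientGroup.mk A ∧ orderOf A = p := by
    intro s' hs'
    have h1 : orderOf s' = p := by
      rw [← hs']
      exact (orderOf_injective _ (conj_injective_of_simple hna) s').symm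
    obtain ⟨A, hA, hA'⟩ := Cfsg.Agent.H458.SpOp.exists_lift (by omega) hp hp2 s' h1
    exact ⟨A, hA.symm, hA'⟩
  -- the order of `q`
  obtain ⟨e, he⟩ : ∃ e, orderOf ((Fintype.card F : ℕ) : ZMod p) = e := ⟨_, rfl⟩
  have he0 : 0 < e := by
    rw [← he]
    exact Cfsg.Agent.H951.ord_pos hpF
  have scal1 : ∀ {x : Equiv.Perm (VV m F)}, x ^ p = 1 → IsScal F (x ^ p) := fun h =>
    ⟨1, fun v => by rw [h, one_smul]; rfl⟩
  -- planes
  have hpl : e ≤ 2 → ∀ A : Matrix.symplecticGroup (Fin m) F, orderOf A = p →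
      Gm (sympBilin m F) hyp (rho m F A) := by
    intro h2 A hA'
    rcases Nat.lt_or_ge e 2 with h3 | h3
    · have he1 : e = 1 := by omega
      refine gm_split hB hp hp2 ?_ (li1_rho hp hA') hA
      rw [he1, orderOf_eq_one_iff] at he
      rw [← ZMod.natCast_eq_zero_iff, Nat.cast_sub Fintype.card_pos, he]
      push_cast
      ring
    · exact gm_two hB hA hp hp2 hpF (by rw [he]; omega) (li1_rho hp hA')
  -- linear, linear
  have hLL : ∀ A A' : Matrix.symplecticGroup (Fin m) F, orderOf A = p → orderOf A' = p →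
      SP (sympBilin m F) p (rho m F A) (rho m F A') := by
    intro A A' h1 h2
    have l1 := li1_rho hp h1
    have l2 := li1_rho hp h2
    rcases Nat.lt_or_ge 2 e with h3 | h3
    · rcases Nat.even_or_odd e with hev | hod
      · obtain ⟨k, hk⟩ := hev
        have hk' : orderOf ((Fintype.card F : ℕ) : ZMod p) = 2 * k := by omega
        exact sp_K hB hA hpF l1.semi l2.semi l1.form l2.form
          (dt_even hB hA hp hp2 hpF (by omega) hk' l1) (dt_even hB hA hp hp2 hpF (by omega) hk' l2)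
      · exact sp_ti hB hA (by omega) hp h5 hpF l1.semi l2.semi (scal1 l1.cp) (scal1 l2.cp)
          (gm_odd hA hp hpF he hod h3 l1) (gm_odd hA hp hpF he hod h3 l2)
    · exact sp_plane hB hA hp h5 hpF l1.semi l2.semi (scal1 l1.cp) (scal1 l2.cp)
        (hpl h3 A h1) (hpl h3 A' h2)
  -- linear, field
  have hLF : ∀ (A : Matrix.symplecticGroup (Fin m) F) (φ : F ≃+* F), orderOf A = p →
      orderOf φ = p → SP (sympBilin m F) p (rho m F A) (frobPerm m φ) := by
    intro A φ h1 hφ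
    have l1 := li1_rho hp h1
    have hφ1 := ne_one_of_order hp hφ
    rcases Nat.lt_or_ge 2 e with h3 | h3
    · rcases Nat.even_or_odd e with hev | hod
      · obtain ⟨k, hk⟩ := hev
        have hk' : orderOf ((Fintype.card F : ℕ) : ZMod p) = 2 * k := by omega
        exact sp_R hB hA hpF l1.semi (semi_frob φ) l1.form
          (dt_even hB hA hp hp2 hpF (by omega) hk' l1) (ri_frob hm hφ1)
      · have h4 : e ≤ m := by
          have h5' := dd_le h5 hpF hm h1
          unfold dd at h5'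
          rw [he, if_neg (Nat.not_even_iff_odd.2 hod)] at h5'
          have h6 := le_max_left (2 * e) 4
          omega
        exact sp_ti hB hA (by omega) hp h5 hpF l1.semi (semi_frob φ) (scal1 l1.cp) (frob_scal hφ)
          (gm_odd hA hp hpF he hod h3 l1) (gm_zero_frob hφ1 he0 h4)
    · exact sp_plane hB hA hp h5 hpF l1.semi (semi_frob φ) (scal1 l1.cp) (frob_scal hφ)
        (hpl h3 A h1) (gm_hyp_frob (by omega) hφ1)
  -- field, field
  have hFF : ∀ (φ ψ : F ≃+* F), orderOf φ = p →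
      orderOf ψ = p → SP (sympBilin m F) p (frobPerm m φ) (frobPerm m ψ) := by
    intro φ ψ hφ hψ
    exact sp_plane hB hA hp h5 hpF (semi_frob φ) (semi_frob ψ) (frob_scal hφ) (frob_scal hψ)
      (gm_hyp_frob (by omega) (ne_one_of_order hp hφ))
      (gm_hyp_frob (by omega) (ne_one_of_order hp hψ))
  intro c d hc hd
  have hcase : ∀ a : MulAut (PSp m F), orderOf a = p → (∃ A : Matrix.symplecticGroup (Fin m) F, orderOf A = p ∧
      a = Psi m F (lin A)) ∨ ∃ (φ : F ≃+* F), orderOf φ = p ∧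
      ∃ s ∈ (MulAut.conj : PSp m F →* MulAut (PSp m F)).range, a = s * Psi m F (frobS m φ) * s⁻¹ := by
    intro a ha
    have hap : a ^ p = 1 := by rw [← ha, pow_orderOf_eq_one]
    rcases Cfsg.Agent.H458.SpAut.inner_or_field hm h22 hodd hap with ⟨s, rfl⟩ | ⟨g, φ, l, hl, hg, hφ, rfl⟩
    · obtain ⟨A, rfl, hA⟩ := hin s ha
      exact Or.inl ⟨A, hA, (Psi_lin A).symm⟩
    · obtain ⟨h1, h2⟩ := exists_inner_conj hm h22 hp hp2 hl hg hap hφ
      exact Or.inr ⟨φ, h1, h2⟩
  have hm1 : 1 ≤ m := by omega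
  rcases hcase c hc with ⟨A, hA', rfl⟩ | ⟨φ, hφ, s, hs, rfl⟩ <;>
    rcases hcase d hd with ⟨A', hA'', rfl⟩ | ⟨ψ, hψ, t, ht, rfl⟩
  · exact mpair_of_sp hm1 (hLL A A' hA' hA'')
  · exact MPair.conj_right' ht (mpair_of_sp hm1 (g₁ := lin A) (g₂ := frobS m ψ) (hLF A ψ hA' hψ))
  · exact (MPair.conj_right' hs (mpair_of_sp hm1 (g₁ := lin A') (g₂ := frobS m φ)
      (hLF A' φ hA'' hφ))).symm
  · exact MPair.conj_right' ht (MPair.symm (MPair.conj_right' hs
      (mpair_of_sp hm1 (g₁ := frobS m ψ) (g₂ := frobS m φ) (hFF ψ φ hψ hφ))))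

end Cfsg.Agent.H957.T5RowPSp
end

-- part: H131/SolvP
section
/-!
# Solvable normal closures of `p`-elements (helper131)

`isPGroup_normalClosure` : `x` is a `p`-element of the finite group `K`, all `x⁻¹ x ^ g` are `p`-elements and the normal
closure of `x` is solvable; then the normal closure is a `p`-group.
-/

set_option autoImplicit false

universe u

namespace Cfsg.Agent.H131.SolvP

open Subgroup
open scoped commutatorElement

/-- a solvable normal subgroup contains a normal `r`-subgroup -/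
theorem exists_normal_rgroup {K : Type u} [Group K] [Finite K] {D : Subgroup K} [hDn : D.Normal]
    (hs : Group.IsSolvable ↥D) (hD : D ≠ ⊥) :
    ∃ (r : ℕ) (N : Subgroup K), r.Prime ∧ N.Normal ∧ N ≤ D ∧ N ≠ ⊥ ∧ IsPGroup r ↥N := by
  classical
  obtain ⟨m, hm⟩ := hs
  have hex : ∃ n, derivedSeries ↥D n = ⊥ := ⟨m, hm⟩
  have h0 : Nat.find hex ≠ 0 := by
    intro h
    have h1 := Nat.find_spec hex
    rw [h, derivedSeries_zero] at h1
    apply hD
    rw [eq_bot_iff]
    intro d hd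
    have h2 : (⟨d, hd⟩ : ↥D) ∈ (⊤ : Subgroup ↥D) := mem_top _
    rw [h1, mem_bot] at h2
    exact congrArg Subtype.val h2
  obtain ⟨n, hn⟩ := Nat.exists_eq_succ_of_ne_zero h0
  have hA1 : derivedSeries ↥D n ≠ ⊥ := Nat.find_min hex (by omega)
  have hA2 : derivedSeries ↥D (n + 1) = ⊥ := by
    have := Nat.find_spec hex
    rwa [hn] at this
  let A : Subgroup K := (derivedSeries ↥D n).map D.subtype
  have hAn : A.Normal := ConjAct.normal_of_characteristic_of_normal
  have hAD : A ≤ D := by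
    rintro _ ⟨a, -, rfl⟩
    exact a.2
  have hAc : ∀ a ∈ A, ∀ b ∈ A, a * b = b * a := by
    rintro _ ⟨a, ha, rfl⟩ _ ⟨b, hb, rfl⟩
    have h1 : ⁅a, b⁆ ∈ derivedSeries ↥D (n + 1) := by
      rw [derivedSeries_succ]
      exact commutator_mem_commutator ha hb
    rw [hA2, mem_bot, commutatorElement_eq_one_iff_mul_comm] at h1
    exact congrArg Subtype.val h1
  have hAb : A ≠ ⊥ := by
    intro h
    apply hA1
    exact (Subgroup.map_eq_bot_iff_of_injective _ (Subgroup.subtype_injective D)).1 h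
  have hcard : Nat.card ↥A ≠ 1 := fun h => hAb (Subgroup.card_eq_one.1 h)
  obtain ⟨r, hr, hrA⟩ := Nat.exists_prime_and_dvd hcard
  have hrf : Fact r.Prime := ⟨hr⟩
  have hcom : ∀ {a b : K}, a ∈ A → b ∈ A → Commute a b := fun ha hb => hAc _ ha _ hb
  let N : Subgroup K :=
    { carrier := {a | a ∈ A ∧ ∃ k : ℕ, a ^ r ^ k = 1}
      one_mem' := ⟨one_mem _, 0, one_pow _⟩
      mul_mem' := by
        rintro a b ⟨ha, k, hk⟩ ⟨hb, l, hl⟩
        refine ⟨mul_mem ha hb, k + l, ?_⟩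
        rw [(hcom ha hb).mul_pow, pow_add, pow_mul, hk, one_pow, one_mul, mul_comm, pow_mul, hl, one_pow]
      inv_mem' := by
        rintro a ⟨ha, k, hk⟩
        exact ⟨inv_mem ha, k, by rw [inv_pow, hk, inv_one]⟩ }
  refine ⟨r, N, hr, ⟨?_⟩, fun a ha => hAD ha.1, ?_, ?_⟩
  · rintro a ⟨ha, k, hk⟩ g
    exact ⟨hAn.conj_mem a ha g, k, by rw [conj_pow, hk]; group⟩
  · obtain ⟨a, ha⟩ := exists_prime_orderOf_dvd_card' (G := ↥A) r hrA
    intro h
    have h1 : (a : K) ∈ N := ⟨a.2, 1, by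
      rw [pow_one, ← Subgroup.coe_pow, ← ha, pow_orderOf_eq_one, Subgroup.coe_one]⟩
    rw [h, mem_bot] at h1
    have h2 : a = 1 := Subtype.ext h1
    rw [h2, orderOf_one] at ha
    exact hr.one_lt.ne ha
  · rintro ⟨a, ha, k, hk⟩
    exact ⟨k, Subtype.ext hk⟩

/-- **solvable normal closures** -/
theorem isPGroup_normalClosure {p : ℕ} [hp : Fact p.Prime] (n : ℕ) :
    ∀ (K : Type u) [Group K] [Finite K] (x : K), Nat.card K ≤ n → (∃ k : ℕ, x ^ p ^ k = 1) →
      (∀ g : K, ∃ k : ℕ, (x⁻¹ * (g * x * g⁻¹)) ^ p ^ k = 1) →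
      Group.IsSolvable ↥(normalClosure {x} : Subgroup K) → IsPGroup p ↥(normalClosure {x} : Subgroup K) := by
  induction n with
  | zero =>
    intro K _ _ x hK
    have := Nat.card_pos (α := K)
    omega
  | succ n ih =>
    intro K _ _ x hK hx hg hs
    by_cases hD : (normalClosure {x} : Subgroup K) = ⊥
    · rw [hD]
      exact IsPGroup.of_bot
    obtain ⟨r, N, hr, hN, hND, hNb, hNr⟩ := exists_normal_rgroup hs hD
    -- the quotient
    have hmap : (normalClosure {x} : Subgroup K).map (QuotientGroup.mk' N) =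
        normalClosure {QuotientGroup.mk' N x} := by
      rw [Subgroup.map_normalClosure _ _ (QuotientGroup.mk'_surjective N), Set.image_singleton]
    have hcard : Nat.card (K ⧸ N) ≤ n := by
      have h1 := Subgroup.card_eq_card_quotient_mul_card_subgroup N
      have h2 : 1 < Nat.card ↥N := by
        rw [← not_le]
        intro h
        have h3 : Nat.card ↥N = 1 := le_antisymm h Nat.card_pos
        exact hNb (Subgroup.card_eq_one.1 h3)
      have h3 : 0 < Nat.card (K ⧸ N) := Nat.card_pos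
      nlinarith
    have hpq : IsPGroup p ↥(normalClosure {QuotientGroup.mk' N x} : Subgroup (K ⧸ N)) := by
      refine ih (K ⧸ N) (QuotientGroup.mk' N x) hcard ?_ ?_ ?_
      · obtain ⟨k, hk⟩ := hx
        exact ⟨k, by rw [← map_pow, hk, map_one]⟩
      · intro g
        obtain ⟨g, rfl⟩ := QuotientGroup.mk'_surjective N g
        obtain ⟨k, hk⟩ := hg g
        refine ⟨k, ?_⟩
        rw [← map_inv, ← map_inv, ← map_mul, ← map_mul, ← map_mul, ← map_pow, hk, map_one]
      · rw [← hmap]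
        exact Group.isSolvable_of_surjective (f := (QuotientGroup.mk' N).subgroupMap _)
          ((QuotientGroup.mk' N).subgroupMap_surjective _)
    have hpow : ∀ y ∈ (normalClosure {x} : Subgroup K), ∃ k : ℕ, y ^ p ^ k ∈ N := by
      intro y hy
      have h1 : QuotientGroup.mk' N y ∈ (normalClosure {QuotientGroup.mk' N x} : Subgroup (K ⧸ N)) := by
        rw [← hmap]
        exact mem_map_of_mem _ hy
      obtain ⟨k, hk⟩ := hpq ⟨_, h1⟩
      refine ⟨k, ?_⟩
      have h2 : QuotientGroup.mk' N (y ^ p ^ k) = 1 := by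
        rw [map_pow]
        exact congrArg Subtype.val hk
      exact (QuotientGroup.eq_one_iff _).1 h2
    by_cases hrp : r = p
    · subst hrp
      rintro ⟨y, hy⟩
      obtain ⟨k, hk⟩ := hpow y hy
      obtain ⟨l, hl⟩ := hNr ⟨_, hk⟩
      have h3 : (y ^ r ^ k) ^ r ^ l = 1 := congrArg Subtype.val hl
      refine ⟨k + l, Subtype.ext ?_⟩
      change y ^ r ^ (k + l) = 1
      rw [pow_add, pow_mul, h3]
    · -- `x` centralizes `N`
      have hxN : ∀ m ∈ N, m * x = x * m := by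
        intro m hm
        have h1 : x⁻¹ * (m * x * m⁻¹) ∈ N := by
          have h2 : x⁻¹ * (m * x * m⁻¹) = (x⁻¹ * m * x⁻¹⁻¹) * m⁻¹ := by group
          rw [h2]
          exact mul_mem (hN.conj_mem m hm x⁻¹) (inv_mem hm)
        obtain ⟨k, hk⟩ := hg m
        obtain ⟨l, hl⟩ := hNr ⟨_, h1⟩
        have hl' : (x⁻¹ * (m * x * m⁻¹)) ^ r ^ l = 1 := congrArg Subtype.val hl
        have h3 := orderOf_dvd_of_pow_eq_one hk
        have h4 := orderOf_dvd_of_pow_eq_one hl'
        have h5 : Nat.Coprime (p ^ k) (r ^ l) :=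
          Nat.Coprime.pow _ _ ((Nat.coprime_primes hp.out hr).2 (fun h => hrp h.symm))
        have h6 : orderOf (x⁻¹ * (m * x * m⁻¹)) = 1 := Nat.dvd_one.1 (h5 ▸ Nat.dvd_gcd h3 h4)
        rw [orderOf_eq_one_iff, inv_mul_eq_one] at h6
        nth_rewrite 2 [h6]
        group
      have hcen : (normalClosure {x} : Subgroup K) ≤ centralizer (N : Set K) := by
        refine normalClosure_le_normal ?_
        rintro y rfl
        rw [SetLike.mem_coe, mem_centralizer_iff]
        exact fun m hm => hxN m hm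
      -- the normal closure is nilpotent
      have hnil : Group.IsNilpotent ↥(normalClosure {x} : Subgroup K) := by
        have h1 : Group.IsNilpotent ↥((normalClosure {x} : Subgroup K).map (QuotientGroup.mk' N)) := by
          rw [hmap]
          exact hpq.isNilpotent
        refine Subgroup.isNilpotent_of_ker_le_center ((QuotientGroup.mk' N).subgroupMap (normalClosure {x})) ?_
        rintro ⟨y, hy⟩ hyk
        have h2 : QuotientGroup.mk' N y = 1 := congrArg Subtype.val ((MonoidHom.mem_ker).1 hyk)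
        have h3 : y ∈ N := (QuotientGroup.eq_one_iff _).1 h2
        rw [mem_center_iff]
        rintro ⟨d, hd⟩
        refine Subtype.ext ?_
        exact (mem_centralizer_iff.1 (hcen hd) y h3).symm
      obtain ⟨P⟩ : Nonempty (Sylow p ↥(normalClosure {x} : Subgroup K)) := inferInstance
      have hPn : (P : Subgroup ↥(normalClosure {x} : Subgroup K)).Normal := by
        have h4 := ((Group.isNilpotent_of_finite_tfae (G := ↥(normalClosure {x} : Subgroup K))).out 0 3 rfl rfl).1 hnil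
        exact h4 p hp P
      have hPc := Sylow.characteristic_of_normal P hPn
      have hPK : ((P : Subgroup ↥(normalClosure {x} : Subgroup K)).map
          (normalClosure {x} : Subgroup K).subtype).Normal := ConjAct.normal_of_characteristic_of_normal
      have hxD : x ∈ (normalClosure {x} : Subgroup K) := subset_normalClosure rfl
      have hxP : (⟨x, hxD⟩ : ↥(normalClosure {x} : Subgroup K)) ∈ (P : Subgroup _) := by
        obtain ⟨k, hk⟩ := hx
        have h1 : IsPGroup p ↥(zpowers (⟨x, hxD⟩ : ↥(normalClosure {x} : Subgroup K))) := by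
          refine IsPGroup.of_card_dvd_pow (n := k) ?_
          rw [Nat.card_zpowers]
          exact orderOf_dvd_of_pow_eq_one (Subtype.ext hk)
        obtain ⟨Q, hQ⟩ := h1.exists_le_sylow
        have hu := Sylow.unique_of_normal P hPn
        have h2 : Q = P := (hu.uniq Q).trans (hu.uniq P).symm
        rw [← h2]
        exact hQ (mem_zpowers _)
      have hle : (normalClosure {x} : Subgroup K) ≤ (P : Subgroup ↥(normalClosure {x} : Subgroup K)).map
          (normalClosure {x} : Subgroup K).subtype := by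
        refine normalClosure_le_normal ?_
        rintro y rfl
        exact ⟨_, hxP, rfl⟩
      exact (P.2.map _).to_le hle

end Cfsg.Agent.H131.SolvP
end

-- part: H131/MThirteen
section
/-!
# The middle row of the Monster, `p = 13` (helper131, S2275)
-/

set_option autoImplicit false
set_option linter.unusedSectionVars false
set_option maxRecDepth 100000

namespace Cfsg.Agent.H131.T5M13

open Subgroup Cfsg.Agent.H131.T5Cube
open Cfsg.Agent.H957.T5M Cfsg.Agent.H106.MB Cfsg.Agent.H106.MT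

universe u

section

variable {G : Type u} [Group G] [Finite G] {x z t : G} {Q R W : Subgroup G}

/-- **the mixed pairs** -/
theorem D.mmixed_x (hAA : AAHyp.{u} 13) (h : D x z t Q) (hr : RW x R W) {a : G} (ha : orderOf a = 13) (haR : a ∈ R)
    (hza : ¬ TB z a) : MPair 13 (⊤ : Subgroup G) a x := by
  have hp : Fact (Nat.Prime 13) := ⟨by norm_num⟩
  have hax : a ∉ zpowers x := by
    intro h1
    obtain ⟨k, hk⟩ := mem_zpowers_iff.1 h1
    exact hza (h.tb_of_pow (k := k) (by rw [hk]))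
  by_contra hcon
  rw [not_mpair_iff (isOfFinOrder_of_finite a) (isOfFinOrder_of_finite x)] at hcon
  have hxx : orderOf x = 13 := h.hyp.hx
  have ha13 : a ^ 13 = 1 := by rw [← ha, pow_orderOf_eq_one]
  have hall : ∀ c ∈ zpowers x, ∀ g : G, ∃ k : ℕ, (a * c * (g * x * g⁻¹)) ^ 13 ^ k = 1 := by
    intro c hc g
    obtain ⟨r, hrR, hra⟩ := hr.cu.exists_conj haR hax hc
    obtain ⟨k, hk⟩ := hcon (r⁻¹ * g) (mem_top _) 1 1
    refine ⟨k, ?_⟩
    have e : a * c * (g * x * g⁻¹) = r * (a ^ (1 : ℤ) * (r⁻¹ * g * x * (r⁻¹ * g)⁻¹) ^ (1 : ℤ)) * r⁻¹ := by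
      rw [← hra]
      group
    rw [e, conj_pow, hk]
    group
  have hax' : a * x = x * a := hr.cu.cen a haR
  have hxC : x ∈ centralizer ({a} : Set G) := mem_centralizer_singleton_iff.2 hax'.symm
  let x' : ↥(centralizer ({a} : Set G)) := ⟨x, hxC⟩
  have hx' : orderOf x' = 13 := by rw [Subgroup.orderOf_mk, hxx]
  have hallC : ∀ m : ℤ, ∀ g : ↥(centralizer ({a} : Set G)), ∃ k : ℕ, (x' ^ m * (g * x' * g⁻¹)) ^ 13 ^ k = 1 := by
    intro m g
    have hga : (g : G) * a = a * g := mem_centralizer_singleton_iff.1 g.2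
    obtain ⟨k, hk⟩ := hall (x ^ m) (zpow_mem (mem_zpowers x) m) g
    refine ⟨k + 1, Subtype.ext ?_⟩
    change (x ^ m * ((g : G) * x * (g : G)⁻¹)) ^ 13 ^ (k + 1) = 1
    have c1 : Commute a x := hax'
    have c2 : Commute a (g : G) := hga.symm
    have c3 : Commute a (x ^ m * ((g : G) * x * (g : G)⁻¹)) :=
      (c1.zpow_right m).mul_right ((c2.mul_right c1).mul_right c2.inv_right)
    rw [mul_assoc, c3.mul_pow] at hk
    have h1 : a ^ 13 ^ (k + 1) = 1 := by rw [pow_succ', pow_mul, ha13, one_pow]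
    have h2 : (a ^ 13 ^ k * (x ^ m * ((g : G) * x * (g : G)⁻¹)) ^ 13 ^ k) ^ 13 = 1 := by rw [hk, one_pow]
    rw [(c3.pow_pow _ _).mul_pow, ← pow_mul, ← pow_mul, ← pow_succ, h1, one_mul] at h2
    exact h2
  have hsol : Group.IsSolvable ↥(normalClosure {x'} : Subgroup ↥(centralizer ({a} : Set G))) := by
    have h1 := hAA ↥(centralizer ({a} : Set G)) x' hx' (fun g => by
      obtain ⟨k, hk⟩ := hallC 1 g
      exact ⟨k, by rwa [zpow_one] at hk⟩)
    have h2 : (normalClosure {x'} : Subgroup ↥(centralizer ({a} : Set G))) ≤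
        Subgroup.closure {y | ∃ g : ↥(centralizer ({a} : Set G)), y = g * x' * g⁻¹} := by
      rw [normalClosure]
      refine (Subgroup.closure_le _).2 ?_
      intro y hy
      obtain ⟨b, hb, hby⟩ := Group.mem_conjugatesOfSet_iff.1 hy
      obtain ⟨g, hg⟩ := isConj_iff.1 hby
      rw [Set.mem_singleton_iff] at hb
      exact Subgroup.subset_closure ⟨g, by rw [← hg, hb]⟩
    exact Group.isSolvable_of_isSolvable_injective (Subgroup.inclusion_injective h2)
  have hN : IsPGroup 13 ↥(normalClosure {x'} : Subgroup ↥(centralizer ({a} : Set G))) := by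
    refine SolvP.isPGroup_normalClosure _ _ x' le_rfl ⟨1, ?_⟩ (fun g => ?_) hsol
    · rw [pow_one, ← hx', pow_orderOf_eq_one]
    · obtain ⟨k, hk⟩ := hallC (-1) g
      exact ⟨k, by rwa [zpow_neg_one] at hk⟩
  -- the normal subgroup `E`
  let a' : ↥(centralizer ({a} : Set G)) := ⟨a, mem_centralizer_singleton_iff.2 rfl⟩
  have hac : ∀ g : ↥(centralizer ({a} : Set G)), g * a' = a' * g := fun g =>
    Subtype.ext (mem_centralizer_singleton_iff.1 g.2)
  have han : (zpowers a').Normal := by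
    constructor
    intro c hc g
    obtain ⟨k, rfl⟩ := mem_zpowers_iff.1 hc
    have h4 : g * a' ^ k * g⁻¹ = a' ^ k := by
      rw [mul_inv_eq_iff_eq_mul]
      exact ((show Commute g a' from hac g).zpow_right k).eq
    rw [h4]
    exact zpow_mem (mem_zpowers a') k
  have hap : IsPGroup 13 ↥(zpowers a') := zp (by rw [Subgroup.orderOf_mk, ha])
  set N : Subgroup ↥(centralizer ({a} : Set G)) := Subgroup.normalClosure {x'} with hNdef
  have hNn : N.Normal := Subgroup.normalClosure_normal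
  have hEp : IsPGroup 13 ↥(N ⊔ zpowers a') := hN.to_sup_of_normal_right hap
  have hEn : (N ⊔ zpowers a').Normal := inferInstance
  have hxN : x' ∈ N ⊔ zpowers a' := mem_sup_left (Subgroup.subset_normalClosure rfl)
  have haN : a' ∈ N ⊔ zpowers a' := mem_sup_right (mem_zpowers a')
  have hEc : Nat.card ↥(N ⊔ zpowers a') ≤ 13 ^ 2 := by
    obtain ⟨n, hn⟩ := IsPGroup.iff_card.1 hEp
    rw [hn]
    refine Nat.pow_le_pow_right (by norm_num) ?_
    by_contra hlt
    exact h.bad_cent hr ha hza ((pow_dvd_pow 13 (by omega)).trans (hn ▸ Subgroup.card_subgroup_dvd_card _))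
  -- `E = R ∩ C(a)`
  have hEeq : (N ⊔ zpowers a').map (centralizer ({a} : Set G)).subtype = R ⊓ centralizer ({a} : Set G) := by
    have h5 := hr.cu.card_cent haR hax
    symm
    refine Subgroup.eq_of_le_of_card_ge ?_ (by
      rw [Subgroup.card_map_of_injective (Subgroup.subtype_injective _), h5]; exact hEc)
    intro e he
    obtain ⟨k, c, hc, hk⟩ := exists_pow hr.cu (hr.cu.cent_mem haR hax)
      (mem_inf.2 ⟨haR, mem_centralizer_singleton_iff.2 rfl⟩) hax he
    obtain ⟨j, rfl⟩ := mem_zpowers_iff.1 hc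
    refine ⟨a' ^ k * x' ^ j, mul_mem (zpow_mem haN k) (zpow_mem hxN j), ?_⟩
    rw [hk]
    rfl
  -- a conjugate of `t` in `C(a)`
  obtain ⟨a0, ha0, hat0, hb0⟩ := h.exists_bad
  obtain ⟨k, hk⟩ := h.bad_conj' hr ha0 ha hb0 hza
  obtain ⟨c, hc⟩ := isConj_iff.1 hk
  have htC : (c * t * c⁻¹) * a = a * (c * t * c⁻¹) := by
    rw [← hc]
    have h1 : Commute t (a0 ^ k) := (show Commute t a0 from hat0.symm).zpow_right k
    calc c * t * c⁻¹ * (c * a0 ^ k * c⁻¹) = c * (t * a0 ^ k) * c⁻¹ := by group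
      _ = c * (a0 ^ k * t) * c⁻¹ := by rw [h1.eq]
      _ = _ := by group
  have htt : IsConj t (c * t * c⁻¹) := isConj_iff.2 ⟨c, rfl⟩
  refine h.not_norm htt ?_
  -- `t'` normalizes `⟨x⟩`
  have h6 : (c * t * c⁻¹) * x * (c * t * c⁻¹)⁻¹ ∈ R ⊓ centralizer ({a} : Set G) := by
    rw [← hEeq]
    exact ⟨_, hEn.conj_mem x' hxN ⟨c * t * c⁻¹, mem_centralizer_singleton_iff.2 htC⟩, rfl⟩
  have h7 : (c * t * c⁻¹) * x * (c * t * c⁻¹)⁻¹ ∈ zpowers x := by
    by_contra hnot
    have hEa := hr.cu.cent_mem haR hax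
    -- `a` is, up to `⟨x⟩`, a power of this element
    obtain ⟨i, d, hd, hi⟩ := exists_pow hr.cu hEa h6 hnot
      (mem_inf.2 ⟨haR, mem_centralizer_singleton_iff.2 rfl⟩ : a ∈ R ⊓ centralizer ({a} : Set G))
    set v := (c * t * c⁻¹) * x * (c * t * c⁻¹)⁻¹ with hv
    have h8 : v ^ i ∉ zpowers x := by
      intro h9
      apply hax
      rw [hi]
      exact mul_mem h9 hd
    obtain ⟨s, hs, hsv⟩ := hr.cu.exists_conj (zpow_mem (mem_inf.1 h6).1 i) h8 hd
    have h10 : IsConj (x ^ i) (v ^ i) := isConj_iff.2 ⟨c * t * c⁻¹, by rw [hv, conj_zpow]⟩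
    have h11 : IsConj (v ^ i) a := isConj_iff.2 ⟨s, by rw [hsv, ← hi]⟩
    exact hza (h.tb_of_pow (h10.trans h11).symm)
  intro d hd
  obtain ⟨j, rfl⟩ := mem_zpowers_iff.1 hd
  rw [← conj_zpow]
  exact zpow_mem h7 j

/-- the mixed pairs -/
theorem D.mmixed (hAA : AAHyp.{u} 13) (h : D x z t Q) (hr : RW x R W) {a b : G} (ha : orderOf a = 13)
    (hb : orderOf b = 13) (hza : ¬ TB z a) (hzb : TB z b) : MPair 13 (⊤ : Subgroup G) a b := by
  obtain ⟨g, hg⟩ := h.bad_mem hr ha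
  have hza' : ¬ TB z (g * a * g⁻¹) := fun h1 => hza (h1.of_isConj (isConj_iff.2 ⟨g, rfl⟩ :
    IsConj a (g * a * g⁻¹)).symm)
  have h1 := h.mmixed_x hAA hr (by rw [orderOf_conj', ha]) hg hza'
  refine MPair.conj_left (mem_top g) ?_
  obtain ⟨k, hk⟩ := h.tb_pow hb hzb
  obtain ⟨c, hc⟩ := isConj_iff.1 hk
  -- `x` is a power of `c b c⁻¹`
  have hne : x ^ k ≠ 1 := by
    intro h2
    rw [← hc] at h2
    have h3 : orderOf (c * b * c⁻¹) = 13 := by rw [orderOf_conj', hb]
    rw [h2, orderOf_one] at h3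
    exact absurd h3 (by norm_num)
  have hp : Fact (Nat.Prime 13) := ⟨by norm_num⟩
  have hcard : Nat.card ↥(zpowers x) = 13 := by rw [Nat.card_zpowers, h.hyp.hx]
  have hgen : (⟨x, mem_zpowers x⟩ : ↥(zpowers x)) ∈
      zpowers (⟨x ^ k, pow_mem (mem_zpowers x) k⟩ : ↥(zpowers x)) :=
    mem_zpowers_of_prime_card hcard (fun h3 => hne (congrArg Subtype.val h3))
  obtain ⟨j, hj⟩ := mem_zpowers_iff.1 hgen
  have hj' : (x ^ k) ^ j = x := congrArg Subtype.val hj
  refine MPair.conj_right (mem_top c) ?_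
  rw [hc]
  obtain ⟨j', hj1⟩ := exists_nat_pow (y := x ^ k) j
  refine MPair.of_pow 1 j' ?_
  rw [hj1, hj', pow_one]
  exact h1

/-- **all pairs of elements of order 13**, non-abelian Sylow subgroups -/
theorem D.mpairs [IsSimpleGroup G] (hAA : AAHyp.{u} 13) (hna : ¬ IsMulCommutative G) (h : D x z t Q)
    (hab : ∀ S : Sylow 13 G, ∃ a ∈ (S : Subgroup G), ∃ b ∈ (S : Subgroup G), a * b ≠ b * a) {a b : G}
    (ha : orderOf a = 13) (hb : orderOf b = 13) : MPair 13 (⊤ : Subgroup G) a b := by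
  have hp : Fact (Nat.Prime 13) := ⟨by norm_num⟩
  have h13 : Nat.Prime 13 := by norm_num
  have hne : ∀ {c : G}, orderOf c = 13 → c ≠ 1 := by
    rintro c hc rfl
    rw [orderOf_one] at hc
    exact absurd hc (by norm_num)
  obtain ⟨R, W, hr⟩ := h.exists_RW hab
  by_cases hza : TB z a <;> by_cases hzb : TB z b
  · obtain ⟨i, hi⟩ := h.tb_pow ha hza
    obtain ⟨j, hj⟩ := h.tb_pow hb hzb
    -- both are conjugate to powers of `x`
    have hcard : Nat.card ↥(zpowers x) = 13 := by rw [Nat.card_zpowers, h.hyp.hx]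
    have hxj : x ^ j ≠ 1 := by
      intro h1
      rw [h1] at hj
      exact hne hb (isConj_one_right.1 hj.symm)
    have hgen : (⟨x ^ i, pow_mem (mem_zpowers x) i⟩ : ↥(zpowers x)) ∈
        zpowers (⟨x ^ j, pow_mem (mem_zpowers x) j⟩ : ↥(zpowers x)) :=
      mem_zpowers_of_prime_card hcard (fun h3 => hxj (congrArg Subtype.val h3))
    obtain ⟨m, hm⟩ := mem_zpowers_iff.1 hgen
    have hm' : (x ^ j) ^ m = x ^ i := congrArg Subtype.val hm
    obtain ⟨c, hc⟩ := isConj_iff.1 hj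
    obtain ⟨d, hd⟩ := isConj_iff.1 hi.symm
    refine mpair_of_isConj_zpow hAA h13 hna ha (s := d * c) (j := m) ?_
    have e : d * c * b * (d * c)⁻¹ = d * (c * b * c⁻¹) * d⁻¹ := by group
    rw [e, conj_zpow, hc, hm', hd]
  · exact (h.mmixed hAA hr hb ha hzb hza).symm
  · exact h.mmixed hAA hr ha hb hza hzb
  · obtain ⟨k, hk⟩ := h.bad_conj' hr hb ha hzb hza
    obtain ⟨c, hc⟩ := isConj_iff.1 hk
    refine mpair_of_isConj_zpow hAA h13 hna ha (s := c) (j := k) ?_
    rw [conj_zpow, hc]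

end

open Cfsg Cfsg.Agent.MonsterX Cfsg.Agent.H106.MAll Cfsg.Agent.H106.MExc Cfsg.Agent.H106.InnerAb
open Cfsg.Agent.H193.StrP (SporRow)

/-- the AA-theorem in a smaller universe -/
theorem aahyp_down {p : ℕ} (h : AAHyp.{u} p) : AAHyp.{0} p := by
  intro K _ _ x hx hgx
  let e : ULift.{u} K ≃* K := MulEquiv.ulift
  have h1 := h (ULift.{u} K) (e.symm x) (by rw [MulEquiv.orderOf_eq, hx]) (fun g => by
    obtain ⟨k, hk⟩ := hgx (e g)
    refine ⟨k, e.injective ?_⟩
    rw [map_pow, map_mul, map_mul, map_mul, map_inv, e.apply_symm_apply, hk, map_one])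
  have h2 : Subgroup.closure {y : K | ∃ g : K, y = g * x * g⁻¹} =
      (Subgroup.closure {y : ULift.{u} K | ∃ g : ULift.{u} K, y = g * e.symm x * g⁻¹}).map (e : ULift.{u} K →* K) := by
    rw [MonoidHom.map_closure]
    congr 1
    ext y
    constructor
    · rintro ⟨g, rfl⟩
      refine ⟨e.symm g * e.symm x * (e.symm g)⁻¹, ⟨e.symm g, rfl⟩, ?_⟩
      show e (e.symm g * e.symm x * (e.symm g)⁻¹) = _
      rw [map_mul, map_mul, map_inv, e.apply_symm_apply, e.apply_symm_apply]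
    · rintro ⟨_, ⟨g, rfl⟩, rfl⟩
      refine ⟨e g, ?_⟩
      show e (g * e.symm x * g⁻¹) = _
      rw [map_mul, map_mul, map_inv, e.apply_symm_apply]
  rw [h2]
  exact Group.isSolvable_of_surjective (f := (e : ULift.{u} K →* K).subgroupMap _)
    ((e : ULift.{u} K →* K).subgroupMap_surjective _)

theorem model_na (hS : IsSimpleGroup ↥InstData.M.G) : ¬ IsMulCommutative ↥InstData.M.G := by
  intro hc
  let _ : CommGroup ↥InstData.M.G :=
    { (inferInstance : Group ↥InstData.M.G) with mul_comm := fun a b => hc.is_comm.comm a b }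
  have hfin := MFive.Row.finite_model
  have h2 : (Nat.card ↥InstData.M.G).Prime := IsSimpleGroup.prime_card
  rw [Cfsg.Agent.MonsterP.EquivOf.isM_model.2] at h2
  revert h2
  norm_num

/-- **the middle row of the Monster, `p = 13`** -/
theorem rowFam_m13 (B : Box.{u} 13) (hS : SporRow.{u}) : RowFam.{u} 13 (fun K _ => Spor.IsoM K) := by
  intro K _ _ _ hna h hlt
  have hp : Fact (Nat.Prime 13) := ⟨by norm_num⟩
  obtain ⟨f⟩ := id h
  obtain ⟨f'⟩ := Cfsg.Agent.MonsterP.Equiv.equiv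
  let e : K ≃* ↥InstData.M.G := f.trans f'
  refine MRow.of_inner hna (fun a ha => ?_) ?_
  · obtain ⟨g, hg⟩ := Cfsg.Agent.BpSpor.Inn.m h 13 (by norm_num) (by norm_num) a ha
    exact ⟨g, hg.symm⟩
  by_cases hab : ∀ S : Sylow 13 K, ∃ a ∈ (S : Subgroup K), ∃ b ∈ (S : Subgroup K), a * b ≠ b * a
  · intro x y hx hy
    have hfin := MFive.Row.finite_model
    have hsim := MFive.Row.simple_model
    obtain ⟨x0, z0, t0, Q0, hD⟩ := model_D
    refine (hD.mpairs (aahyp_down B.aa) (model_na hsim) ?_ (a := e x) (b := e y) ?_ ?_).of_hom e.toMonoidHom ?_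
    · intro S
      have h1 : IsPGroup 13 ↥((S : Subgroup ↥InstData.M.G).comap e.toMonoidHom) :=
        S.2.comap_of_injective e.toMonoidHom e.injective
      have h2 : ¬ 13 ∣ ((S : Subgroup ↥InstData.M.G).comap e.toMonoidHom).index := by
        rw [Subgroup.index_comap_of_surjective _ e.surjective]
        exact S.not_dvd_index
      obtain ⟨a, ha, b, hb, hab'⟩ := hab (h1.toSylow h2)
      exact ⟨e a, ha, e b, hb, fun h3 => hab' (e.injective (by rw [map_mul, map_mul, h3]))⟩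
    · rw [MulEquiv.orderOf_eq, hx]
    · rw [MulEquiv.orderOf_eq, hy]
    · intro w _
      exact ⟨e.symm w, Subgroup.mem_top _, e.apply_symm_apply w⟩
  · push Not at hab
    obtain ⟨S, hSc⟩ := hab
    have hrow : Cfsg.Agent.H818.StrP.Row 13 K := by
      rcases hS 13 (by norm_num) K (by unfold IsSporadicGroup; simp only [h, true_or, or_true]) with h1 | ⟨h1, -⟩ | ⟨h1, -⟩ | ⟨h1, -⟩ | ⟨h1, -⟩
      · exact h1
      all_goals exact absurd h1 (by norm_num)
    refine inner_of_row B.aa B.irr hna hrow (fun P => ?_) hlt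
    refine ⟨⟨fun a b => (Sylow.equiv P S).injective ?_⟩⟩
    rw [map_mul, map_mul]
    exact Subtype.ext (hSc _ ((Sylow.equiv P S) a).2 _ ((Sylow.equiv P S) b).2)

end Cfsg.Agent.H131.T5M13
end

-- part: H106/MOwnTw
section
/-!
# `²E₆(q)`, `³D₄(q)` in their own characteristic: the middle rows

`ownT` : the family row for `IsTwistedE6D4Char p`, `p ≥ 5`.
-/

set_option autoImplicit false
set_option linter.unusedSectionVars false
set_option maxHeartbeats 400000

universe u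

namespace Cfsg.Agent.H106.MOwnTw

open CoxeterSystem Cfsg.Agent.ChevalleyStructure.CoxeterGeom Cfsg.Agent.Tits.Roots Cfsg.Agent.Tits.Core
  Cfsg.Agent.Nodes.Reps Cfsg.Agent.Nodes.BNOf Cfsg.Agent.Nodes.StabComb Cfsg.Agent.Nodes.LeviDec
open Cfsg.Lie Cfsg.Agent.ChevalleyStructure
open Cfsg.Agent.H533.T5 Cfsg.Agent.H957.T5M Cfsg.Agent.H798.T5Geo Cfsg.Agent.H106.MAll

section D4

open Cfsg.Agent.Nodes.RGDTwD4

variable {K : Type} [Field K] [Fintype K] {p : ℕ} [Fact p.Prime] [CharP K p] {q : ℕ} {φ : K →+* K}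
  (hφ : ∀ x, φ x = x ^ q) (hK : Fintype.card K = q ^ 3)

local notation "cG" => CoxeterMatrix.toCoxeterSystem CoxeterMatrix.G₂

include hφ hK in
/-- the special pairs of `³D₄(q)` -/
theorem mpair_D4 (h5 : 5 ≤ p) {x y : ↥(twistedD4 K q)}
    (hx : NT cG Nodes.RGDTwD4.isCartan (X φ q) x 0)
    (hy : NT cG Nodes.RGDTwD4.isCartan (X φ q) y 1) (hy0 : ¬ NT cG Nodes.RGDTwD4.isCartan (X φ q) y 0) :
    MPair p (⊤ : Subgroup ↥(twistedD4 K q)) x y := by
  have hW : Finite (CoxeterMatrix.G₂).Group := H798.T5Tw.finW_D4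
  have R := Cfsg.Agent.Nodes.RGDTwD4.rgd cG hK hφ p
  obtain ⟨g0, hd1, hd2⟩ := hy
  obtain ⟨g1, hc1, hc2⟩ := hx
  have hV := fun g => mem_V_of_not_NT hy0 g
  have hd3 := hV g0 hd1
  by_cases hex : ∃ g ∈ PJ cG Nodes.RGDTwD4.isCartan (T K q) (X φ q) {0},
      g * (g0 * y * g0⁻¹) * g⁻¹ ∈ VJ cG Nodes.RGDTwD4.isCartan (X φ q) {1}
  · exfalso
    obtain ⟨y', hy1, hy2⟩ := H798.T5Bond.exists_ball_of_mem R hd2 hy0 hex
    refine H798.T5GFour.ball_false_of_G2 R (i := 0) (j := 1)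
      ⟨by decide, by decide, by decide, H798.T5Tw.intComm_D4 p hφ hK⟩ (by decide) h5
      (e := y' * y * y'⁻¹) (fun h1 => hy1 (by rw [h1]; exact one_mem _)) hy2 ?_
    exact fun h1 => hy0 (h1.of_conj y')
  · push Not at hex
    refine MPair.conj_right (s := g0) (Subgroup.mem_top _) (MPair.conj_left (s := g1) (Subgroup.mem_top _) ?_)
    refine MTwD4.mpair_only hK hφ cG h5 hc1 hc2 fun g hg => ⟨?_, hex g hg⟩
    exact VJ_le_U _ ((P_conj_V R hg).2 hd3)

end D4

section Rows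

variable (p : ℕ) [Fact p.Prime] (h5 : 5 ≤ p) (K : Type) [Field K] [Fintype K] [CharP K p] {q : ℕ}

include h5

/-- **`³D₄(q)`, own characteristic.** -/
theorem mrow_3D4 (hq : IsPrimePow q) (hK : Fintype.card K = q ^ 3) : MRow p ↥(twistedD4 K q) := by
  obtain ⟨hs, hna⟩ := Cfsg.Agent.S1071.result hq hK
  obtain ⟨φ, hφ⟩ := D4Fixed.exists_frob hq hK
  exact H798.T5Tw.mrow_D4_of p hφ hK h5 hq hna fun x y _ _ _ _ h1 _ h3 h4 => mpair_D4 hφ hK h5 h1 h3 h4

/-- **`²E₆(q)`, own characteristic.** -/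
theorem mrow_2E6 (hq : IsPrimePow q) (hK : Fintype.card K = q ^ 2)
    (hlt : Below.{u} p (Nat.card ↥(twistedE6 K q))) : MRow p ↥(twistedE6 K q) := by
  obtain ⟨hs, hna⟩ := Cfsg.Agent.S1070.result hq hK
  obtain ⟨φ, hφ, hqq⟩ := TwE6Basic.exists_frob hq hK
  exact H798.T5Tw.mrow_E6_of p hφ hqq h5 hq hK hna fun x y _ _ _ _ h1 _ h3 _ =>
    H862.T5.E6Pair.mpair_of_NT hφ hK CoxeterMatrix.F₄.toCoxeterSystem h5 hlt (i := 0) (j := 1) h1 h3

end Rows

/-- **The own characteristic rows of `²E₆`, `³D₄`.** -/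
theorem ownT {p : ℕ} (hp : p.Prime) (h5 : 5 ≤ p) : RowFam.{u} p (fun S _ => IsTwistedE6D4Char p S) := by
  have hpf : Fact p.Prime := ⟨hp⟩
  intro S _ _ _ hna h hlt
  obtain ⟨K, _, _, _, q, hq, ⟨hK, ⟨e⟩⟩ | ⟨hK, ⟨e⟩⟩⟩ := h
  · refine H897.T5Sub.MRow.congr e.symm (mrow_2E6 p h5 K hq hK ?_)
    rw [← Nat.card_congr e.toEquiv]
    exact hlt
  · exact H897.T5Sub.MRow.congr e.symm (mrow_3D4 p h5 K hq hK)

end Cfsg.Agent.H106.MOwnTw
end

-- part: H106/MFinal
section
/-!
# S2275: the final assembly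
-/

set_option autoImplicit false

universe u

namespace Cfsg.Agent.H106.MFinal

open Cfsg Cfsg.Agent.H533.T5 Cfsg.Agent.H957.T5M Cfsg.Agent.H106.MB Cfsg.Agent.H106.MT
open Cfsg.Agent.H106.MAll Cfsg.Agent.H106.InnerAb Cfsg.Agent.H106.MExc Cfsg.Agent.H106.MExcAll
open Cfsg.Agent.H193.StrP (LieRow SporRow TitsRow)
open Cfsg.Agent.H818.StrP (NoSP noSP_congr)

/-- The classification. -/
theorem known (S : Type u) [Group S] [Finite S] [IsSimpleGroup S] : IsKnownSimple' S :=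
  Cfsg.Agent.S0000.result

/-- S3833. -/
theorem aahyp {p : ℕ} (hp : p.Prime) : AAHyp.{u} p := by
  intro K _ _ x hx h
  have := Fact.mk hp
  refine (Cfsg.Agent.S3833.result (p := p) {y : K | ∃ g : K, y = g * x * g⁻¹} ⟨x, 1, by simp⟩ ?_ ?_ ?_).1
  · rintro g _ ⟨k, rfl⟩
    exact ⟨g * k, by group⟩
  · rintro _ ⟨k, rfl⟩
    rw [← hx]
    exact orderOf_injective (MulAut.conj k).toMonoidHom (MulAut.conj k).injective x
  · rintro _ ⟨a, rfl⟩ _ ⟨b, rfl⟩
    obtain ⟨k, hk⟩ := h (a⁻¹ * b)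
    have h1 : a * x * a⁻¹ * (b * x * b⁻¹) = a * (x * (a⁻¹ * b * x * (a⁻¹ * b)⁻¹)) * a⁻¹ := by group
    have h2 : (a * x * a⁻¹ * (b * x * b⁻¹)) ^ p ^ k = 1 := by
      rw [h1, conj_pow, hk, mul_one, mul_inv_cancel]
    obtain ⟨j, -, hj⟩ := (Nat.dvd_prime_pow hp).1 (orderOf_dvd_of_pow_eq_one h2)
    exact ⟨j, hj⟩

/-- S5303. -/
theorem irrhyp {p : ℕ} (hp : p.Prime) : IrrHyp.{u} p := by
  intro G _ _ _ hG P hP hab Ω hΩ B hB hn
  have := Fact.mk hp
  exact (Cfsg.Agent.S5303.result hG p P hP hab Ω hΩ).1 B hB hn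

/-- The cross characteristic rows of S2120. -/
theorem lieRow : LieRow.{u} :=
  H193.StrP.lieRow (H193.StrP.lieOpen_of (fun h _ _ hp2 => H496.SpTwF.RowFin.row_2F4 h hp2))

/-- The sporadic rows of S2120. -/
theorem sporRow : SporRow.{u} := H193.StrP.sporRow
  { th5 := fun _ _ _ h => H49.ThFive.nosp_th_5 OrdDiv.table.{0} (fun S _ _ _ => known S) h
    m11 := fun _ _ _ h => H746.MEleven.nosp_m_11 OrdDiv.table.{0} (fun S _ _ _ => known S) h
    m13 := fun _ _ _ h => H154.StrP.M13.nosp_m_13 OrdDiv.table.{0} (fun S _ _ _ => known S) h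
    te6 := by
      intro K _ _ hK p hp
      simp only [List.mem_cons, List.not_mem_nil, or_false] at hp
      rcases hp with rfl | rfl | rfl
      · exact H810.StrP.TwE6Two.noSP3 hK
      · exact H810.StrP.TwE6Two.noSP5 hK
      · exact H810.StrP.TwE6Two.noSP7 hK
    known := fun S _ _ _ => known S }

/-- S2120 for simple groups. -/
theorem seHyp {p : ℕ} (hp : p.Prime) (h5 : 5 ≤ p) : SEHyp.{u} p := by
  intro G _ _ hs hna hcy hex
  have hpf : Fact p.Prime := ⟨hp⟩
  have hp2 : p ≠ 2 := by omega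
  rcases Cfsg.Agent.PreUniq.known_cases (known G) with h | h | ⟨r, hr, h⟩ | h | h
  · exfalso
    apply hna
    have h1 : Fact (Nat.card G).Prime := ⟨h⟩
    have h2 : IsCyclic G := isCyclic_of_prime_card (p := Nat.card G) rfl
    exact IsCyclic.isMulCommutative
  · obtain ⟨n, hn, ⟨e⟩⟩ := h
    rcases lt_trichotomy n (2 * p) with h1 | h1 | h1
    · exfalso
      refine hcy fun P => H193.StrP.cyclic_of_not_sq ?_ P
      intro h2
      apply H193.StrP.not_sq_dvd_factorial h1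
      rw [← H193.StrP.card_alt n (by omega), ← Nat.card_congr e.toEquiv]
      exact h2.mul_left 2
    · subst h1
      exact absurd (Or.inr (Or.inr (Or.inr (Or.inl ⟨e⟩)))) hex
    · exact noSP_congr e.symm (H818.StrP.Alt.noSP_alt hp2 (by omega))
  · have hrf : Fact r.Prime := ⟨hr⟩
    by_cases hpr : p = r
    · subst hpr
      rcases H818.StrP.Own.own hp2 h with h1 | h1 | h1 | h1
      · exact h1
      · exact absurd (Or.inl h1) hex
      · exact absurd (Or.inr (Or.inl h1)) hex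
      · omega
    · rcases lieRow r p hp2 hpr G hs hna h with (h1 | h1) | ⟨h1, -⟩
      · exact absurd h1 hcy
      · exact h1
      · omega
  · by_cases hp5 : p = 5
    · exact absurd (Or.inr (Or.inr (Or.inr (Or.inr (Or.inl ⟨hp5, Or.inl h⟩))))) hex
    · rcases H193.StrP.titsRow p hp2 hp5 G h with h1 | h1
      · exact absurd h1 hcy
      · exact h1
  · rcases sporRow p hp2 G h with (h1 | h1) | ⟨h1, -⟩ | ⟨h1, h2⟩ | ⟨h1, h2⟩ | ⟨h1, h2⟩
    · exact absurd h1 hcy
    · exact h1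
    · omega
    · exact absurd (Or.inr (Or.inr (Or.inr (Or.inr (Or.inl ⟨h1, Or.inr (Or.inr (Or.inl h2))⟩))))) hex
    · exact absurd (Or.inr (Or.inr (Or.inr (Or.inr (Or.inl ⟨h1, Or.inr (Or.inr (Or.inr h2))⟩))))) hex
    · exact absurd (Or.inr (Or.inr (Or.inr (Or.inr (Or.inr ⟨h1, h2⟩))))) hex

theorem box {p : ℕ} (hp : p.Prime) : Box.{u} p where
  aa := aahyp hp
  irr := irrhyp hp
  lie := lieRow

/-- The own characteristic rows of `G₂, F₄, E₆, E₇, E₈`. -/
theorem ownC {p : ℕ} (hp : p.Prime) (h5 : 5 ≤ p) :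
    RowFam.{u} p (fun S _ => IsExceptionalChevChar p S) := by
  rintro S _ _ _ - ⟨F, _, _, hF, h⟩ -
  have := Fact.mk hp
  rcases h with ⟨-, ⟨e⟩⟩ | ⟨⟨e⟩⟩ | ⟨⟨e⟩⟩ | ⟨⟨e⟩⟩ | ⟨⟨e⟩⟩
  · exact MRow.congr e (H798.T5Untw.mrow_G2 p h5 F)
  · exact MRow.congr e (H798.T5Untw.mrow_F4 p h5 F)
  · exact MRow.congr e (H798.T5Untw.mrow_E6 p h5 F)
  · exact MRow.congr e (H798.T5Untw.mrow_E7 p h5 F)
  · exact MRow.congr e (H798.T5Untw.mrow_E8 p h5 F)

theorem cast_ne {p : ℕ} (hp : p.Prime) {F : Type} [Field F] [Fintype F] (h : ¬ p ∣ Fintype.card F) :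
    (p : F) ≠ 0 := by
  intro h0
  apply h
  have h1 : ringChar F ∣ p := (ringChar.spec F p).1 h0
  have h2 : ringChar F = p := ((Nat.dvd_prime hp).1 h1).resolve_left (CharP.ringChar_ne_one)
  obtain ⟨m, -, hm⟩ := FiniteField.card F (ringChar F)
  rw [hm, h2]
  exact dvd_pow_self p m.ne_zero

/-- `(M, 13)` -/
theorem m13 : H143.T5SporM.R.{u} 13 (fun K _ => Spor.IsoM K) :=
  H131.T5M13.rowFam_m13 (box (by norm_num)) sporRow

/-- **All middle rows.** -/
theorem all {p : ℕ} (hp : p.Prime) (h5 : 5 ≤ p) :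
    ∀ (S : Type u) [Group S] [Finite S], IsSimpleGroup S → ¬ IsMulCommutative S → MRow p S :=
  mrow_all hp h5 (fun S _ _ _ => known S) (MClass.rowFam_psp hp h5
    fun _ _ _ _ hm hm2 h => H957.T5RowPSp.mrow_psp hm hm2 hp h5 (cast_ne hp h)) (MClass.rowFam_psu hp h5)
    (MClass.rowFam_odd hp h5 (aahyp hp)) (MClass.rowFam_plus hp h5 (aahyp hp))
    (MClass.rowFam_minus hp h5 (aahyp hp))
    (rowFam_exc hp h5 (box hp) H28.T5AbFacts.abFacts H193.StrP.titsRow (ownC hp h5) (MOwnTw.ownT hp h5))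
    (H143.T5SporM.rowFam_spor (MSporAll.sporBig (aahyp Nat.prime_five) m13) hp h5 (aahyp hp)
      (irrhyp hp) (seHyp hp h5))

end Cfsg.Agent.H106.MFinal
end
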